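import Cfsg.Agent.Chevalley.GoodG2
import Cfsg.Agent.Chevalley.CommChecks
import Cfsg.Agent.Chevalley.Commutator
import Cfsg.Agent.Chevalley.UnipotentMain
import Cfsg.Agent.Chevalley.Reflection
import Cfsg.Agent.Chevalley.WeylChecks
import Cfsg.Agent.Chevalley.BNPair
import Cfsg.Agent.ChevSimple.Simple
import Cfsg.Agent.ChevSimple.Perfect
import Cfsg.Agent.Weyl.RootG2

/-!
The table checks for type G₂ alone, and simplicity of `G₂(K)` over a field with more than two elements.
-/

set_option autoImplicit false

namespace CfsgLib.ReeG2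

open Cfsg.Lie CfsgLib.Chevalley

theorem commG2 : chkComm chevG2 = true := by decide +kernel
theorem primG2 : chkPrimitive chevG2 = true := by decide +kernel

theorem refl0G2 : chkRefl chevG2 0 = true := by decide +kernel
theorem refl1G2 : chkRefl chevG2 1 = true := by decide +kernel

theorem reflAllG2 : chkReflAll chevG2 = true := by
  rw [chkReflAll, show List.range chevG2.rank = [0, 1] from by decide +kernel]
  simp [refl0G2, refl1G2]

theorem descentG2 : chkDescent chevG2 = true := by decide +kernel

theorem goodW : GoodWeyl chevG2 := ⟨⟨⟨good_chevG2, commG2⟩, primG2⟩, reflAllG2, descentG2⟩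

theorem simple_of_two_ne {K : Type*} [Field K] (h2 : (2 : K) ≠ 0) :
    IsSimpleGroup ↥(chevG2.group K) := by
  have hperf : commutator ↥(chevG2.group K) = ⊤ := by
    refine ChevSimple.commutator_eq_top_of_big goodW (ChevSimple.chkPerfectBig_of_mem (by simp))
      ⟨-1, by simp, fun h => h2 (by linear_combination -h)⟩
  obtain ⟨P, hB, -, hS⟩ := exists_bnPair (F := K) goodW Weyl.rootG2_good
  exact (ChevSimple.isSimple_of_bnPair goodW (by decide) (ChevSimple.chkIrr_of_mem (by simp))
    (borel_inf_monomial goodW Weyl.rootG2_good).le hperf P hB hS).1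

end CfsgLib.ReeG2
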