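import Cfsg.Agent.Chevalley.GoodG2
import Cfsg.Agent.Chevalley.Element
import Mathlib

/-!
The two seven dimensional blocks of the adjoint representation of type G₂ in characteristic three: the
ideal of the short roots and the quotient by it. The quotient block of `x_r(t)` is the ideal block of
`x_{r̄}(t^λ)`, `λ = 3` for short `r` and `1` for long `r`.
-/

set_option autoImplicit false

namespace CfsgLib.ReeG2

open Cfsg.Lie CfsgLib.Chevalley

/-- The coordinates. -/
abbrev I : Type := chevG2.Idx

/-- The roots. -/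
abbrev R0 : Type := Root chevG2

/-- A root by index. -/
def rt (n : ℕ) (h : n < 12 := by decide) : R0 := ⟨n, h⟩

/-- The coordinates of the short block. -/
def sI : Fin 7 → I :=
  ![Sum.inl (0 : Fin 2), Sum.inr (rt 2), Sum.inr (rt 3), Sum.inr (rt 4), Sum.inr (rt 7),
    Sum.inr (rt 8), Sum.inr (rt 9)]

/-- The coordinates of the long block, in the matching order. -/
def lI : Fin 7 → I :=
  ![Sum.inl (1 : Fin 2), Sum.inr (rt 0), Sum.inr (rt 1), Sum.inr (rt 5), Sum.inr (rt 6),
    Sum.inr (rt 10), Sum.inr (rt 11)]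

/-- The exchange of short and long roots. -/
def bar : R0 → R0 :=
  ![rt 2, rt 3, rt 0, rt 1, rt 5, rt 4, rt 7, rt 6, rt 10, rt 11, rt 8, rt 9]

/-- `3` on short roots, `1` on long roots. -/
def lam : R0 → ℕ := ![1, 1, 3, 3, 3, 1, 1, 3, 3, 3, 1, 1]

theorem bar_bar : ∀ r, bar (bar r) = r := by decide
theorem bar_rev : ∀ r : R0, bar r.rev = (bar r).rev := by decide
theorem lam_rev : ∀ r : R0, lam r.rev = lam r := by decide
theorem lam_cases : ∀ r, lam r = 3 ∧ lam (bar r) = 1 ∨ lam r = 1 ∧ lam (bar r) = 3 := by decide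

theorem blocks_bijective : Function.Bijective (Sum.elim sI lI) := by
  rw [Fintype.bijective_iff_injective_and_card]
  refine ⟨?_, rfl⟩
  intro x y
  revert x y
  decide

/-- The blocks as a partition of the coordinates. -/
noncomputable def blocks : Fin 7 ⊕ Fin 7 ≃ I := Equiv.ofBijective _ blocks_bijective

/-- An entry of a divided power. -/
def ent (r : R0) (k : ℕ) (a b : I) : ℤ :=
  entVal (ents chevG2 r k) (finSumFinEquiv a : ℕ) (finSumFinEquiv b : ℕ)

theorem ent_eq (r : R0) {k : ℕ} (hk : k ≠ 0) (a b : I) : E chevG2 r k a b = ent r k a b :=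
  E_apply r hk a b

/-- The congruences behind the exchange of the blocks. -/
def chkBlocks : Bool :=
  (List.finRange 12).all fun r => [1, 2, 3].all fun k =>
    (List.finRange 7).all fun a => (List.finRange 7).all fun b =>
      decide (ent r k (lI a) (sI b) % 3 = 0) &&
        (if lam r = 1 then decide ((ent r k (lI a) (lI b) - ent (bar r) k (sI a) (sI b)) % 3 = 0)
        else if k = 3 then
          decide ((ent r k (lI a) (lI b) - ent (bar r) 1 (sI a) (sI b)) % 3 = 0)
        else decide (ent r k (lI a) (lI b) % 3 = 0) &&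
          decide (ent (bar r) (k + 1) (sI a) (sI b) % 3 = 0))

theorem chkBlocks_eq : chkBlocks = true := by decide +kernel

variable {R : Type*} [CommRing R] [CharP R 3]

theorem cast_eq {m n : ℤ} (h : (m - n) % 3 = 0) : (m : R) = n :=
  ((CharP.intCast_eq_intCast R 3).2 (Int.modEq_iff_dvd.2
    (by push_cast; exact Int.dvd_of_emod_eq_zero (by omega))))

theorem cast_zero {m : ℤ} (h : m % 3 = 0) : (m : R) = 0 := by
  rw [cast_eq (R := R) (n := 0) (by simpa using h), Int.cast_zero]

theorem spec_zero (r : R0) (k : ℕ) (hk : k ∈ [1, 2, 3]) (a b : Fin 7) :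
    ((ent r k (lI a) (sI b) : ℤ) : R) = 0 := by
  have h := chkBlocks_eq
  simp only [chkBlocks, List.all_eq_true, Bool.and_eq_true, decide_eq_true_eq] at h
  exact cast_zero (h r (List.mem_finRange _) k hk a (List.mem_finRange _) b (List.mem_finRange _)).1

theorem spec_long {r : R0} (hr : lam r = 1) (k : ℕ) (hk : k ∈ [1, 2, 3]) (a b : Fin 7) :
    ((ent r k (lI a) (lI b) : ℤ) : R) = ent (bar r) k (sI a) (sI b) := by
  have h := chkBlocks_eq
  simp only [chkBlocks, List.all_eq_true, Bool.and_eq_true] at h
  have h' := (h r (List.mem_finRange _) k hk a (List.mem_finRange _) b (List.mem_finRange _)).2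
  rw [if_pos hr] at h'
  exact cast_eq (of_decide_eq_true h')

theorem spec_short {r : R0} (hr : lam r = 3) (a b : Fin 7) :
    ((ent r 1 (lI a) (lI b) : ℤ) : R) = 0 ∧ ((ent r 2 (lI a) (lI b) : ℤ) : R) = 0 ∧
      ((ent r 3 (lI a) (lI b) : ℤ) : R) = ent (bar r) 1 (sI a) (sI b) ∧
      ((ent (bar r) 2 (sI a) (sI b) : ℤ) : R) = 0 ∧ ((ent (bar r) 3 (sI a) (sI b) : ℤ) : R) = 0 := by
  have h := chkBlocks_eq
  simp only [chkBlocks, List.all_eq_true, Bool.and_eq_true] at h
  have h1 := (h r (List.mem_finRange _) 1 (by simp) a (List.mem_finRange _) b (List.mem_finRange _)).2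
  have h2 := (h r (List.mem_finRange _) 2 (by simp) a (List.mem_finRange _) b (List.mem_finRange _)).2
  have h3 := (h r (List.mem_finRange _) 3 (by simp) a (List.mem_finRange _) b (List.mem_finRange _)).2
  rw [if_neg (by omega), if_neg (by omega), Bool.and_eq_true] at h1 h2
  rw [if_neg (by omega), if_pos rfl] at h3
  exact ⟨cast_zero (of_decide_eq_true h1.1), cast_zero (of_decide_eq_true h2.1),
    cast_eq (of_decide_eq_true h3), cast_zero (of_decide_eq_true h1.2),
    cast_zero (of_decide_eq_true h2.2)⟩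

/-- The short block of a matrix. -/
def subM (g : Matrix I I R) : Matrix (Fin 7) (Fin 7) R := g.submatrix sI sI

/-- The long block of a matrix. -/
def quoM (g : Matrix I I R) : Matrix (Fin 7) (Fin 7) R := g.submatrix lI lI

/-- The short block spans an invariant subspace. -/
def Preserves (g : Matrix I I R) : Prop := ∀ a b, g (lI a) (sI b) = 0

theorem xR_apply (r : R0) (t : R) (a b : I) :
    xR chevG2 R r t a b = (1 : Matrix I I R) a b +
      (t * (ent r 1 a b : R) + t ^ 2 * (ent r 2 a b : R) + t ^ 3 * (ent r 3 a b : R)) := by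
  simp only [xR, Finset.sum_range_succ, Finset.sum_range_zero, Matrix.add_apply, Matrix.smul_apply,
    Matrix.map_apply, E_zero, ent_eq, smul_eq_mul, pow_zero, pow_one, one_mul, zero_add,
    ne_eq, one_ne_zero, not_false_eq_true, OfNat.ofNat_ne_zero]
  rw [Matrix.one_apply, Matrix.one_apply]
  split_ifs <;> simp [add_assoc]

theorem sI_injective : Function.Injective sI := by decide
theorem lI_injective : Function.Injective lI := by decide
theorem lI_ne_sI : ∀ a b, lI a ≠ sI b := by decide

theorem preserves_xR (r : R0) (t : R) : Preserves (xR chevG2 R r t) := by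
  intro a b
  rw [xR_apply, Matrix.one_apply_ne (lI_ne_sI a b), spec_zero r 1 (by simp), spec_zero r 2 (by simp),
    spec_zero r 3 (by simp)]
  ring

theorem quoM_xR (r : R0) (t : R) :
    quoM (xR chevG2 R r t) = subM (xR chevG2 R (bar r) (t ^ lam r)) := by
  ext a b
  show xR chevG2 R r t (lI a) (lI b) = xR chevG2 R (bar r) (t ^ lam r) (sI a) (sI b)
  rw [xR_apply, xR_apply, Matrix.one_apply, Matrix.one_apply]
  simp only [lI_injective.eq_iff, sI_injective.eq_iff]
  rcases lam_cases r with ⟨h, -⟩ | ⟨h, -⟩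
  · obtain ⟨h1, h2, h3, h4, h5⟩ := spec_short (R := R) h a b
    rw [h, h1, h2, h3, h4, h5]
    ring
  · rw [h, spec_long h 1 (by simp), spec_long h 2 (by simp), spec_long h 3 (by simp), pow_one]

theorem sum_blocks (f : I → R) : ∑ i, f i = (∑ k, f (sI k)) + ∑ k, f (lI k) := by
  rw [← Equiv.sum_comp blocks, Fintype.sum_sum_type]
  rfl

theorem Preserves.mul {g h : Matrix I I R} (hg : Preserves g) (hh : Preserves h) :
    Preserves (g * h) := by
  intro a b
  rw [Matrix.mul_apply, sum_blocks]
  simp [hg a _, hh _ b]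

theorem Preserves.one : Preserves (1 : Matrix I I R) := fun a b =>
  Matrix.one_apply_ne (lI_ne_sI a b)

theorem subM_mul {g h : Matrix I I R} (hh : Preserves h) : subM (g * h) = subM g * subM h := by
  ext a b
  show (g * h) (sI a) (sI b) = _
  rw [Matrix.mul_apply, sum_blocks, Matrix.mul_apply]
  simp [subM, hh _ b]

theorem quoM_mul {g h : Matrix I I R} (hg : Preserves g) : quoM (g * h) = quoM g * quoM h := by
  ext a b
  show (g * h) (lI a) (lI b) = _
  rw [Matrix.mul_apply, sum_blocks, Matrix.mul_apply]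
  simp [quoM, hg a _]

theorem subM_one : subM (1 : Matrix I I R) = 1 := Matrix.submatrix_one _ sI_injective
theorem quoM_one : quoM (1 : Matrix I I R) = 1 := Matrix.submatrix_one _ lI_injective

end CfsgLib.ReeG2
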