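import Cfsg.Agent.ReeG2.Torus
import Mathlib

/-!
`²G₂(q)`: the group generated by the fixed words is the group of all `σ`-fixed points; Bruhat normal
form, torus, monomial elements, order.
-/

set_option autoImplicit false
set_option linter.unusedSectionVars false
set_option linter.style.haveILetI false

namespace CfsgLib.ReeG2

open Cfsg.Lie CfsgLib.Chevalley

variable {K : Type*} [Field K] [CharP K 3]

variable (K) in
/-- The twisted group, with `θ = (·) ^ 3 ^ m`. -/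
abbrev Tw (m : ℕ) : Subgroup (GL I K) := twistedG2 K (3 ^ m)

theorem wordG_injOn {v w : ↥(GG K)}
    (h : ((v : GL I K) : Matrix I I K) = ((w : GL I K) : Matrix I I K)) : v = w :=
  Subtype.ext (Units.ext h)

theorem wordU_eq_wordG (m : ℕ) (t u v : K) : wordU m t u v = wordG (reeWordU (3 ^ m) t u v) :=
  wordG_injOn (by rw [coe_wordU, coe_wordG, coe_wordGL])

theorem nu_wordG : ∀ w : List (ℕ × K), (∀ p ∈ w, p.1 < 12) →
    nu K (wordG w) = wordG (chevG2.negWord w)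
  | [], _ => map_one _
  | (r, t) :: w, h => by
    have hr : r < 12 := h (r, t) List.mem_cons_self
    have ih := nu_wordG w fun q hq => h q (List.mem_cons_of_mem _ hq)
    have hn : ∀ r : Fin 12, chevG2.negIdx.getD (r : ℕ) 0 = ((r.rev : Fin 12) : ℕ) := by decide
    simp only [ChevalleyDatum.negWord, wordG, List.map_cons, List.prod_cons] at ih ⊢
    rw [map_mul, ih, dif_pos hr, nu_xG,
      dif_pos (show chevG2.negIdx.getD r 0 < 12 by rw [hn ⟨r, hr⟩]; exact Fin.isLt _)]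
    congr 2
    exact Fin.ext (hn ⟨r, hr⟩).symm

theorem reeWordU_lt (e : ℕ) (t u v : K) : ∀ p ∈ reeWordU e t u v, p.1 < 12 := by
  intro p hp
  simp only [reeWordU, List.mem_cons, List.not_mem_nil, or_false] at hp
  rcases hp with rfl | rfl | rfl | rfl | rfl | rfl <;>
    simp [g2a, g2b, g2ab, g2aab, g2aaab, g2aaabb]

theorem coe_nu_wordU (m : ℕ) (t u v : K) :
    (((nu K (wordU m t u v) : ↥(GG K)) : GL I K) : Matrix I I K) =
      chevG2.wordMat K (reeWordV (3 ^ m) t u v) := by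
  rw [wordU_eq_wordG, nu_wordG _ (reeWordU_lt _ _ _ _), coe_wordG, coe_wordGL]
  rfl

theorem wordU_mem_tw (m : ℕ) (t u v : K) : ((wordU m t u v : ↥(GG K)) : GL I K) ∈ Tw K m :=
  Subgroup.subset_closure ⟨_, ⟨t, u, v, Or.inl rfl⟩, coe_wordU m t u v⟩

theorem nu_wordU_mem_tw (m : ℕ) (t u v : K) :
    ((nu K (wordU m t u v) : ↥(GG K)) : GL I K) ∈ Tw K m :=
  Subgroup.subset_closure ⟨_, ⟨t, u, v, Or.inr rfl⟩, coe_nu_wordU m t u v⟩

theorem nn_mem_tw (m : ℕ) (u : Kˣ) : ((nn m u : ↥(GG K)) : GL I K) ∈ Tw K m := by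
  rw [nn_eq]
  exact mul_mem (mul_mem (wordU_mem_tw m _ _ _) (nu_wordU_mem_tw m _ _ _)) (wordU_mem_tw m _ _ _)

/-! ### The endomorphism on the standard subgroups -/

section Standard

variable {m : ℕ}

theorem sigma_nG (r : R0) (t : Kˣ) :
    sigma K m (nG r t) = nG (bar r) ((t ^ lam r) ^ 3 ^ m) := by
  simp only [nG, map_mul, sigma_xG, lam_rev, bar_rev]
  have e1 : theta m ((t : K) ^ lam r) = (((t ^ lam r) ^ 3 ^ m : Kˣ) : K) := by
    simp [theta, Units.val_pow_eq_pow_val]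
  have e2 : theta m ((-((t⁻¹ : Kˣ) : K)) ^ lam r) = -((((t ^ lam r) ^ 3 ^ m)⁻¹ : Kˣ) : K) := by
    have hodd : Odd (lam r) := by
      rcases lam_cases r with ⟨h, -⟩ | ⟨h, -⟩ <;> rw [h] <;> decide
    rw [hodd.neg_pow, theta_neg]
    simp [theta, Units.val_pow_eq_pow_val, inv_pow]
  rw [e1, e2]

theorem nG_mem_monomial (r : R0) (t : Kˣ) :
    ((nG r t : ↥(GG K)) : GL I K) ∈ chevG2.monomialSubgroup K := by
  have h := hElt_eq goodW r t
  have h2 : nElt good_chevG2 r (-1 : Kˣ) ∈ chevG2.monomialSubgroup K := by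
    rw [nElt_neg]
    refine inv_mem (Subgroup.mem_sup_right (Subgroup.subset_closure ⟨r, r.isLt, ?_⟩))
    exact coe_nElt_one goodW r
  rw [coe_nG, show nElt good_chevG2 r t = hT K r t * (nElt good_chevG2 r (-1 : Kˣ))⁻¹ by
    rw [← h, mul_inv_cancel_right]]
  exact mul_mem (diag_le_monomial _ (hT_mem_diagonal goodW r t)) (inv_mem h2)

theorem sigma_mem_diag {g : ↥(GG K)} (hg : (g : GL I K) ∈ chevG2.diagonalSubgroup K) :
    ((sigma K m g : ↥(GG K)) : GL I K) ∈ chevG2.diagonalSubgroup K := by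
  have hle : chevG2.diagonalSubgroup K ≤
      (((chevG2.diagonalSubgroup K).subgroupOf (GG K)).comap (sigma K m)).map (GG K).subtype := by
    refine (diagonalSubgroup_eq goodW).le.trans ((Subgroup.closure_le _).2 ?_)
    rintro _ ⟨r, t, rfl⟩
    refine ⟨nG r t * nG r (-1), ?_, hElt_eq goodW r t⟩
    show ((sigma K m (nG r t * nG r (-1)) : ↥(GG K)) : GL I K) ∈ chevG2.diagonalSubgroup K
    rw [map_mul, sigma_nG, sigma_nG,
      show ((-1 : Kˣ) ^ lam r) ^ 3 ^ m = -1 by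
        rw [← pow_mul]
        refine Odd.neg_one_pow (Odd.mul ?_ (Odd.pow (by decide)))
        rcases lam_cases r with ⟨h, -⟩ | ⟨h, -⟩ <;> rw [h] <;> decide]
    rw [Subgroup.coe_mul, coe_nG, coe_nG, hElt_eq goodW]
    exact hT_mem_diagonal goodW _ _
  obtain ⟨g', hg', e⟩ := hle hg
  obtain rfl : g' = g := Subtype.ext e
  exact hg'

theorem sigma_mem_monomial {g : ↥(GG K)} (hg : (g : GL I K) ∈ chevG2.monomialSubgroup K) :
    ((sigma K m g : ↥(GG K)) : GL I K) ∈ chevG2.monomialSubgroup K := by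
  have hle : chevG2.monomialSubgroup K ≤
      (((chevG2.monomialSubgroup K).subgroupOf (GG K)).comap (sigma K m)).map (GG K).subtype := by
    refine sup_le (fun x hx => ?_) ((Subgroup.closure_le _).2 ?_)
    · exact ⟨⟨x, diag_le_group goodW hx⟩, diag_le_monomial _ (sigma_mem_diag hx), rfl⟩
    · rintro x ⟨r, hr, hx⟩
      refine ⟨nG ⟨r, hr⟩ 1, ?_, Units.ext ((coe_nElt_one goodW ⟨r, hr⟩).trans hx.symm)⟩
      show ((sigma K m (nG ⟨r, hr⟩ 1) : ↥(GG K)) : GL I K) ∈ chevG2.monomialSubgroup K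
      rw [sigma_nG]
      exact nG_mem_monomial _ _
  obtain ⟨g', hg', e⟩ := hle hg
  obtain rfl : g' = g := Subtype.ext e
  exact hg'

theorem sigma_mem_pos {g : ↥(GG K)} (hg : (g : GL I K) ∈ chevG2.posUnipotent K) :
    ((sigma K m g : ↥(GG K)) : GL I K) ∈ chevG2.posUnipotent K := by
  obtain ⟨A, b, c, d, e, f, hW⟩ := exists_uElt hg
  obtain rfl : uElt A b c d e f = g := Subtype.ext hW
  rw [sigma_uElt]
  exact uElt_mem_pos _ _ _ _ _ _

theorem exists_pos_mul_diag {g : ↥(GG K)} (hg : (g : GL I K) ∈ chevG2.borelSubgroup K) :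
    ∃ u h : ↥(GG K), (u : GL I K) ∈ chevG2.posUnipotent K ∧
      (h : GL I K) ∈ chevG2.diagonalSubgroup K ∧ g = u * h := by
  obtain ⟨u, hu, h, hh', e⟩ := (mem_borel_iff goodW).1 hg
  exact ⟨⟨u, borel_le_group goodW (pos_le_borel _ hu)⟩, ⟨h, diag_le_group goodW hh'⟩, hu, hh',
    Subtype.ext e.symm⟩

theorem sigma_mem_borel {g : ↥(GG K)} (hg : (g : GL I K) ∈ chevG2.borelSubgroup K) :
    ((sigma K m g : ↥(GG K)) : GL I K) ∈ chevG2.borelSubgroup K := by
  obtain ⟨u, h, hu, hh', rfl⟩ := exists_pos_mul_diag hg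
  rw [map_mul, Subgroup.coe_mul]
  exact mul_mem (pos_le_borel _ (sigma_mem_pos hu)) (diag_le_borel _ (sigma_mem_diag hh'))

theorem pos_mul_diag_unique {u h u' h' : GL I K} (hu : u ∈ chevG2.posUnipotent K)
    (hh1 : h ∈ chevG2.diagonalSubgroup K) (hu' : u' ∈ chevG2.posUnipotent K)
    (hh2 : h' ∈ chevG2.diagonalSubgroup K) (e : u * h = u' * h') : u = u' ∧ h = h' := by
  have h1 : u'⁻¹ * u ∈ chevG2.posUnipotent K ⊓ chevG2.diagonalSubgroup K := by
    refine Subgroup.mem_inf.2 ⟨mul_mem (inv_mem hu') hu, ?_⟩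
    rw [show u'⁻¹ * u = h' * h⁻¹ by
      calc u'⁻¹ * u = u'⁻¹ * (u * h) * h⁻¹ := by group
        _ = h' * h⁻¹ := by rw [e]; group]
    exact mul_mem hh2 (inv_mem hh1)
  rw [pos_inf_diag goodW, Subgroup.mem_bot, inv_mul_eq_one] at h1
  subst h1
  exact ⟨rfl, mul_left_cancel e⟩

/-- The condition for a torus element to be fixed. -/
theorem hh_fixed_eq {A B : Kˣ} (h : sigma K m (hh A B) = hh A B) : A = (B ^ 3 ^ m : Kˣ) ∨
    ¬ ∀ x : K, theta m (theta m x) ^ 3 = x := by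
  by_cases hc : ∀ x : K, theta m (theta m x) ^ 3 = x
  swap
  · exact Or.inr hc
  left
  have e := congrArg (sigma K m) (hh_conj A B (rt 7) 1)
  rw [map_mul, map_mul, map_inv, h, sigma_xG, sigma_xG, hh_conj, mul_one,
    show bar (rt 7) = rt 6 from rfl, show lam (rt 7) = 3 from rfl, (chi_table A B).1,
    (chi_table A B).2.1, one_pow, theta_one, mul_one] at e
  have hB := X_injective good_chevG2 (rt 6) (congrArg Subtype.val e)
  refine Units.ext ?_
  rw [Units.val_pow_eq_pow_val]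
  show (A : K) = theta m (B : K)
  rw [show (B : K) = theta m ((A : K) ^ 3) from hB, theta_pow, theta_pow, hc]

/-- The reflections on the roots. -/
def reflTab (i : Fin chevG2.rank) : List ℕ :=
  if (i : ℕ) = 0 then [0, 5, 3, 2, 7, 1, 10, 4, 9, 8, 6, 11]
  else [1, 0, 2, 4, 3, 6, 5, 8, 7, 9, 11, 10]

/-- `bar` on the indices. -/
def barTab : List ℕ := [2, 3, 0, 1, 5, 4, 7, 6, 10, 11, 8, 9]

/-- The twelve permutations of the roots, on the indices. -/
def weylCodes : List (List ℕ) :=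
  [[0, 1, 2, 3, 4, 5, 6, 7, 8, 9, 10, 11], [0, 5, 3, 2, 7, 1, 10, 4, 9, 8, 6, 11],
   [1, 0, 2, 4, 3, 6, 5, 8, 7, 9, 11, 10], [1, 6, 4, 2, 8, 0, 11, 3, 9, 7, 5, 10],
   [5, 0, 3, 7, 2, 10, 1, 9, 4, 8, 11, 6], [5, 10, 7, 3, 9, 0, 11, 2, 8, 4, 1, 6],
   [6, 1, 4, 8, 2, 11, 0, 9, 3, 7, 10, 5], [6, 11, 8, 4, 9, 1, 10, 2, 7, 3, 0, 5],
   [10, 5, 7, 9, 3, 11, 0, 8, 2, 4, 6, 1], [10, 11, 9, 7, 8, 5, 6, 3, 4, 2, 0, 1],
   [11, 6, 8, 9, 4, 10, 1, 7, 2, 3, 5, 0], [11, 10, 9, 8, 7, 6, 5, 4, 3, 2, 1, 0]]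

theorem reflTab_eq : ∀ i : Fin chevG2.rank, ∀ r : R0,
    (wPerm goodW i r : ℕ) = (reflTab i).getD r 0 := by decide +kernel

theorem barTab_eq : ∀ r : R0, (bar r : ℕ) = barTab.getD r 0 := by decide +kernel

theorem weylCodes_facts : ∀ l ∈ weylCodes,
    l.length = 12 ∧ (∀ i : Fin 2, l.map ((reflTab i).getD · 0) ∈ weylCodes) ∧
      ((List.range 12).all (fun r => l.getD (barTab.getD r 0) 0 == barTab.getD (l.getD r 0) 0) →
        l = List.range 12 ∨ l = (List.range 12).reverse) := by decide +kernel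

/-- The permutation with given indices. -/
def ofCode (l : List ℕ) (r : R0) : R0 := ⟨l.getD r 0 % 12, Nat.mod_lt _ (by decide)⟩

/-- The twelve permutations of the roots. -/
def weylList : List (R0 → R0) := weylCodes.map ofCode

theorem weylCodes_lt : ∀ l ∈ weylCodes, ∀ r : Fin 12, l.getD r 0 < 12 := by decide +kernel

theorem val_ofCode {l : List ℕ} (h : l ∈ weylCodes) (r : R0) : (ofCode l r : ℕ) = l.getD r 0 :=
  Nat.mod_eq_of_lt (weylCodes_lt l h r)

theorem weylList_closed : ∀ i : Fin chevG2.rank, ∀ f ∈ weylList, ∃ g ∈ weylList,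
    ∀ r, g r = wPerm goodW i (f r) := by
  intro i f hf
  obtain ⟨l, hl, rfl⟩ := List.mem_map.1 hf
  obtain ⟨hlen, hc, -⟩ := weylCodes_facts l hl
  have hg : l.map ((reflTab i).getD · 0) ∈ weylCodes := hc i
  refine ⟨_, List.mem_map.2 ⟨_, hg, rfl⟩, fun r => Fin.ext ?_⟩
  have hr : (r : ℕ) < l.length := by rw [hlen]; exact r.isLt
  rw [val_ofCode hg, reflTab_eq, val_ofCode hl, List.getD_eq_getElem _ _ (by rwa [List.length_map]),
    List.getElem_map, List.getD_eq_getElem _ _ hr]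

theorem weylList_bar : ∀ f ∈ weylList, (∀ r, f (bar r) = bar (f r)) →
    (∀ r, f r = r) ∨ ∀ r, f r = r.rev := by
  intro f hf h
  obtain ⟨l, hl, rfl⟩ := List.mem_map.1 hf
  obtain ⟨hlen, -, hb⟩ := weylCodes_facts l hl
  have h' : ((List.range 12).all fun r =>
      l.getD (barTab.getD r 0) 0 == barTab.getD (l.getD r 0) 0) = true := by
    rw [List.all_eq_true]
    intro r hr
    have e := congrArg Fin.val (h ⟨r, List.mem_range.1 hr⟩)
    rw [val_ofCode hl, barTab_eq, barTab_eq, val_ofCode hl] at e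
    exact beq_iff_eq.2 e
  have e1 : ∀ r : Fin 12, (List.range 12).getD r 0 = r := by decide +kernel
  have e2 : ∀ r : Fin 12, (List.range 12).reverse.getD r 0 = (r.rev : Fin 12) := by decide +kernel
  rcases hb h' with rfl | rfl
  · exact Or.inl fun r => Fin.ext ((val_ofCode hl r).trans (e1 r))
  · exact Or.inr fun r => Fin.ext ((val_ofCode hl r).trans (e2 r))

theorem weylList_one : ∃ f ∈ weylList, ∀ r : R0, f r = r :=
  ⟨_, List.mem_map.2 ⟨_, List.mem_cons_self, rfl⟩, by decide +kernel⟩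

theorem exists_frame : ∃ (C : Weyl.Cert chevG2.rank) (M : CoxeterMatrix (Fin chevG2.rank))
    (R : Weyl.RootTable), Weyl.RootGood C M R :=
  ⟨_, _, _, Weyl.rootG2_good⟩

variable {C : Weyl.Cert chevG2.rank} {M : CoxeterMatrix (Fin chevG2.rank)} {R : Weyl.RootTable}

theorem mem_weylList (h : Weyl.RootGood C M R) (w : M.Group) :
    ∃ f ∈ weylList, ∀ r, f r = h.rootPerm w r := by
  induction w using M.toCoxeterSystem.simple_induction_left with
  | one =>
    obtain ⟨f, hf, hfe⟩ := weylList_one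
    exact ⟨f, hf, fun r => by rw [map_one]; exact hfe r⟩
  | mul_simple_left w i ih =>
    obtain ⟨f, hf, hfe⟩ := ih
    obtain ⟨g, hg, hge⟩ := weylList_closed i f hf
    refine ⟨g, hg, fun r => ?_⟩
    rw [map_mul, hge, hfe, Equiv.Perm.mul_apply, wPerm_eq_rootPerm goodW h i]
    rfl

theorem mem_diag_of_monBy_one {g : GL I K} (hg : g ∈ chevG2.monomialSubgroup K)
    (h : MonBy goodW g 1) : g ∈ chevG2.diagonalSubgroup K := by
  obtain ⟨C, M, R, hR⟩ := exists_frame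
  have hw : weylHom goodW hR (⟨g, hg⟩ : ↥(chevG2.monomialSubgroup K)) = 1 :=
    weylHom_eq goodW hR (by rw [map_one]; exact h)
  rw [← MonoidHom.mem_ker, ker_weylHom] at hw
  exact hw

theorem nn_mem_monomial (u : Kˣ) : ((nn m u : ↥(GG K)) : GL I K) ∈ chevG2.monomialSubgroup K :=
  mul_mem (nG_mem_monomial _ _) (nG_mem_monomial _ _)

theorem conj_pos_mem_neg (u : Kˣ) {x : GL I K} (hx : x ∈ chevG2.posUnipotent K) :
    ((nn m u : ↥(GG K)) : GL I K) * x * ((nn m u : ↥(GG K)) : GL I K)⁻¹ ∈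
      chevG2.negUnipotent K := by
  rw [posUnipotent_eq_rootGen good_chevG2] at hx
  rw [negUnipotent_eq_rootGen good_chevG2]
  refine (monBy_nn m u).conj_rootGen (T := negSet chevG2) (fun r hr => ?_) hx
  have h2 : half chevG2 = 6 := by decide +kernel
  show ((Fin.rev r : R0) : ℕ) < half chevG2
  have hr' : 6 ≤ (r : ℕ) := h2 ▸ hr
  rw [Fin.val_rev, h2]
  show 12 - ((r : ℕ) + 1) < 6
  omega

theorem nn_not_mem_borel (u : Kˣ) :
    ((nn m u : ↥(GG K)) : GL I K) ∉ chevG2.borelSubgroup K := by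
  intro h
  have hd : ((nn m u : ↥(GG K)) : GL I K) ∈ chevG2.diagonalSubgroup K := by
    rw [← borel_inf_monomial goodW Weyl.rootG2_good]
    exact Subgroup.mem_inf.2 ⟨h, nn_mem_monomial u⟩
  have := (monBy_diag goodW hd).unique (monBy_nn m u)
  exact absurd (Equiv.congr_fun this (rt 6)) (by decide)

/-- Uniqueness in the big cell. -/
theorem cell_unique (w : Kˣ) {u h v u' h' v' : GL I K} (hu : u ∈ chevG2.posUnipotent K)
    (hh1 : h ∈ chevG2.diagonalSubgroup K) (hv : v ∈ chevG2.posUnipotent K)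
    (hu' : u' ∈ chevG2.posUnipotent K) (hh2 : h' ∈ chevG2.diagonalSubgroup K)
    (hv' : v' ∈ chevG2.posUnipotent K)
    (e : u * h * ((nn m w : ↥(GG K)) : GL I K) * v = u' * h' * ((nn m w : ↥(GG K)) : GL I K) * v') :
    u = u' ∧ h = h' ∧ v = v' := by
  generalize hn : ((nn m w : ↥(GG K)) : GL I K) = n at e
  have hx : n * (v * v'⁻¹) * n⁻¹ = (u * h)⁻¹ * (u' * h') := by
    calc n * (v * v'⁻¹) * n⁻¹ = (u * h)⁻¹ * (u * h * n * v) * v'⁻¹ * n⁻¹ := by group
      _ = _ := by rw [e]; group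
  have h1 : n * (v * v'⁻¹) * n⁻¹ = 1 := by
    have hmem : n * (v * v'⁻¹) * n⁻¹ ∈ chevG2.borelSubgroup K ⊓ chevG2.negUnipotent K := by
      refine Subgroup.mem_inf.2 ⟨?_, hn ▸ conj_pos_mem_neg w (mul_mem hv (inv_mem hv'))⟩
      rw [hx]
      exact mul_mem (inv_mem (mul_mem (pos_le_borel _ hu) (diag_le_borel _ hh1)))
        (mul_mem (pos_le_borel _ hu') (diag_le_borel _ hh2))
    rwa [borel_inf_neg goodW, Subgroup.mem_bot] at hmem
  have hvv : v = v' := by
    rw [mul_inv_eq_one, mul_eq_left, mul_inv_eq_one] at h1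
    exact h1
  rw [h1, eq_inv_mul_iff_mul_eq, mul_one] at hx
  obtain ⟨e1, e2⟩ := pos_mul_diag_unique hu hh1 hu' hh2 hx
  exact ⟨e1, e2, hvv⟩

end Standard

section Finite

variable [Finite K] {m : ℕ} (hK : Nat.card K = 3 ^ (2 * m + 1))
include hK

theorem hh_fixed {A B : Kˣ} (h : sigma K m (hh A B) = hh A B) : A = (B ^ 3 ^ m : Kˣ) :=
  (hh_fixed_eq h).resolve_right fun h' => h' (theta_theta hK)

theorem tw_le_fix : Tw K m ≤ fixG K m := by
  refine (Subgroup.closure_le _).2 ?_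
  rintro g ⟨w, ⟨t, u, v, rfl | rfl⟩, hg⟩
  · obtain rfl : ((wordU m t u v : ↥(GG K)) : GL I K) = g :=
      Units.ext ((coe_wordU m t u v).trans hg.symm)
    exact coe_mem_fixG.2 (wordU_fixed hK t u v)
  · obtain rfl : ((nu K (wordU m t u v) : ↥(GG K)) : GL I K) = g :=
      Units.ext ((coe_nu_wordU m t u v).trans hg.symm)
    exact coe_mem_fixG.2 (by rw [sigma_nu, wordU_fixed hK])

theorem exists_wordU_of_fixed {u : ↥(GG K)} (hu : (u : GL I K) ∈ chevG2.posUnipotent K)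
    (h : sigma K m u = u) : ∃ t a b : K, u = wordU m t a b := by
  obtain ⟨t, a, b, e⟩ := (pos_fix_iff hK).1 ⟨hu, coe_mem_fixG.2 h⟩
  exact ⟨t, a, b, (Subtype.ext e).symm⟩

theorem exists_hh_of_fixed {h : ↥(GG K)} (hd : (h : GL I K) ∈ chevG2.diagonalSubgroup K)
    (hf : sigma K m h = h) : ∃ B : Kˣ, h = hh (B ^ 3 ^ m) B := by
  obtain ⟨A, B, e⟩ := exists_hh hd
  obtain rfl : hh A B = h := Subtype.ext e
  exact ⟨B, by rw [hh_fixed hK hf]⟩

/-- Normal form of a fixed element. -/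
theorem fixed_form {g : ↥(GG K)} (hg : sigma K m g = g) :
    ((g : GL I K) ∈ chevG2.borelSubgroup K ∧
        ∃ t a b : K, ∃ B : Kˣ, g = wordU m t a b * hh (B ^ 3 ^ m) B) ∨
      ((g : GL I K) ∉ chevG2.borelSubgroup K ∧ ∃ t a b : K, ∃ B : Kˣ, ∃ t' a' b' : K,
        g = wordU m t a b * hh (B ^ 3 ^ m) B * nn m 1 * wordU m t' a' b') := by
  by_cases hb : (g : GL I K) ∈ chevG2.borelSubgroup K
  · refine Or.inl ⟨hb, ?_⟩
    obtain ⟨u, h, hu, hd, rfl⟩ := exists_pos_mul_diag hb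
    rw [map_mul] at hg
    obtain ⟨e1, e2⟩ := pos_mul_diag_unique (sigma_mem_pos (m := m) hu) (sigma_mem_diag (m := m) hd)
      hu hd (congrArg Subtype.val hg)
    obtain ⟨t, a, b, rfl⟩ := exists_wordU_of_fixed hK hu (Subtype.ext e1)
    obtain ⟨B, rfl⟩ := exists_hh_of_fixed hK hd (Subtype.ext e2)
    exact ⟨t, a, b, B, rfl⟩
  refine Or.inr ⟨hb, ?_⟩
  obtain ⟨C, M, R, hR⟩ := exists_frame
  obtain ⟨w, hw⟩ := exists_mem_cell goodW hR g.2
  obtain ⟨b, hb1, b', hb2, e⟩ := id hw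
  set n₀ : ↥(chevG2.monomialSubgroup K) := ⟨nW goodW hR K w, nW_mem goodW hR w⟩
  set n : ↥(GG K) := ⟨nW goodW hR K w, monomial_le_group goodW (nW_mem goodW hR w)⟩
  set bb : ↥(GG K) := ⟨b, borel_le_group goodW hb1⟩
  set bb' : ↥(GG K) := ⟨b', borel_le_group goodW hb2⟩
  have eg : bb * n * bb' = g := Subtype.ext e
  -- the permutation of `w` commutes with `bar`
  have hπn : MonBy goodW ((n : ↥(GG K)) : GL I K) (hR.rootPerm w) := monBy_nW goodW hR w
  have hσn : ((sigma K m n : ↥(GG K)) : GL I K) ∈ chevG2.monomialSubgroup K :=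
    sigma_mem_monomial (nW_mem goodW hR w)
  have hwσ : weylHom goodW hR (⟨_, hσn⟩ : ↥(chevG2.monomialSubgroup K)) = w := by
    have h1 : (g : GL I K) ∈ cell goodW hR K
        (weylHom goodW hR (⟨_, hσn⟩ : ↥(chevG2.monomialSubgroup K))) := by
      have h2 := mul_mem_cell goodW hR (sigma_mem_borel (m := m) (g := bb) hb1)
        (mem_cell_self goodW hR (⟨_, hσn⟩ : ↥(chevG2.monomialSubgroup K)))
        (sigma_mem_borel (m := m) (g := bb') hb2)
      rw [← hg, ← eg, map_mul, map_mul]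
      exact h2
    exact cell_eq_of_mem goodW hR h1 hw
  have hπσ : MonBy goodW ((sigma K m n : ↥(GG K)) : GL I K) (hR.rootPerm w) := by
    have := monBy_weylHom goodW hR (⟨_, hσn⟩ : ↥(chevG2.monomialSubgroup K))
    rwa [hwσ] at this
  have hcomm : ∀ r, hR.rootPerm w (bar r) = bar (hR.rootPerm w r) := by
    intro r
    obtain ⟨c, hc⟩ := hπn.conj_X r
    obtain ⟨c', hc'⟩ := hπσ.conj_X (bar r)
    have h1 : n * xG r 1 * n⁻¹ = xG (hR.rootPerm w r) (c : K) := Subtype.ext (by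
      have := hc 1
      rw [mul_one] at this
      exact this)
    have h2 := congrArg (sigma K m) h1
    rw [map_mul, map_mul, map_inv, sigma_xG, sigma_xG, one_pow, theta_one] at h2
    have h3 : X2 (hR.rootPerm w (bar r)) ((c' : K) * 1) =
        X2 (bar (hR.rootPerm w r)) (theta m ((c : K) ^ lam (hR.rootPerm w r))) :=
      (hc' 1).symm.trans (congrArg Subtype.val h2)
    by_contra hne
    exact X_ne goodW.toGoodUni hne (by simp) _ h3
  obtain ⟨f, hf, hfe⟩ := mem_weylList hR w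
  have hfb : ∀ r, f (bar r) = bar (f r) := fun r => by rw [hfe, hfe]; exact hcomm r
  rcases weylList_bar f hf hfb with h1 | h1
  · exfalso
    have hd : nW goodW hR K w ∈ chevG2.diagonalSubgroup K :=
      mem_diag_of_monBy_one (nW_mem goodW hR w) (by
        rw [show (1 : Equiv.Perm R0) = hR.rootPerm w from Equiv.ext fun r =>
          (h1 r).symm.trans (hfe r)]
        exact hπn)
    exact hb (e ▸ mul_mem (mul_mem hb1 (diag_le_borel _ hd)) hb2)
  -- big cell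
  set n1 : ↥(GG K) := nn m 1 with hn1
  have hn1m : (n1 : GL I K) ∈ chevG2.monomialSubgroup K := nn_mem_monomial 1
  have hk : ((n1⁻¹ * n : ↥(GG K)) : GL I K) ∈ chevG2.diagonalSubgroup K := by
    refine mem_diag_of_monBy_one (mul_mem (inv_mem hn1m) (nW_mem goodW hR w)) ?_
    have h2 : MonBy goodW ((n1 : GL I K)⁻¹ * (n : GL I K)) (revPerm⁻¹ * hR.rootPerm w) :=
      (monBy_nn m 1).inv.mul hπn
    rwa [show revPerm = hR.rootPerm w from Equiv.ext fun r => (h1 r).symm.trans (hfe r),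
      inv_mul_cancel] at h2
  obtain ⟨u₁, h₁, hu₁, hh₁, e₁⟩ := exists_pos_mul_diag (g := bb) hb1
  obtain ⟨u₂, h₂, hu₂, hh₂, e₂⟩ := exists_pos_mul_diag (g := bb') hb2
  set u' : ↥(GG K) := h₂⁻¹ * u₂ * h₂ with hu'def
  have hu' : (u' : GL I K) ∈ chevG2.posUnipotent K := by
    have h2 := (Subgroup.mem_normalizer_iff.1
      (diag_le_normalizer_pos goodW (inv_mem hh₂)) (u₂ : GL I K)).1 hu₂
    rw [inv_inv] at h2
    exact h2
  set H : ↥(GG K) := h₁ * (n1 * (n1⁻¹ * n * h₂) * n1⁻¹) with hHdef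
  have hH : (H : GL I K) ∈ chevG2.diagonalSubgroup K :=
    mul_mem hh₁ ((Subgroup.mem_normalizer_iff.1 (Chevalley.monomial_le_normalizer goodW hn1m) _).1
      (mul_mem hk hh₂))
  have egf : g = u₁ * H * n1 * u' := by
    rw [← eg, e₁, e₂, hHdef, hu'def]
    group
  have hn1σ : sigma K m n1 = n1 := coe_mem_fixG.1 (tw_le_fix hK (nn_mem_tw m 1))
  have hg' := hg
  rw [egf, map_mul, map_mul, map_mul, hn1σ] at hg'
  obtain ⟨f1, f2, f3⟩ := cell_unique (m := m) 1 (sigma_mem_pos (m := m) hu₁)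
    (sigma_mem_diag (m := m) hH) (sigma_mem_pos (m := m) hu') hu₁ hH hu' (congrArg Subtype.val hg')
  obtain ⟨t, a, b₀, rfl⟩ := exists_wordU_of_fixed hK hu₁ (Subtype.ext f1)
  obtain ⟨B, hB⟩ := exists_hh_of_fixed hK hH (Subtype.ext f2)
  obtain ⟨t', a', b₀', hu'e⟩ := exists_wordU_of_fixed hK hu' (Subtype.ext f3)
  exact ⟨t, a, b₀, B, t', a', b₀', by rw [egf, hB, hu'e]⟩

/-- `-1` is not of the form `θ(u)^3 / u`, and at most two `u` give `1`. -/
theorem theta_ratio {u : K} (hu : u ≠ 0) {s : K} (hs : s = 1 ∨ s = -1)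
    (h : theta m u ^ 3 = s * u) : s = 1 ∧ (u = 1 ∨ u = -1) := by
  have hc := theta_theta hK
  have h4 : theta m u = s * u := by
    have h1 := congrArg (theta m) h
    rw [theta_pow, hc, theta_mul] at h1
    rcases hs with rfl | rfl
    · rw [theta_one, one_mul] at h1
      rw [one_mul]
      exact h1.symm
    · rw [theta_neg, theta_one] at h1
      linear_combination h1
  rw [h4] at h
  have hs2 : s ^ 2 = 1 := by rcases hs with rfl | rfl <;> ring
  have h5 : u ^ 2 = 1 := mul_left_cancel₀ hu (a := u) (by linear_combination s * h - (s ^ 2 + 1) * u ^ 3 * hs2 + u * hs2)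
  have h6 : u = 1 ∨ u = -1 := sq_eq_one_iff.1 h5
  refine ⟨?_, h6⟩
  rcases hs with rfl | rfl
  · rfl
  · exfalso
    rcases h6 with rfl | rfl
    · rw [theta_one] at h4
      exact two_ne (K := K) (by linear_combination h4)
    · rw [theta_neg, theta_one] at h4
      exact two_ne (K := K) (by linear_combination -h4)

omit hK in
/-- `u ↦ θ(u)^3 / u` on the units. -/
def psi : Kˣ →* Kˣ where
  toFun u := (u ^ 3 ^ m) ^ 3 * u⁻¹
  map_one' := by simp
  map_mul' x y := by rw [mul_pow, mul_pow, mul_inv, mul_mul_mul_comm]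

theorem psi_eq {u : Kˣ} {s : Kˣ} (hs : s = 1 ∨ s = -1) (h : psi (m := m) u = s) :
    s = 1 ∧ (u = 1 ∨ u = -1) := by
  have h' : (u ^ 3 ^ m) ^ 3 = s * u := by
    rw [← h]
    show _ = (u ^ 3 ^ m) ^ 3 * u⁻¹ * u
    rw [inv_mul_cancel_right]
  have h'' : theta m (u : K) ^ 3 = (s : K) * u := by
    have := congrArg Units.val h'
    rw [Units.val_mul, Units.val_pow_eq_pow_val, Units.val_pow_eq_pow_val] at this
    exact this
  obtain ⟨h1, h2⟩ := theta_ratio hK (Units.ne_zero u)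
    (by rcases hs with rfl | rfl <;> simp) h''
  exact ⟨Units.ext h1, h2.imp (fun h => Units.ext h) (fun h => Units.ext h)⟩

omit hK in
/-- The torus values realised in the twisted group. -/
def realised : Subgroup Kˣ where
  carrier := {x | ((hh (x ^ 3 ^ m) x : ↥(GG K)) : GL I K) ∈ Tw K m}
  one_mem' := by
    show _ ∈ Tw K m
    rw [one_pow, hh_one]
    exact one_mem _
  mul_mem' {x y} hx hy := by
    show _ ∈ Tw K m
    rw [mul_pow, ← hh_mul]
    exact mul_mem hx hy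
  inv_mem' {x} hx := by
    show _ ∈ Tw K m
    have e : hh ((x⁻¹) ^ 3 ^ m) x⁻¹ = (hh (x ^ 3 ^ m) x)⁻¹ := by
      rw [eq_inv_iff_mul_eq_one, hh_mul, ← mul_pow, inv_mul_cancel, one_pow, hh_one]
    rw [e]
    exact inv_mem hx

theorem psi_mem (u : Kˣ) : psi (m := m) u ∈ realised (K := K) (m := m) := by
  obtain ⟨A, hA⟩ := hT_eq_hh_square m u
  have hmem : ((hh A ((u ^ 3 ^ m) ^ 3 * u⁻¹) : ↥(GG K)) : GL I K) ∈ Tw K m := by
    rw [← hA, Subgroup.coe_mul]
    exact mul_mem (nn_mem_tw m u) (nn_mem_tw m (-1))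
  have h1 := hh_fixed hK (coe_mem_fixG.1 (tw_le_fix hK hmem))
  rw [h1] at hmem
  exact hmem

theorem neg_one_mem : (-1 : Kˣ) ∈ realised (K := K) (m := m) := by
  show _ ∈ Tw K m
  rw [(Odd.pow (by decide : Odd 3)).neg_one_pow, ← hh_neg_one m]
  exact mul_mem (mul_mem (mul_mem (wordU_mem_tw m _ _ _) (nu_wordU_mem_tw m _ _ _))
    (wordU_mem_tw m _ _ _)) (nu_wordU_mem_tw m _ _ _)

/-- The fixed torus elements lie in the twisted group. -/
theorem hh_mem_tw (B : Kˣ) : ((hh (B ^ 3 ^ m) B : ↥(GG K)) : GL I K) ∈ Tw K m := by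
  suffices htop : realised (K := K) (m := m) = ⊤ by
    exact (show B ∈ realised (K := K) (m := m) by rw [htop]; exact Subgroup.mem_top _)
  classical
  set ψ : Kˣ →* Kˣ := psi (m := m)
  set T : Subgroup Kˣ := realised (K := K) (m := m)
  have hψT : ψ.range ≤ T := by
    rintro _ ⟨u, rfl⟩
    exact psi_mem hK u
  have hker : Nat.card ψ.ker ≤ 2 := by
    have hsub : (ψ.ker : Set Kˣ) ⊆ {1, -1} := fun u hu =>
      (psi_eq hK (Or.inl rfl) (MonoidHom.mem_ker.1 hu)).2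
    calc Nat.card ψ.ker = (ψ.ker : Set Kˣ).ncard := rfl
      _ ≤ ({1, -1} : Set Kˣ).ncard := Set.ncard_le_ncard hsub (Set.toFinite _)
      _ ≤ 2 := (Set.ncard_insert_le _ _).trans (by rw [Set.ncard_singleton])
  have hnot : (-1 : Kˣ) ∉ ψ.range := by
    rintro ⟨u, hu⟩
    have h4 := congrArg Units.val (psi_eq hK (Or.inr rfl) hu).1
    rw [Units.val_neg, Units.val_one] at h4
    exact two_ne (K := K) (by linear_combination -h4)
  have hmul : Nat.card ψ.range * Nat.card ψ.ker = Nat.card Kˣ := by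
    rw [← Nat.card_congr (QuotientGroup.quotientKerEquivRange ψ).toEquiv,
      ← Subgroup.card_eq_card_quotient_mul_card_subgroup]
  obtain ⟨k, hk⟩ := Subgroup.card_dvd_of_le hψT
  have hk2 : 2 ≤ k := by
    rcases k with _ | _ | k
    · rw [mul_zero] at hk; exact absurd hk Nat.card_pos.ne'
    · exfalso
      simp only [zero_add, mul_one] at hk
      exact hnot (by rw [Subgroup.eq_of_le_of_card_ge hψT hk.le]; exact neg_one_mem hK)
    · omega
  exact Subgroup.eq_top_of_le_card _ (by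
    rw [hk, ← hmul]
    exact Nat.mul_le_mul le_rfl (hker.trans hk2))

/-- The twisted group is the group of fixed points. -/
theorem tw_eq_fix : Tw K m = fixG K m := by
  refine le_antisymm (tw_le_fix hK) fun g hg => ?_
  obtain ⟨hgG, hfix⟩ := mem_fixG.1 hg
  rcases fixed_form hK hfix with ⟨-, t, a, b, B, e⟩ | ⟨-, t, a, b, B, t', a', b', e⟩
  · rw [show g = ((⟨g, hgG⟩ : ↥(GG K)) : GL I K) from rfl, e, Subgroup.coe_mul]
    exact mul_mem (wordU_mem_tw m _ _ _) (hh_mem_tw hK B)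
  · rw [show g = ((⟨g, hgG⟩ : ↥(GG K)) : GL I K) from rfl, e, Subgroup.coe_mul, Subgroup.coe_mul,
      Subgroup.coe_mul]
    exact mul_mem (mul_mem (mul_mem (wordU_mem_tw m _ _ _) (hh_mem_tw hK B)) (nn_mem_tw m 1))
      (wordU_mem_tw m _ _ _)

theorem tw_le_group : Tw K m ≤ GG K := (tw_le_fix hK).trans (fixG_le m)

/-- Normal form in the twisted group. -/
theorem tw_form {g : GL I K} (hg : g ∈ Tw K m) :
    (g ∈ chevG2.borelSubgroup K ∧ ∃ t a b : K, ∃ B : Kˣ,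
        g = ((wordU m t a b * hh (B ^ 3 ^ m) B : ↥(GG K)) : GL I K)) ∨
      (g ∉ chevG2.borelSubgroup K ∧ ∃ t a b : K, ∃ B : Kˣ, ∃ t' a' b' : K,
        g = ((wordU m t a b * hh (B ^ 3 ^ m) B * nn m 1 * wordU m t' a' b' : ↥(GG K)) : GL I K)) := by
  obtain ⟨hgG, hfix⟩ := mem_fixG.1 (tw_le_fix hK hg)
  rcases fixed_form hK hfix with ⟨h, t, a, b, B, e⟩ | ⟨h, t, a, b, B, t', a', b', e⟩
  · exact Or.inl ⟨h, t, a, b, B, congrArg Subtype.val e⟩
  · exact Or.inr ⟨h, t, a, b, B, t', a', b', congrArg Subtype.val e⟩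

theorem natCard_units_eq : Nat.card Kˣ = 3 ^ (2 * m + 1) - 1 := by
  rw [Nat.card_units, hK]

/-- The order of the twisted group. -/
theorem natCard_tw : Nat.card (Tw K m) =
    (3 ^ (2 * m + 1)) ^ 3 * ((3 ^ (2 * m + 1)) ^ 3 + 1) * (3 ^ (2 * m + 1) - 1) := by
  let φ : ((K × K × K) × Kˣ) ⊕ ((K × K × K) × Kˣ × (K × K × K)) → Tw K m := fun x =>
    match x with
    | .inl (u, B) => ⟨((wordU m u.1 u.2.1 u.2.2 * hh (B ^ 3 ^ m) B : ↥(GG K)) : GL I K),
        mul_mem (wordU_mem_tw m _ _ _) (hh_mem_tw hK B)⟩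
    | .inr (u, B, v) => ⟨((wordU m u.1 u.2.1 u.2.2 * hh (B ^ 3 ^ m) B * nn m 1 *
          wordU m v.1 v.2.1 v.2.2 : ↥(GG K)) : GL I K),
        mul_mem (mul_mem (mul_mem (wordU_mem_tw m _ _ _) (hh_mem_tw hK B)) (nn_mem_tw m 1))
          (wordU_mem_tw m _ _ _)⟩
  have hUeq : ∀ u u' : K × K × K, ((wordU m u.1 u.2.1 u.2.2 : ↥(GG K)) : GL I K) =
      ((wordU m u'.1 u'.2.1 u'.2.2 : ↥(GG K)) : GL I K) → u = u' := fun u u' h => by
    obtain ⟨h1, h2, h3⟩ := wordU_inj (Subtype.ext h)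
    exact Prod.ext h1 (Prod.ext h2 h3)
  have hBorel : ∀ (u : K × K × K) (B : Kˣ),
      ((wordU m u.1 u.2.1 u.2.2 * hh (B ^ 3 ^ m) B : ↥(GG K)) : GL I K) ∈ chevG2.borelSubgroup K :=
    fun u B => mul_mem (pos_le_borel _ (uElt_mem_pos _ _ _ _ _ _)) (diag_le_borel _ (hh_mem_diag _ _))
  have hNot : ∀ (u : K × K × K) (B : Kˣ) (v : K × K × K),
      ((wordU m u.1 u.2.1 u.2.2 * hh (B ^ 3 ^ m) B * nn m 1 * wordU m v.1 v.2.1 v.2.2 : ↥(GG K)) :
        GL I K) ∉ chevG2.borelSubgroup K := by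
    intro u B v h
    rw [Subgroup.coe_mul, Subgroup.coe_mul] at h
    exact nn_not_mem_borel (m := m) 1 (((chevG2.borelSubgroup K).mul_mem_cancel_left (hBorel u B)).1
      (((chevG2.borelSubgroup K).mul_mem_cancel_right
        (pos_le_borel _ (uElt_mem_pos _ _ _ _ _ _))).1 h))
  have hφ : Function.Bijective φ := by
    refine ⟨?_, ?_⟩
    · rintro (⟨u, B⟩ | ⟨u, B, v⟩) (⟨u', B'⟩ | ⟨u', B', v'⟩) h <;>
        have h' := congrArg Subtype.val h <;> simp only [φ] at h'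
      · obtain ⟨e1, e2⟩ := pos_mul_diag_unique (uElt_mem_pos _ _ _ _ _ _) (hh_mem_diag _ _)
          (uElt_mem_pos _ _ _ _ _ _) (hh_mem_diag _ _) h'
        obtain rfl := hUeq u u' e1
        obtain rfl := (hh_inj (Subtype.ext e2)).2
        rfl
      · exact absurd (h' ▸ hBorel u B) (hNot u' B' v')
      · exact absurd (h'.symm ▸ hBorel u' B') (hNot u B v)
      · obtain ⟨e1, e2, e3⟩ := cell_unique 1 (uElt_mem_pos _ _ _ _ _ _) (hh_mem_diag _ _)
          (uElt_mem_pos _ _ _ _ _ _) (uElt_mem_pos _ _ _ _ _ _) (hh_mem_diag _ _)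
          (uElt_mem_pos _ _ _ _ _ _) h'
        obtain rfl := hUeq u u' e1
        obtain rfl := (hh_inj (Subtype.ext e2)).2
        obtain rfl := hUeq v v' e3
        rfl
    · rintro ⟨g, hg⟩
      rcases tw_form hK hg with ⟨-, t, a, b, B, e⟩ | ⟨-, t, a, b, B, t', a', b', e⟩
      · exact ⟨.inl ((t, a, b), B), Subtype.ext e.symm⟩
      · exact ⟨.inr ((t, a, b), B, (t', a', b')), Subtype.ext e.symm⟩
  rw [← Nat.card_eq_of_bijective φ hφ, Nat.card_sum]
  simp only [Nat.card_prod, hK, natCard_units_eq hK]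
  ring

/-- `U ∩ ²G₂` consists of the words. -/
theorem pos_tw_iff {g : GL I K} :
    g ∈ chevG2.posUnipotent K ⊓ Tw K m ↔
      ∃ t u v : K, ((wordU m t u v : ↥(GG K)) : GL I K) = g := by
  rw [tw_eq_fix hK]
  exact pos_fix_iff hK

/-- `H ∩ ²G₂`. -/
theorem diag_tw_iff {g : GL I K} :
    g ∈ chevG2.diagonalSubgroup K ⊓ Tw K m ↔
      ∃ B : Kˣ, ((hh (B ^ 3 ^ m) B : ↥(GG K)) : GL I K) = g := by
  constructor
  · rintro ⟨hd, hg⟩
    obtain ⟨hgG, hfix⟩ := mem_fixG.1 (tw_le_fix hK hg)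
    obtain ⟨B, e⟩ := exists_hh_of_fixed hK (h := ⟨g, hgG⟩) hd hfix
    exact ⟨B, (congrArg Subtype.val e).symm⟩
  · rintro ⟨B, rfl⟩
    exact ⟨hh_mem_diag _ _, hh_mem_tw hK B⟩

/-- `H ∩ ²G₂ ≅ Kˣ`. -/
noncomputable def torusEquiv : Kˣ ≃* ↥(chevG2.diagonalSubgroup K ⊓ Tw K m) :=
  MulEquiv.ofBijective
    ({ toFun := fun B => ⟨((hh (B ^ 3 ^ m) B : ↥(GG K)) : GL I K), (diag_tw_iff hK).2 ⟨B, rfl⟩⟩
       map_one' := Subtype.ext (by
        show ((hh ((1 : Kˣ) ^ 3 ^ m) 1 : ↥(GG K)) : GL I K) = 1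
        rw [one_pow, hh_one]; rfl)
       map_mul' := fun x y => Subtype.ext (by
        show ((hh ((x * y) ^ 3 ^ m) (x * y) : ↥(GG K)) : GL I K) = _
        rw [mul_pow, ← hh_mul]; rfl) } : Kˣ →* ↥(chevG2.diagonalSubgroup K ⊓ Tw K m))
    ⟨fun x y h => (hh_inj (K := K) (A := x ^ 3 ^ m) (B := x) (A' := y ^ 3 ^ m) (B' := y)
      (Subtype.ext (congrArg (fun z : ↥(chevG2.diagonalSubgroup K ⊓ Tw K m) => (z : GL I K)) h))).2,
      fun g => by
      obtain ⟨B, e⟩ := (diag_tw_iff hK).1 g.2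
      exact ⟨B, Subtype.ext e⟩⟩

end Finite

end CfsgLib.ReeG2
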