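import Cfsg.Agent.ReeG2.Basics
import Mathlib

/-!
`²G₂(q)`: conjugation by the monomial element, perfectness, the core of `B¹`, `N¹/H¹`.
-/

set_option autoImplicit false
set_option linter.unusedSectionVars false
set_option linter.style.haveILetI false

namespace CfsgLib.ReeG2

open Cfsg.Lie CfsgLib.Chevalley

variable {K : Type*} [Field K] [CharP K 3] {m : ℕ}

theorem half_eq : half chevG2 = 6 := by decide +kernel

theorem conj_neg_mem_pos (u : Kˣ) {x : GL I K} (hx : x ∈ chevG2.negUnipotent K) :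
    ((nn m u : ↥(GG K)) : GL I K) * x * ((nn m u : ↥(GG K)) : GL I K)⁻¹ ∈
      chevG2.posUnipotent K := by
  rw [negUnipotent_eq_rootGen good_chevG2] at hx
  rw [posUnipotent_eq_rootGen good_chevG2]
  refine (monBy_nn m u).conj_rootGen (T := posSet chevG2) (fun r hr => ?_) hx
  show half chevG2 ≤ ((Fin.rev r : R0) : ℕ)
  have hr' : (r : ℕ) < 6 := half_eq ▸ hr
  rw [Fin.val_rev, half_eq]
  show 6 ≤ 12 - ((r : ℕ) + 1)
  omega

theorem nu_pos_mem_neg {g : ↥(GG K)} (hg : (g : GL I K) ∈ chevG2.posUnipotent K) :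
    ((nu K g : ↥(GG K)) : GL I K) ∈ chevG2.negUnipotent K := by
  obtain ⟨A, b, c, d, e, f, hW⟩ := exists_uElt hg
  obtain rfl : uElt A b c d e f = g := Subtype.ext hW
  have h : ∀ (r : R0) (x : K), 6 ≤ (r : ℕ) →
      ((nu K (xG r x) : ↥(GG K)) : GL I K) ∈ chevG2.negUnipotent K := fun r x hr => by
    rw [nu_xG]
    refine X_mem_neg good_chevG2 ?_ _
    rw [half_eq, Fin.val_rev]
    show 12 - ((r : ℕ) + 1) < 6
    omega
  simp only [uElt, tail, map_mul, Subgroup.coe_mul]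
  exact mul_mem (mul_mem (h _ _ (by decide)) (h _ _ (by decide)))
    (mul_mem (mul_mem (mul_mem (h _ _ (by decide)) (h _ _ (by decide))) (h _ _ (by decide)))
      (h _ _ (by decide)))

theorem wordU_mem_pos (t u v : K) :
    ((wordU m t u v : ↥(GG K)) : GL I K) ∈ chevG2.posUnipotent K :=
  uElt_mem_pos _ _ _ _ _ _

theorem wordU_zero : wordU m (0 : K) 0 0 = 1 := by
  simp [wordU, uElt, tail, xG_zero, theta]

/-- The element `wordU` in the twisted group. -/
def uT (m : ℕ) (t u v : K) : ↥(Tw K m) :=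
  ⟨((wordU m t u v : ↥(GG K)) : GL I K), wordU_mem_tw m t u v⟩

/-- The monomial element in the twisted group. -/
def nT (m : ℕ) (u : Kˣ) : ↥(Tw K m) := ⟨((nn m u : ↥(GG K)) : GL I K), nn_mem_tw m u⟩

/-- `U¹` in the twisted group. -/
abbrev UT (K : Type*) [Field K] (m : ℕ) : Subgroup ↥(Tw K m) :=
  (chevG2.posUnipotent K).subgroupOf (Tw K m)

/-- `B¹` in the twisted group. -/
abbrev BT (K : Type*) [Field K] (m : ℕ) : Subgroup ↥(Tw K m) :=
  (chevG2.borelSubgroup K ⊓ Tw K m).subgroupOf (Tw K m)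

theorem mem_BT {g : ↥(Tw K m)} : g ∈ BT K m ↔ (g : GL I K) ∈ chevG2.borelSubgroup K :=
  ⟨fun h => (Subgroup.mem_subgroupOf.1 h).1, fun h => Subgroup.mem_subgroupOf.2 ⟨h, g.2⟩⟩

section Finite

variable [Finite K] (hK : Nat.card K = 3 ^ (2 * m + 1))
include hK

/-- The torus element in the twisted group. -/
def hTw (B : Kˣ) : ↥(Tw K m) :=
  ⟨((hh (B ^ 3 ^ m) B : ↥(GG K)) : GL I K), hh_mem_tw hK B⟩

theorem hTw_conj (B : Kˣ) (t u v : K) :
    hTw hK B * uT m t u v * (hTw hK B)⁻¹ =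
      uT m ((B : K) * t) (theta m (B : K) ^ 3 * B * u) (theta m (B : K) ^ 3 * B ^ 2 * v) :=
  Subtype.ext (congrArg (fun x : ↥(GG K) => (x : GL I K)) (hh_conj_wordU hK B t u v))

theorem uT_mul (t u v t' u' v' : K) : uT m t u v * uT m t' u' v' =
    uT m (t + t') (u + u' - theta m t' ^ 3 * t)
      (v + v' - t' * u + theta m t' ^ 3 * (t * t' - t ^ 2)) :=
  Subtype.ext (congrArg (fun x : ↥(GG K) => (x : GL I K)) (wordU_mul hK t u v t' u' v'))

theorem uT_one : uT m (0 : K) 0 0 = 1 := Subtype.ext (congrArg (fun x : ↥(GG K) => (x : GL I K)) (wordU_zero (m := m)))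

theorem uT_inj {t u v t' u' v' : K} (h : uT m t u v = uT m t' u' v') : t = t' ∧ u = u' ∧ v = v' :=
  wordU_inj (Subtype.ext (congrArg (fun x : ↥(Tw K m) => (x : GL I K)) h))

theorem exists_uT_of_pos {g : ↥(Tw K m)} (hg : (g : GL I K) ∈ chevG2.posUnipotent K) :
    ∃ t u v : K, g = uT m t u v := by
  obtain ⟨t, u, v, e⟩ := (pos_tw_iff hK).1 ⟨hg, g.2⟩
  exact ⟨t, u, v, Subtype.ext e.symm⟩

theorem exists_hTw_of_diag {g : ↥(Tw K m)} (hg : (g : GL I K) ∈ chevG2.diagonalSubgroup K) :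
    ∃ B : Kˣ, g = hTw hK B := by
  obtain ⟨B, e⟩ := (diag_tw_iff hK).1 ⟨hg, g.2⟩
  exact ⟨B, Subtype.ext e.symm⟩

/-- Normal form in the twisted group. -/
theorem tw_form' (g : ↥(Tw K m)) :
    ((g : GL I K) ∈ chevG2.borelSubgroup K ∧ ∃ t a b : K, ∃ B : Kˣ,
        g = uT m t a b * hTw hK B) ∨
      ((g : GL I K) ∉ chevG2.borelSubgroup K ∧ ∃ t a b : K, ∃ B : Kˣ, ∃ t' a' b' : K,
        g = uT m t a b * hTw hK B * nT m 1 * uT m t' a' b') := by
  rcases tw_form hK g.2 with ⟨h, t, a, b, B, e⟩ | ⟨h, t, a, b, B, t', a', b', e⟩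
  · exact Or.inl ⟨h, t, a, b, B, Subtype.ext e⟩
  · exact Or.inr ⟨h, t, a, b, B, t', a', b', Subtype.ext e⟩

omit hK in
theorem nT_conj_pos {g : ↥(Tw K m)} (hg : (g : GL I K) ∈ chevG2.posUnipotent K) :
    ((nT m 1 * g * (nT m 1)⁻¹ : ↥(Tw K m)) : GL I K) ∈ chevG2.negUnipotent K :=
  conj_pos_mem_neg 1 hg

omit hK in
theorem nT_conj_diag {g : ↥(Tw K m)} (hg : (g : GL I K) ∈ chevG2.diagonalSubgroup K) :
    ((nT m 1 * g * (nT m 1)⁻¹ : ↥(Tw K m)) : GL I K) ∈ chevG2.diagonalSubgroup K :=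
  (Subgroup.mem_normalizer_iff.1
    (Chevalley.monomial_le_normalizer goodW (nn_mem_monomial (m := m) (1 : Kˣ))) _).1 hg

/-- `B¹ ∩ n B¹ n⁻¹ ⊆ H¹`. -/
theorem mem_diag_of_conj_mem_borel {g : ↥(Tw K m)} (hg : (g : GL I K) ∈ chevG2.borelSubgroup K)
    (hg' : ((nT m 1 * g * (nT m 1)⁻¹ : ↥(Tw K m)) : GL I K) ∈ chevG2.borelSubgroup K) :
    (g : GL I K) ∈ chevG2.diagonalSubgroup K := by
  rcases tw_form' hK g with ⟨-, t, a, b, B, rfl⟩ | ⟨h, -⟩
  swap
  · exact absurd hg h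
  have hd : ((hTw hK B : ↥(Tw K m)) : GL I K) ∈ chevG2.diagonalSubgroup K := hh_mem_diag _ _
  have e : nT m 1 * (uT m t a b * hTw hK B) * (nT m 1)⁻¹ =
      nT m 1 * uT m t a b * (nT m 1)⁻¹ * (nT m 1 * hTw hK B * (nT m 1)⁻¹) := by group
  rw [e, Subgroup.coe_mul] at hg'
  have hb := ((chevG2.borelSubgroup K).mul_mem_cancel_right
    (diag_le_borel _ (nT_conj_diag hd))).1 hg'
  have h1 : ((nT m 1 * uT m t a b * (nT m 1)⁻¹ : ↥(Tw K m)) : GL I K) = 1 := by
    have := Subgroup.mem_inf.2 ⟨hb, nT_conj_pos (g := uT m t a b) (wordU_mem_pos t a b)⟩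
    rwa [borel_inf_neg goodW, Subgroup.mem_bot] at this
  have h2 : nT m 1 * uT m t a b * (nT m 1)⁻¹ = 1 := Subtype.ext h1
  rw [mul_inv_eq_one, mul_eq_left] at h2
  rw [h2, one_mul]
  exact hd

/-- The core of `B¹` is trivial. -/
theorem normalCore_BT : (BT K m).normalCore = ⊥ := by
  rw [eq_bot_iff]
  intro g hg
  have hN : (BT K m).normalCore.Normal := inferInstance
  have hd : ∀ x ∈ (BT K m).normalCore, (x : GL I K) ∈ chevG2.diagonalSubgroup K := fun x hx =>
    mem_diag_of_conj_mem_borel hK (mem_BT.1 (Subgroup.normalCore_le _ hx))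
      (mem_BT.1 (Subgroup.normalCore_le _ (hN.conj_mem x hx _)))
  obtain ⟨B, rfl⟩ := exists_hTw_of_diag hK (hd g hg)
  have h1 : hTw hK B * uT m (1 : K) 0 0 * (hTw hK B)⁻¹ * (uT m (1 : K) 0 0)⁻¹ ∈
      (BT K m).normalCore := by
    rw [mul_assoc, mul_assoc]
    refine mul_mem hg ?_
    rw [← mul_assoc]
    exact hN.conj_mem _ (inv_mem hg) _
  have h2 : ((hTw hK B * uT m (1 : K) 0 0 * (hTw hK B)⁻¹ * (uT m (1 : K) 0 0)⁻¹ :
      ↥(Tw K m)) : GL I K) ∈ chevG2.posUnipotent K ⊓ chevG2.diagonalSubgroup K := by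
    refine Subgroup.mem_inf.2 ⟨?_, hd _ h1⟩
    rw [hTw_conj]
    exact mul_mem (wordU_mem_pos _ _ _) (inv_mem (wordU_mem_pos _ _ _))
  rw [pos_inf_diag goodW, Subgroup.mem_bot] at h2
  have h3 : hTw hK B * uT m (1 : K) 0 0 * (hTw hK B)⁻¹ = uT m (1 : K) 0 0 :=
    mul_inv_eq_one.1 (Subtype.ext h2)
  rw [hTw_conj] at h3
  have hB : B = 1 := Units.ext (by simpa using (uT_inj hK h3).1)
  subst hB
  refine Subgroup.mem_bot.2 (Subtype.ext ?_)
  show ((hh ((1 : Kˣ) ^ 3 ^ m) 1 : ↥(GG K)) : GL I K) = 1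
  rw [one_pow, hh_one]
  rfl

/-- The kernels of the two characters of the torus on the root groups of weight `u`, `v`. -/
theorem char_kernels {B : Kˣ} :
    (theta m (B : K) ^ 3 * B = 1 → (B : K) ^ 2 = 1) ∧
      (theta m (B : K) ^ 3 * B ^ 2 = 1 → B = 1) := by
  have hB := Units.ne_zero B
  have hc := theta_theta hK (B : K)
  constructor
  · intro h
    have h' := congrArg (theta m) h
    rw [theta_mul, theta_pow, hc, theta_one] at h'
    have h'' := congrArg (fun x : K => x ^ 3) h'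
    simp only [one_pow, mul_pow] at h''
    refine mul_left_cancel₀ (a := (B : K) * theta m (B : K) ^ 3) (mul_ne_zero hB ?_) ?_
    · intro e
      rw [e, zero_mul] at h
      exact zero_ne_one h
    linear_combination h'' - h
  · intro h
    have h' := congrArg (theta m) h
    rw [theta_mul, theta_pow, hc, theta_pow, theta_one] at h'
    have h'' := congrArg (fun x : K => x ^ 3) h'
    have e : (theta m (B : K) ^ 2) ^ 3 = (theta m (B : K) ^ 3) ^ 2 := by ring
    simp only [one_pow, mul_pow] at h''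
    rw [e] at h''
    refine Units.ext (mul_left_cancel₀ (a := (B : K) ^ 3 * (theta m (B : K) ^ 3) ^ 2) ?_ ?_)
    · rw [h'']
      exact one_ne_zero
    · rw [h'', Units.val_one]
      linear_combination (theta m (B : K) ^ 3 * (B : K) ^ 2 + 1) * h - (B : K) * h''

/-- The twisted group is perfect for `m ≥ 1`. -/
theorem tw_commutator (hm : 1 ≤ m) : commutator ↥(Tw K m) = ⊤ := by
  classical
  set D := commutator ↥(Tw K m) with hD
  have hcomm : ∀ a b : ↥(Tw K m), a * b * a⁻¹ * b⁻¹ ∈ D := fun a b =>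
    Subgroup.commutator_mem_commutator (Subgroup.mem_top a) (Subgroup.mem_top b)
  obtain ⟨B, hB⟩ : ∃ B : Kˣ, B ≠ 1 ∧ B ≠ -1 := by
    by_contra h
    push Not at h
    have hsub : (Set.univ : Set Kˣ) ⊆ {1, -1} := fun x _ => by
      rcases eq_or_ne x 1 with h1 | h1
      · exact Or.inl h1
      · exact Or.inr (h x h1)
    have h2 : Nat.card Kˣ ≤ 2 := by
      rw [← Set.ncard_univ]
      exact (Set.ncard_le_ncard hsub (Set.toFinite _)).trans
        ((Set.ncard_insert_le _ _).trans (by rw [Set.ncard_singleton]))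
    rw [natCard_units_eq hK] at h2
    have : 3 ^ 3 ≤ 3 ^ (2 * m + 1) := Nat.pow_le_pow_right (by norm_num) (by omega)
    omega
  obtain ⟨hB1, hBm⟩ := hB
  have hBK : (B : K) ≠ 1 := fun e => hB1 (Units.ext e)
  have c2ne : theta m (B : K) ^ 3 * B ≠ 1 := fun e => by
    rcases sq_eq_one_iff.1 ((char_kernels hK).1 e) with h | h
    · exact hBK h
    · exact hBm (Units.ext (by simpa using h))
  have c3ne : theta m (B : K) ^ 3 * B ^ 2 ≠ 1 := fun e => hB1 ((char_kernels hK).2 e)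
  have inv0 : ∀ x y : K, (uT m 0 x y)⁻¹ = uT m 0 (-x) (-y) := fun x y => by
    refine inv_eq_of_mul_eq_one_right ?_
    rw [uT_mul hK]
    simp [theta, uT_one hK]
  have hv : ∀ v : K, uT m 0 0 v ∈ D := fun v => by
    set c := theta m (B : K) ^ 3 * B ^ 2
    have h := hcomm (hTw hK B) (uT m 0 0 (v / (c - 1)))
    rw [hTw_conj, inv0, uT_mul hK] at h
    convert h using 1
    congr 1 <;> simp [theta_zero]
    field_simp [sub_ne_zero.2 c3ne]
    ring
  have hu : ∀ u v : K, uT m 0 u v ∈ D := fun u v => by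
    set c := theta m (B : K) ^ 3 * B
    have h := mul_mem (hcomm (hTw hK B) (uT m 0 (u / (c - 1)) 0)) (hv v)
    rw [hTw_conj, inv0, uT_mul hK, uT_mul hK] at h
    convert h using 1
    congr 1 <;> simp [theta_zero]
    field_simp [sub_ne_zero.2 c2ne]
    ring
  have hU : ∀ t u v : K, uT m t u v ∈ D := fun t u v => by
    have h := hcomm (hTw hK B) (uT m (t / ((B : K) - 1)) 0 0)
    rw [hTw_conj] at h
    obtain ⟨x, y, z, e⟩ := exists_uT_of_pos hK
      (g := uT m ((B : K) * (t / ((B : K) - 1))) (theta m (B : K) ^ 3 * B * 0)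
        (theta m (B : K) ^ 3 * B ^ 2 * 0) * (uT m (t / ((B : K) - 1)) 0 0)⁻¹)
      (mul_mem (wordU_mem_pos _ _ _) (inv_mem (wordU_mem_pos _ _ _)))
    rw [e] at h
    have ht : x = t := by
      have e' := (mul_inv_eq_iff_eq_mul.1 e)
      rw [uT_mul hK] at e'
      have := (uT_inj hK e').1
      field_simp [sub_ne_zero.2 hBK] at this
      exact mul_left_cancel₀ (sub_ne_zero.2 hBK) (by linear_combination -this)
    have h2 := mul_mem h (hu (u - y) (v - z))
    rw [uT_mul hK, ht] at h2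
    convert h2 using 1
    congr 1 <;> simp [theta_zero]
  have hV : ∀ t u v : K, (⟨((nu K (wordU m t u v) : ↥(GG K)) : GL I K),
      nu_wordU_mem_tw m t u v⟩ : ↥(Tw K m)) ∈ D := fun t u v => by
    set y : ↥(Tw K m) := ⟨_, nu_wordU_mem_tw m t u v⟩ with hy
    obtain ⟨a, b, c, e⟩ := exists_uT_of_pos hK (g := nT m 1 * y * (nT m 1)⁻¹)
      (conj_neg_mem_pos 1 (nu_pos_mem_neg (wordU_mem_pos t u v)))
    have h := hU a b c
    rw [← e] at h
    have hn : D.Normal := by rw [hD]; infer_instance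
    have h2 := hn.conj_mem _ h (nT m 1)⁻¹
    rwa [inv_inv, show (nT m 1)⁻¹ * (nT m 1 * y * (nT m 1)⁻¹) * nT m 1 = y by group] at h2
  rw [eq_top_iff]
  intro g _
  have hle : Tw K m ≤ D.map (Tw K m).subtype := by
    refine (Subgroup.closure_le _).2 ?_
    rintro x ⟨w, ⟨t, u, v, rfl | rfl⟩, hx⟩
    · exact ⟨uT m t u v, hU t u v, Units.ext ((coe_wordU m t u v).trans hx.symm)⟩
    · exact ⟨_, hV t u v, Units.ext ((coe_nu_wordU m t u v).trans hx.symm)⟩
  obtain ⟨g', hg', e⟩ := hle g.2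
  obtain rfl : g' = g := Subtype.ext e
  exact hg'

/-- Outside `H¹`, `N¹` is the coset `H¹ n`. -/
theorem monomial_tw_cases {g : GL I K} (hg : g ∈ chevG2.monomialSubgroup K ⊓ Tw K m) :
    g ∈ chevG2.diagonalSubgroup K ∨
      g * ((nn m 1 : ↥(GG K)) : GL I K)⁻¹ ∈ chevG2.diagonalSubgroup K := by
  rcases tw_form hK hg.2 with ⟨hb, -⟩ | ⟨-, t, a, b, B, t', a', b', e⟩
  · refine Or.inl ?_
    rw [← borel_inf_monomial goodW Weyl.rootG2_good]
    exact ⟨hb, hg.1⟩
  · refine Or.inr ?_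
    obtain ⟨C, M, R, hR⟩ := exists_frame
    have hn := nn_mem_monomial (m := m) (1 : Kˣ)
    have h1 : g ∈ cell goodW hR K
        (weylHom goodW hR (⟨_, hn⟩ : ↥(chevG2.monomialSubgroup K))) := by
      rw [e, Subgroup.coe_mul, Subgroup.coe_mul]
      refine mul_mem_cell goodW hR ?_ (mem_cell_self goodW hR ⟨_, hn⟩)
        (pos_le_borel _ (wordU_mem_pos t' a' b'))
      exact mul_mem (pos_le_borel _ (wordU_mem_pos t a b)) (diag_le_borel _ (hh_mem_diag _ _))
    have h2 := cell_eq_of_mem goodW hR h1 (mem_cell_self goodW hR ⟨g, hg.1⟩)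
    have hker : (⟨g, hg.1⟩ : ↥(chevG2.monomialSubgroup K)) * ⟨_, hn⟩⁻¹ ∈
        (weylHom goodW hR (F := K)).ker := by
      rw [MonoidHom.mem_ker, map_mul, map_inv, h2, mul_inv_cancel]
    rw [ker_weylHom] at hker
    exact hker

/-- `N¹/H¹` has order two. -/
theorem exists_weyl_hom : ∃ φ : ↥(chevG2.monomialSubgroup K ⊓ Tw K m) →* Multiplicative (ZMod 2),
    Function.Surjective φ ∧ φ.ker = (chevG2.diagonalSubgroup K ⊓ Tw K m).subgroupOf
      (chevG2.monomialSubgroup K ⊓ Tw K m) := by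
  classical
  set N := chevG2.monomialSubgroup K ⊓ Tw K m with hNdef
  set n : ↥N := ⟨((nn m 1 : ↥(GG K)) : GL I K), nn_mem_monomial 1, nn_mem_tw m 1⟩ with hn
  have hnd : (n : GL I K) ∉ chevG2.diagonalSubgroup K := fun h =>
    nn_not_mem_borel (m := m) (1 : Kˣ) (diag_le_borel _ h)
  have hn2 : (n : GL I K) * n ∈ chevG2.diagonalSubgroup K := by
    refine mem_diag_of_monBy_one (mul_mem (nn_mem_monomial 1) (nn_mem_monomial 1)) ?_
    have h := (monBy_nn (K := K) m 1).mul (monBy_nn m 1)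
    rwa [show (revPerm * revPerm : Equiv.Perm R0) = 1 from Equiv.ext (by decide)] at h
  set H := (chevG2.diagonalSubgroup K ⊓ Tw K m).subgroupOf N with hH
  have hmem : ∀ x : ↥N, x ∈ H ↔ (x : GL I K) ∈ chevG2.diagonalSubgroup K := fun x =>
    ⟨fun h => (Subgroup.mem_subgroupOf.1 h).1, fun h => Subgroup.mem_subgroupOf.2 ⟨h, x.2.2⟩⟩
  have hidx : H.index = 2 := by
    rw [Subgroup.index_eq_two_iff]
    refine ⟨n, fun b => ?_⟩
    rcases monomial_tw_cases hK b.2 with hb | hb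
    · refine Or.inr ⟨(hmem b).2 hb, fun h => hnd ?_⟩
      rw [hmem, Subgroup.coe_mul] at h
      exact ((chevG2.diagonalSubgroup K).mul_mem_cancel_left hb).1 h
    · refine Or.inl ⟨?_, fun h => hnd ?_⟩
      · rw [hmem, Subgroup.coe_mul,
          show (b : GL I K) * n = (b : GL I K) * (n : GL I K)⁻¹ * ((n : GL I K) * n) by group]
        exact mul_mem hb hn2
      · rw [hmem] at h
        have := ((chevG2.diagonalSubgroup K).mul_mem_cancel_left h).1 hb
        exact inv_inv (n : GL I K) ▸ inv_mem this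
  let φ : ↥N →* Multiplicative (ZMod 2) :=
    { toFun := fun x => if x ∈ H then 1 else Multiplicative.ofAdd 1
      map_one' := if_pos H.one_mem
      map_mul' := fun x y => by
        have h := Subgroup.mul_mem_iff_of_index_two hidx (a := x) (b := y)
        by_cases hx : x ∈ H <;> by_cases hy : y ∈ H <;> simp [h, hx, hy] <;> decide }
  refine ⟨φ, ?_, ?_⟩
  · intro z
    have hz : ∀ z : Multiplicative (ZMod 2), z = 1 ∨ z = Multiplicative.ofAdd 1 := by decide
    rcases hz z with rfl | rfl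
    · exact ⟨1, map_one φ⟩
    · exact ⟨n, if_neg fun h => hnd ((hmem n).1 h)⟩
  · ext x
    rw [MonoidHom.mem_ker]
    show (if x ∈ H then (1 : Multiplicative (ZMod 2)) else Multiplicative.ofAdd 1) = 1 ↔ x ∈ H
    by_cases hx : x ∈ H <;> simp [hx] <;> decide

end Finite

end CfsgLib.ReeG2
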