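import Cfsg.Agent.ReeG2.Group
import Mathlib

/-!
`²G₂(q)`: the characteristic, and the torus action on `U¹`.
-/

set_option autoImplicit false
set_option linter.unusedSectionVars false
set_option linter.style.haveILetI false

namespace CfsgLib.ReeG2

open Cfsg.Lie CfsgLib.Chevalley

theorem charP_of_card {K : Type*} [Field K] [Finite K] {m : ℕ}
    (hK : Nat.card K = 3 ^ (2 * m + 1)) : CharP K 3 := by
  haveI := Fintype.ofFinite K
  obtain ⟨p, hp⟩ := CharP.exists K
  obtain ⟨n, hp', hn⟩ := FiniteField.card K p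
  rw [Nat.card_eq_fintype_card] at hK
  obtain rfl : p = 3 := by
    have h1 : p ∣ 3 ^ (2 * m + 1) := hK ▸ hn ▸ dvd_pow_self p n.ne_zero
    exact (Nat.prime_dvd_prime_iff_eq hp' Nat.prime_three).1 (hp'.dvd_of_dvd_pow h1)
  exact hp

variable {K : Type*} [Field K] [CharP K 3] {m : ℕ}

theorem hh_conj_wordU [Finite K] (hK : Nat.card K = 3 ^ (2 * m + 1)) (B : Kˣ) (t u v : K) :
    hh (B ^ 3 ^ m) B * wordU m t u v * (hh (B ^ 3 ^ m) B)⁻¹ =
      wordU m ((B : K) * t) (theta m (B : K) ^ 3 * B * u) (theta m (B : K) ^ 3 * B ^ 2 * v)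
    := by
  obtain ⟨h7, h6, h8, h9, h10, h11⟩ := chi_table (B ^ 3 ^ m) B
  rw [← MulAut.conj_apply]
  simp only [wordU, uElt, tail, map_mul, MulAut.conj_apply, hh_conj, h6, h7, h8, h9, h10, h11,
    Units.val_mul, Units.val_pow_eq_pow_val (B ^ 3 ^ m), Units.val_pow_eq_pow_val B]
  rw [show (B : K) ^ 3 ^ m = theta m (B : K) from rfl]
  simp only [theta_mul, theta_pow, theta_theta hK]
  ring_nf

end CfsgLib.ReeG2
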