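import Cfsg.Agent.ReeG2.AutRigid
import Cfsg.Prelude.Def_KGroupFacts
import Mathlib

/-!
`Out(²G₂(q))` consists of the field automorphisms.
-/

set_option autoImplicit false
set_option linter.unusedSectionVars false
set_option linter.style.haveILetI false
set_option maxHeartbeats 1000000
set_option synthInstance.maxHeartbeats 200000

namespace CfsgLib.ReeG2

open Cfsg.Lie CfsgLib.Chevalley

variable {K : Type*} [Field K] [CharP K 3] {m : ℕ}

section Finite

variable [Finite K] (hK : Nat.card K = 3 ^ (2 * m + 1))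
include hK

theorem finite_tw' : Finite ↥(Tw K m) :=
  Finite.of_injective (fun g : ↥(Tw K m) => ((g : GL I K) : Matrix I I K))
    fun _ _ h => Subtype.ext (Units.ext h)

theorem exists_sylow_UT : ∃ S : Sylow 3 ↥(Tw K m), (S : Subgroup ↥(Tw K m)) = UT K m := by
  classical
  haveI : Fact (Nat.Prime 3) := ⟨Nat.prime_three⟩
  haveI := finite_tw' hK
  let φ : K × K × K → UT K m :=
    fun x => ⟨uT m x.1 x.2.1 x.2.2, uT_mem_UT (m := m) x.1 x.2.1 x.2.2⟩
  have hφ : Function.Bijective φ := ⟨fun x y h => by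
      obtain ⟨h1, h2, h3⟩ := uT_inj hK (congrArg (fun z : ↥(UT K m) => (z : ↥(Tw K m))) h)
      exact Prod.ext h1 (Prod.ext h2 h3),
    fun g => by
      obtain ⟨t, u, v, e⟩ := exists_uT_of_pos hK (g := (g : ↥(Tw K m))) (coe_pos_of_UT g.2)
      exact ⟨(t, u, v), Subtype.ext e.symm⟩⟩
  have hcard : Nat.card (UT K m) = (3 ^ (2 * m + 1)) ^ 3 := by
    rw [← Nat.card_eq_of_bijective φ hφ]
    simp only [Nat.card_prod, hK]
    ring
  refine ⟨Sylow.ofCard (UT K m) ?_, rfl⟩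
  obtain ⟨r, hr, hro⟩ := two_part m
  have := hro.pos
  rw [hcard, natCard_tw hK, Nat.factorization_mul (by positivity) (by rw [hr]; positivity),
    Nat.factorization_mul (by positivity) (by positivity)]
  have hd : (3 : ℕ) ∣ 3 ^ (2 * m + 1) := dvd_pow_self 3 (by omega)
  have h1 : ((3 ^ (2 * m + 1)) ^ 3 + 1).factorization 3 = 0 :=
    Nat.factorization_eq_zero_of_not_dvd fun h =>
      absurd ((Nat.dvd_add_right (dvd_pow hd (by decide))).1 h) (by decide)
  have h2 : (3 ^ (2 * m + 1) - 1).factorization 3 = 0 :=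
    Nat.factorization_eq_zero_of_not_dvd fun h => by
      have h0 : 1 ≤ 3 ^ (2 * m + 1) := Nat.one_le_pow _ _ (by decide)
      have := Nat.dvd_sub hd h
      rw [Nat.sub_sub_self h0] at this
      exact absurd this (by decide)
  simp only [Finsupp.coe_add, Pi.add_apply, h1, h2, Nat.factorization_pow, Finsupp.coe_smul,
    Pi.smul_apply, Nat.prime_three.factorization_self]
  rw [← pow_mul]
  congr 1
  simp [mul_comm]

/-- Only elements of `B¹` conjugate `U¹` into itself. -/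
theorem mem_BT_of_conj {g : ↥(Tw K m)} (h : ∀ x ∈ UT K m, g * x * g⁻¹ ∈ UT K m) : g ∈ BT K m := by
  by_contra hg
  obtain ⟨b, hb, u, hu, rfl⟩ := exists_big hK hg
  have h1 := h (u⁻¹ * uT m 1 0 0 * u) (mul_mem (mul_mem (inv_mem hu) (uT_mem_UT 1 0 0)) hu)
  rw [show b * nT m 1 * u * (u⁻¹ * uT m 1 0 0 * u) * (b * nT m 1 * u)⁻¹ =
    b * (nT m 1 * uT m 1 0 0 * (nT m 1)⁻¹) * b⁻¹ by group] at h1
  have h2 := mul_mem (mul_mem (inv_mem hb) (UT_le_BT h1)) hb
  rw [show b⁻¹ * (b * (nT m 1 * uT m (1 : K) 0 0 * (nT m 1)⁻¹) * b⁻¹) * b =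
    nT m 1 * uT m 1 0 0 * (nT m 1)⁻¹ by group] at h2
  have h3 := UT_inf_conj _ (uT_mem_UT 1 0 0) h2
  exact one_ne_zero (uT_inj hK (h3.trans (uT_one hK).symm)).1

theorem hTw_pow (B : Kˣ) (k : ℕ) : hTw hK B ^ k = hTw hK (B ^ k) := by
  induction k with
  | zero => simp [hTw_one]
  | succ k ih => rw [pow_succ, ih, hTw_mul, pow_succ]

theorem uT_mul_hTw_inj {t u v t' u' v' : K} {B B' : Kˣ}
    (e : uT m t u v * hTw hK B = uT m t' u' v' * hTw hK B') :
    (t = t' ∧ u = u' ∧ v = v') ∧ B = B' := by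
  obtain ⟨e1, e2⟩ := pos_mul_diag_unique (wordU_mem_pos t u v) (hh_mem_diag _ _)
    (wordU_mem_pos t' u' v') (hh_mem_diag _ _) (congrArg (fun g : ↥(Tw K m) => (g : GL I K)) e)
  exact ⟨wordU_inj (Subtype.ext e1), (hh_inj (Subtype.ext e2)).2⟩

/-- Up to an inner automorphism an automorphism preserves `U¹` and `H¹`. -/
theorem exists_conj_preserving (hm : 1 ≤ m) (φ : MulAut ↥(Tw K m)) :
    ∃ g : ↥(Tw K m), (∀ t u v : K, ∃ t' u' v' : K,
        (MulAut.conj g * φ) (uT m t u v) = uT m t' u' v') ∧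
      ∀ B : Kˣ, ∃ B' : Kˣ, (MulAut.conj g * φ) (hTw hK B) = hTw hK B' := by
  classical
  haveI : Fact (Nat.Prime 3) := ⟨Nat.prime_three⟩
  haveI := finite_tw' hK
  obtain ⟨S, hS⟩ := exists_sylow_UT hK
  obtain ⟨P, hP⟩ := (S.2.map φ.toMonoidHom).exists_le_sylow
  obtain ⟨g₁, hg₁⟩ := MulAction.exists_smul_eq ↥(Tw K m) P S
  set ψ := MulAut.conj g₁ * φ with hψ
  have hU : ∀ x ∈ UT K m, ψ x ∈ UT K m := by
    intro x hx
    have h2 : g₁ * φ x * g₁⁻¹ ∈ ((g₁ • P : Sylow 3 ↥(Tw K m)) : Subgroup ↥(Tw K m)) :=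
      ⟨φ x, hP ⟨x, by rw [hS]; exact hx, rfl⟩, rfl⟩
    rw [hg₁, hS] at h2
    exact h2
  have hUeq : ∀ x ∈ UT K m, ∃ y ∈ UT K m, ψ y = x := by
    intro x hx
    let f : UT K m → UT K m := fun v => ⟨ψ v, hU v v.2⟩
    have hf : Function.Injective f := fun a b h =>
      Subtype.ext (ψ.injective (congrArg Subtype.val h))
    obtain ⟨v, hv⟩ := (Finite.surjective_of_injective hf) ⟨x, hx⟩
    exact ⟨v.1, v.2, congrArg Subtype.val hv⟩
  obtain ⟨μ₀, hμ₀⟩ := IsCyclic.exists_generator (α := Kˣ)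
  have hB : ψ (hTw hK μ₀) ∈ BT K m := by
    refine mem_BT_of_conj hK fun x hx => ?_
    obtain ⟨y, hy, rfl⟩ := hUeq x hx
    rw [← map_inv, ← map_mul, ← map_mul]
    exact hU _ (conj_mem_UT hK (hTw_mem_BT hK μ₀) hy)
  rcases tw_form' hK (ψ (hTw hK μ₀)) with ⟨-, t, u, v, B, hν⟩ | ⟨h, -⟩
  swap
  · exact absurd (mem_BT.1 hB) h
  have hsq : B ^ 2 ≠ 1 := by
    intro h
    have h1 : ψ (hTw hK (μ₀ ^ 2)) ∈ UT K m := by
      rw [← hTw_pow, map_pow, hν, pow_two,
        show uT m t u v * hTw hK B * (uT m t u v * hTw hK B) =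
          uT m t u v * (hTw hK B * uT m t u v * (hTw hK B)⁻¹) * (hTw hK B * hTw hK B) by group,
        hTw_mul, ← pow_two, h, hTw_one, mul_one, hTw_conj]
      exact mul_mem (uT_mem_UT _ _ _) (uT_mem_UT _ _ _)
    obtain ⟨y, hy, hy'⟩ := hUeq _ h1
    rw [ψ.injective hy'] at hy
    obtain ⟨a, b, c, e⟩ := exists_uT_of_pos hK (coe_pos_of_UT hy)
    have e2 : uT m (0 : K) 0 0 * hTw hK (μ₀ ^ 2) = uT m a b c * hTw hK 1 := by
      rw [uT_one hK, one_mul, e, hTw_one, mul_one]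
    have h0 := (uT_mul_hTw_inj hK e2).2
    have hle := Nat.le_of_dvd two_pos (orderOf_dvd_of_pow_eq_one h0)
    rw [orderOf_eq_card_of_forall_mem_zpowers hμ₀, natCard_units_eq hK] at hle
    have : 3 ^ 3 ≤ 3 ^ (2 * m + 1) := Nat.pow_le_pow_right (by norm_num) (by omega)
    omega
  have hB1 : (B : K) ≠ 1 := fun h => hsq (by rw [show B = 1 from Units.ext h, one_pow])
  have hB2 : theta m (B : K) ^ 3 * B ≠ 1 := fun h =>
    hsq (Units.ext (by simpa using (char_kernels hK).1 h))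
  have hB3 : theta m (B : K) ^ 3 * B ^ 2 ≠ 1 := fun h =>
    hB1 (congrArg Units.val ((char_kernels hK).2 h))
  haveI : Finite (UT K m) := inferInstance
  let f : UT K m → UT K m := fun x => ⟨(x : ↥(Tw K m))⁻¹ * (hTw hK B * x * (hTw hK B)⁻¹),
    mul_mem (inv_mem x.2) (conj_mem_UT hK (hTw_mem_BT hK B) x.2)⟩
  have hf : Function.Injective f := by
    intro x y hxy
    have h : (x : ↥(Tw K m))⁻¹ * (hTw hK B * x * (hTw hK B)⁻¹) =
        (y : ↥(Tw K m))⁻¹ * (hTw hK B * y * (hTw hK B)⁻¹) := congrArg Subtype.val hxy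
    set z := (y : ↥(Tw K m)) * (x : ↥(Tw K m))⁻¹ with hz
    have h2 : hTw hK B * z * (hTw hK B)⁻¹ = z := by
      rw [show hTw hK B * z * (hTw hK B)⁻¹ =
        (hTw hK B * y * (hTw hK B)⁻¹) * (hTw hK B * x * (hTw hK B)⁻¹)⁻¹ by rw [hz]; group,
        show hTw hK B * (y : ↥(Tw K m)) * (hTw hK B)⁻¹ =
          y * ((y : ↥(Tw K m))⁻¹ * (hTw hK B * y * (hTw hK B)⁻¹)) by group, ← h, hz]
      group
    obtain ⟨a, b, c, e⟩ := exists_uT_of_pos hK (g := z)
      (coe_pos_of_UT (mul_mem y.2 (inv_mem x.2) : z ∈ UT K m))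
    rw [e, hTw_conj] at h2
    obtain ⟨e1, e2, e3⟩ := uT_inj hK h2
    have hkill : ∀ (c : K) (z : K), c ≠ 1 → c * z = z → z = 0 := fun c z hc hz' => by
      by_contra hz0
      exact hc ((mul_eq_right₀ hz0).1 hz')
    rw [hkill _ a hB1 e1, hkill _ b hB2 e2, hkill _ c hB3 e3, uT_one hK, hz, mul_inv_eq_one] at e
    exact (Subtype.ext e).symm
  obtain ⟨x, hx⟩ := (Finite.surjective_of_injective hf) ⟨uT m t u v, uT_mem_UT (m := m) t u v⟩
  have hx' : (x : ↥(Tw K m))⁻¹ * (hTw hK B * x * (hTw hK B)⁻¹) = uT m t u v :=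
    congrArg Subtype.val hx
  refine ⟨(x : ↥(Tw K m)) * g₁, fun a b c => ?_, fun C => ?_⟩
  · obtain ⟨a', b', c', e⟩ := exists_uT_of_pos hK (g := (MulAut.conj (x * g₁) * φ) (uT m a b c))
      (coe_pos_of_UT (by
        rw [map_mul, mul_assoc, ← hψ, MulAut.mul_apply, MulAut.conj_apply]
        exact mul_mem (mul_mem x.2 (hU _ (uT_mem_UT a b c))) (inv_mem x.2)))
    exact ⟨a', b', c', e⟩
  · have hgen : (MulAut.conj (x * g₁) * φ) (hTw hK μ₀) = hTw hK B := by
      rw [map_mul, mul_assoc, ← hψ, MulAut.mul_apply, MulAut.conj_apply, hν, ← hx']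
      group
    obtain ⟨k, rfl⟩ := mem_powers_iff_mem_zpowers.2 (hμ₀ C)
    exact ⟨B ^ k, by rw [← hTw_pow, map_pow, hgen, hTw_pow]⟩

/-- An automorphism preserving `U¹` and `H¹` is a field automorphism up to a torus element. -/
theorem exists_eq_of_preserving (hm : 1 ≤ m) (φ : MulAut ↥(Tw K m))
    (hU : ∀ t u v : K, ∃ t' u' v' : K, φ (uT m t u v) = uT m t' u' v')
    (hT : ∀ B : Kˣ, ∃ B' : Kˣ, φ (hTw hK B) = hTw hK B') :
    ∃ (ν : Kˣ) (σ : K ≃+* K), φ = MulAut.conj (hTw hK ν) * galAut m σ := by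
  haveI : Finite Kˣ := inferInstance
  choose χ hχ using hT
  have hz : theta m (0 : K) = 0 := theta_zero m
  have hchi_surj : ∀ l : K, l ≠ 0 → ∃ B : Kˣ, chi3 m (B : K) = l := by
    intro l hl
    have hne : ∀ B : Kˣ, chi3 m (B : K) ≠ 0 := fun B => mul_ne_zero (pow_ne_zero _ fun h => by
      have := theta_theta hK (B : K)
      rw [h, theta_zero] at this
      exact B.ne_zero (by simpa using this.symm)) (pow_ne_zero _ B.ne_zero)
    obtain ⟨B, hB⟩ := (Finite.surjective_of_injective (f := fun B : Kˣ => Units.mk0 _ (hne B))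
      fun a b h => chi3_inj hK (congrArg Units.val h)) (Units.mk0 l hl)
    exact ⟨B, congrArg Units.val hB⟩
  have hcube : ∀ t u v : K, uT m t u v ^ 3 = uT m 0 0 (-(chi3 m t)) := fun t u v =>
    Subtype.ext (by
      show ((wordU m t u v : ↥(GG K)) : GL I K) ^ 3 = _
      rw [← Subgroup.coe_pow, wordU_cube hK]
      rfl)
  have hcen : ∀ v, ∃ v', φ (uT m 0 0 v) = uT m 0 0 v' := by
    intro v
    rcases eq_or_ne v 0 with rfl | hv
    · exact ⟨0, by rw [uT_one hK, map_one]⟩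
    obtain ⟨B, hB⟩ := hchi_surj (-v) (neg_ne_zero.2 hv)
    obtain ⟨a, b, c, e⟩ := hU (B : K) 0 0
    refine ⟨-(chi3 m a), ?_⟩
    rw [← hcube a b c, ← e, ← map_pow, hcube, hB, neg_neg]
  choose f hf using hcen
  have hfadd : ∀ b b', f (b + b') = f b + f b' := by
    intro b b'
    have h := map_mul φ (uT m 0 0 b) (uT m 0 0 b')
    simp only [uT_mul hK, hz, hf, zero_add, add_zero, sub_zero, mul_zero, zero_mul,
      zero_pow (by decide : 3 ≠ 0), zero_pow (by decide : 2 ≠ 0)] at h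
    exact (uT_inj hK h).2.2
  have hfinj : Function.Injective f := fun b b' h =>
    (uT_inj hK (φ.injective (by rw [hf, hf, h]))).2.2
  have hf0 : f 0 = 0 := by simpa using hfadd 0 0
  have hf1 : f 1 ≠ 0 := fun h => one_ne_zero (hfinj (h.trans hf0.symm))
  have hconj : ∀ (B : Kˣ) b, f (chi3 m (B : K) * b) = chi3 m (χ B : K) * f b := by
    intro B b
    have h := congrArg φ (hTw_conj hK B 0 0 b)
    rw [map_mul, map_mul, map_inv, hχ, hf, hTw_conj] at h
    simp only [mul_zero] at h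
    rw [hf] at h
    exact (uT_inj hK h).2.2.symm
  obtain ⟨ν, hν⟩ := hchi_surj (f 1) hf1
  let f' : K → K := fun b => f b / f 1
  have hf'mul : ∀ l b, f' (l * b) = f' l * f' b := by
    intro l b
    rcases eq_or_ne l 0 with rfl | hl
    · simp [f', hf0]
    obtain ⟨B, rfl⟩ := hchi_surj l hl
    have h1 := hconj B b
    have h2 := hconj B 1
    rw [mul_one] at h2
    simp only [f', h1, h2]
    field_simp
  let σ : K ≃+* K := RingEquiv.ofBijective
    ({ toFun := f'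
       map_one' := div_self hf1
       map_mul' := hf'mul
       map_zero' := by simp [f', hf0]
       map_add' := fun a b => by simp [f', hfadd, add_div] } : K →+* K)
    (Finite.injective_iff_bijective.1 fun a b h => hfinj ((div_left_inj' hf1).1 h))
  refine ⟨ν, σ, ?_⟩
  suffices hid : (galAut m σ)⁻¹ * (MulAut.conj (hTw hK ν))⁻¹ * φ = 1 by
    rw [← mul_inv_rev, inv_mul_eq_one] at hid
    exact hid.symm
  have happ : ∀ g, ((galAut m σ)⁻¹ * (MulAut.conj (hTw hK ν))⁻¹ * φ) g =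
      galAut m σ.symm ((hTw hK ν)⁻¹ * φ g * hTw hK ν) := by
    intro g
    rw [← map_inv, ← map_inv, MulAut.mul_apply, MulAut.mul_apply, MulAut.conj_apply, inv_inv]
    rfl
  refine eq_of_fixes hK hm _ (fun t u v => ?_) (fun B => ?_) (fun v => ?_)
  · obtain ⟨a, b, c, e⟩ := hU t u v
    rw [happ, e, show (hTw hK ν)⁻¹ * uT m a b c * hTw hK ν =
      hTw hK ν⁻¹ * uT m a b c * (hTw hK ν⁻¹)⁻¹ by rw [hTw_inv, hTw_inv, inv_inv], hTw_conj,
      galAut_uT]
    exact ⟨_, _, _, rfl⟩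
  · rw [happ, hχ, hTw_inv, hTw_mul, hTw_mul, galAut_hTw]
    exact ⟨_, rfl⟩
  · rw [happ, hf, show (hTw hK ν)⁻¹ * uT m 0 0 (f v) * hTw hK ν =
      hTw hK ν⁻¹ * uT m 0 0 (f v) * (hTw hK ν⁻¹)⁻¹ by rw [hTw_inv, hTw_inv, inv_inv], hTw_conj,
      galAut_uT]
    simp only [mul_zero, map_zero]
    congr 1
    rw [RingEquiv.symm_apply_eq]
    show _ = f v / f 1
    rw [← hν, chi3, eq_div_iff (by rw [← chi3, hν]; exact hf1)]
    have e1 : theta m ((ν⁻¹ : Kˣ) : K) * theta m (ν : K) = 1 := by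
      rw [← theta_mul, Units.inv_mul, theta_one]
    calc theta m ((ν⁻¹ : Kˣ) : K) ^ 3 * ((ν⁻¹ : Kˣ) : K) ^ 2 * f v *
          (theta m (ν : K) ^ 3 * (ν : K) ^ 2)
        = (theta m ((ν⁻¹ : Kˣ) : K) * theta m (ν : K)) ^ 3 *
            (((ν⁻¹ : Kˣ) : K) * (ν : K)) ^ 2 * f v := by ring
      _ = f v := by rw [e1, Units.inv_mul]; ring

/-- Field automorphisms, modulo inner automorphisms. -/
def galOut (m : ℕ) : (K ≃+* K) →* Cfsg.Out ↥(Tw K m) :=
  (QuotientGroup.mk' (Cfsg.Inn ↥(Tw K m))).comp (galAut m)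

theorem galOut_bijective (hm : 1 ≤ m) : Function.Bijective (galOut (K := K) m) := by
  constructor
  · rw [injective_iff_map_eq_one]
    intro σ hσ
    rw [galOut, MonoidHom.comp_apply, QuotientGroup.mk'_apply, QuotientGroup.eq_one_iff] at hσ
    obtain ⟨g, hg⟩ := hσ
    have hg' : ∀ k, g * k * g⁻¹ = galAut m σ k := fun k => DFunLike.congr_fun hg k
    have hgB : g ∈ BT K m := mem_BT_of_conj hK fun x hx => by
      obtain ⟨a, b, c, rfl⟩ := exists_uT_of_pos hK (coe_pos_of_UT hx)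
      rw [hg', galAut_uT]
      exact uT_mem_UT _ _ _
    rcases tw_form' hK g with ⟨-, t, u, v, B, rfl⟩ | ⟨h, -⟩
    swap
    · exact absurd (mem_BT.1 hgB) h
    obtain ⟨C, hC1, -, hC2, hC3⟩ := exists_generic hK hm
    -- `t = u = v = 0`
    have e1 := hg' (hTw hK C)
    rw [galAut_hTw hK,
      show uT m t u v * hTw hK B * hTw hK C * (uT m t u v * hTw hK B)⁻¹ =
        uT m t u v * (hTw hK B * hTw hK C * (hTw hK B)⁻¹) * (uT m t u v)⁻¹ by group,
      hTw_inv, hTw_mul, hTw_mul, mul_comm B C, mul_inv_cancel_right, mul_inv_eq_iff_eq_mul] at e1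
    set C' := Units.map σ.toMonoidHom C with hC'
    have e2 : uT m t u v * hTw hK C = uT m ((C' : K) * t) (theta m (C' : K) ^ 3 * C' * u)
        (theta m (C' : K) ^ 3 * (C' : K) ^ 2 * v) * hTw hK C' := by
      rw [← hTw_conj hK C', inv_mul_cancel_right]
      exact e1
    obtain ⟨⟨a1, a2, a3⟩, hCC⟩ := uT_mul_hTw_inj hK e2
    rw [← hCC] at a1 a2 a3
    have hkill : ∀ (c : K) (z : K), c ≠ 1 → c * z = z → z = 0 := fun c z hc hz' => by
      by_contra hz0
      exact hc ((mul_eq_right₀ hz0).1 hz')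
    obtain rfl := hkill _ t hC1 a1.symm
    obtain rfl := hkill _ u hC2 a2.symm
    obtain rfl := hkill _ v hC3 a3.symm
    have key : ∀ b : K, chi3 m (B : K) * b = σ b := by
      intro b
      have e3 := hg' (uT m 0 0 b)
      rw [uT_one hK, one_mul, hTw_conj, galAut_uT] at e3
      exact (uT_inj hK e3).2.2
    have h1 := key 1
    rw [map_one, mul_one] at h1
    exact RingEquiv.ext fun b => by rw [← key b, h1, one_mul]; rfl
  · intro x
    obtain ⟨φ, rfl⟩ := QuotientGroup.mk'_surjective (Cfsg.Inn ↥(Tw K m)) x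
    obtain ⟨g, hU, hT⟩ := exists_conj_preserving hK hm φ
    obtain ⟨ν, σ, h⟩ := exists_eq_of_preserving hK hm _ hU hT
    refine ⟨σ, ?_⟩
    have hφ : φ = MulAut.conj (g⁻¹ * hTw hK ν) * galAut m σ := by
      rw [map_mul, map_inv, mul_assoc, ← h, inv_mul_cancel_left]
    rw [hφ, map_mul]
    have hone : QuotientGroup.mk' (Cfsg.Inn ↥(Tw K m))
        (MulAut.conj (g⁻¹ * hTw hK ν)) = 1 := (QuotientGroup.eq_one_iff _).2 ⟨_, rfl⟩
    rw [hone, one_mul]
    rfl

/-- `|Out(²G₂(q))| = 2m + 1`. -/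
theorem card_out_tw (hm : 1 ≤ m) : Nat.card (Cfsg.Out ↥(Tw K m)) = 2 * m + 1 := by
  rw [← card_ringAut hK]
  exact (Nat.card_eq_of_bijective _ (galOut_bijective hK hm)).symm

end Finite

end CfsgLib.ReeG2
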