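import Cfsg.Agent.ReeG2.FieldAut
import Cfsg.Agent.ReeG2Sylow.Iso
import Mathlib

/-!
An automorphism of `²G₂(q)` preserving `U¹` and `H¹` and fixing `Z(U¹)` pointwise is trivial.
-/

set_option autoImplicit false
set_option linter.unusedSectionVars false
set_option linter.style.haveILetI false
set_option maxHeartbeats 1000000
set_option synthInstance.maxHeartbeats 200000

namespace CfsgLib.ReeG2

open Cfsg.Lie CfsgLib.Chevalley
open scoped MatrixGroups

variable {K : Type*} [Field K] [CharP K 3] {m : ℕ}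

/-- The product of the two root values at `3a + b`. -/
def chi2 (m : ℕ) (x : K) : K := theta m x ^ 3 * x

/-- The product of the root values at `3a + 2b`. -/
def chi3 (m : ℕ) (x : K) : K := theta m x ^ 3 * x ^ 2

theorem four_eq : (4 : K) = 1 := by linear_combination (three_eq : (3 : K) = 0)

theorem chiOf_rt5 (A B : Kˣ) : chiOf A B (rt 5) = B⁻¹ := by
  rw [chiOf_eq, show chevG2.cartan 0 (rt 5 : R0) = 3 from by decide +kernel,
    show chevG2.cartan 1 (rt 5 : R0) = -2 from by decide +kernel]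
  ext
  simp only [Units.val_mul, Units.val_zpow_eq_zpow_val, Units.val_pow_eq_pow_val,
    Units.val_inv_eq_inv_val]
  field_simp [zpow_neg, zpow_natCast]

section Finite

variable [Finite K] (hK : Nat.card K = 3 ^ (2 * m + 1))
include hK

theorem chi2_square (y : K) (hy : y ≠ 0) : chi2 m (theta m y ^ 3 * y⁻¹) = y ^ 2 := by
  have h : theta m (theta m y ^ 3 * y⁻¹) = y * (theta m y)⁻¹ := by
    rw [theta_mul, theta_pow, theta_theta hK]
    congr 1
    exact eq_inv_of_mul_eq_one_left (by rw [← theta_mul, inv_mul_cancel₀ hy, theta_one])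
  have hne : theta m y ≠ 0 := fun e => hy (by
    have := theta_theta hK y
    rw [e, theta_zero] at this
    simpa using this.symm)
  rw [chi2, h]
  field_simp

theorem chi3_eq_one {x : K} (h : chi3 m x = 1) : x = 1 := by
  have hx : x ≠ 0 := fun e => by rw [e, chi3, zero_pow (by decide), mul_zero] at h; exact zero_ne_one h
  exact congrArg Units.val ((char_kernels hK (B := Units.mk0 x hx)).2 h)

theorem chi3_inj {x y : Kˣ} (h : chi3 m (x : K) = chi3 m (y : K)) : x = y := by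
  rw [← mul_inv_eq_one]
  refine Units.ext (chi3_eq_one hK ?_)
  have h1 : chi3 m (y : K) * chi3 m ((y⁻¹ : Kˣ) : K) = 1 := by
    simp only [chi3]
    rw [show theta m (y : K) ^ 3 * (y : K) ^ 2 * (theta m ((y⁻¹ : Kˣ) : K) ^ 3 * ((y⁻¹ : Kˣ) : K) ^ 2)
        = (theta m (y : K) * theta m ((y⁻¹ : Kˣ) : K)) ^ 3 * ((y : K) * ((y⁻¹ : Kˣ) : K)) ^ 2 by ring,
      ← theta_mul, Units.mul_inv, theta_one]
    ring
  rw [← h] at h1
  simp only [chi3, Units.val_mul] at h1 ⊢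
  rw [theta_mul]
  linear_combination h1

/-- A function commuting with multiplication by the values of `chi2`, and additive, is linear. -/
theorem linear_of_chi2 (e : K → K) (hadd : ∀ x y, e (x + y) = e x + e y)
    (hmul : ∀ (B : Kˣ) u, e (chi2 m (B : K) * u) = chi2 m (B : K) * e u) (u : K) :
    e u = u * e 1 := by
  have e0 : e 0 = 0 := by simpa using hadd 0 0
  have hsq : ∀ y u, e (y ^ 2 * u) = y ^ 2 * e u := by
    intro y u
    rcases eq_or_ne y 0 with rfl | hy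
    · simp [e0]
    · have hne : theta m y ^ 3 * y⁻¹ ≠ 0 := mul_ne_zero (fun e => hy (by
        have h := theta_theta hK y
        rw [pow_eq_zero_iff (by decide)] at e
        rw [e, theta_zero] at h
        simpa using h.symm)) (inv_ne_zero hy)
      have := hmul (Units.mk0 _ hne) u
      rwa [Units.val_mk0, chi2_square hK y hy] at this
  have hneg : ∀ x, e (-x) = -e x := fun x => by
    have := hadd x (-x)
    rw [add_neg_cancel, e0] at this
    linear_combination -this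
  have h4 : (4 : K) = 1 := four_eq
  calc e u = e ((u + 1) ^ 2 * 1 + -((u - 1) ^ 2 * 1)) := by congr 1; linear_combination (-u) * h4
    _ = (u + 1) ^ 2 * e 1 + -((u - 1) ^ 2 * e 1) := by rw [hadd, hneg, hsq, hsq]
    _ = u * e 1 := by linear_combination (u * e 1) * h4

theorem exists_generic (hm : 1 ≤ m) :
    ∃ B : Kˣ, (B : K) ≠ 1 ∧ (B : K) ≠ -1 ∧ chi2 m (B : K) ≠ 1 ∧ chi3 m (B : K) ≠ 1 := by
  obtain ⟨B, hB1, hBm⟩ : ∃ B : Kˣ, B ≠ 1 ∧ B ≠ -1 := by
    by_contra h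
    push Not at h
    have hsub : (Set.univ : Set Kˣ) ⊆ {1, -1} := fun x _ => by
      rcases eq_or_ne x 1 with h1 | h1
      · exact Or.inl h1
      · exact Or.inr (h x h1)
    have h2 : Nat.card Kˣ ≤ 2 := by
      rw [← Set.ncard_univ]
      exact (Set.ncard_le_ncard hsub (Set.toFinite _)).trans
        ((Set.ncard_insert_le _ _).trans (by rw [Set.ncard_singleton]))
    rw [natCard_units_eq hK] at h2
    have : 3 ^ 3 ≤ 3 ^ (2 * m + 1) := Nat.pow_le_pow_right (by norm_num) (by omega)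
    omega
  have h1 : (B : K) ≠ 1 := fun e => hB1 (Units.ext e)
  have h2 : (B : K) ≠ -1 := fun e => hBm (Units.ext (by simpa using e))
  exact ⟨B, h1, h2,
    fun e => (sq_eq_one_iff.1 ((char_kernels hK).1 e)).elim h1 h2,
    fun e => hB1 ((char_kernels hK).2 e)⟩

theorem hTw_inv (B : Kˣ) : (hTw hK B)⁻¹ = hTw hK B⁻¹ :=
  inv_eq_of_mul_eq_one_right (by rw [hTw_mul, mul_inv_cancel, hTw_one])

/-- The monomial element inverts the torus. -/
theorem nT_hTw (B : Kˣ) : nT m 1 * hTw hK B = hTw hK B⁻¹ * nT m 1 := by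
  obtain ⟨B', hB'⟩ := nT_conj_hTw hK B
  have key : B' = B⁻¹ := by
    set n : ↥(GG K) := nn m 1
    have e : n * hh (B ^ 3 ^ m) B * n⁻¹ = hh (B' ^ 3 ^ m) B' :=
      Subtype.ext (congrArg (fun z : ↥(Tw K m) => (z : GL I K)) hB')
    obtain ⟨c, hc⟩ := (monBy_nn (K := K) m 1).conj_X (rt 5)
    have hn : ∀ x : K, n * xG (rt 5) x * n⁻¹ = xG (rt 6) ((c : K) * x) := fun x =>
      Subtype.ext (hc x)
    have e2 := hh_conj (B' ^ 3 ^ m) B' (rt 6) ((c : K) * 1)
    rw [← hn 1, ← e, (chi_table (B' ^ 3 ^ m) B').2.1] at e2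
    rw [show n * hh (B ^ 3 ^ m) B * n⁻¹ * (n * xG (rt 5) 1 * n⁻¹) * (n * hh (B ^ 3 ^ m) B * n⁻¹)⁻¹ =
      n * (hh (B ^ 3 ^ m) B * xG (rt 5) 1 * (hh (B ^ 3 ^ m) B)⁻¹) * n⁻¹ by group, hh_conj,
      chiOf_rt5, hn] at e2
    have e3 := X_injective good_chevG2 _ (congrArg Subtype.val e2)
    simp only [mul_one] at e3
    exact (Units.ext (mul_left_cancel₀ c.ne_zero (by linear_combination e3))).symm
  rw [← key, ← hB']
  group

theorem nn_sq : (nn m (1 : Kˣ)) * nn m 1 = 1 ∧ nn m (-1 : Kˣ) = nn m 1 := by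
  have hneg : ReeG2Sylow.psi m (-1 : SL(2, K)) = 1 :=
    (ReeG2Sylow.psi_eq_one_iff hK _).2 (Or.inr rfl)
  have e1 : ReeG2Sylow.nMat (1 : Kˣ) * ReeG2Sylow.nMat 1 = (-1 : SL(2, K)) := by
    apply Subtype.ext
    apply Matrix.ext
    intro p q
    fin_cases p <;> fin_cases q <;>
      simp [ReeG2Sylow.nMat, RankOneRel.uMat_val, RankOneRel.vMat_val, Matrix.mul_apply,
        Fin.sum_univ_two]
  have h1 : nn m (1 : Kˣ) * nn m 1 = 1 := by
    rw [← ReeG2Sylow.psi_nMat, ← map_mul, e1, hneg]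
  refine ⟨h1, ?_⟩
  have e2 : ReeG2Sylow.nMat (1 : Kˣ) * ReeG2Sylow.nMat (-1) = (1 : SL(2, K)) := by
    rw [ReeG2Sylow.nMat_mul]
    apply Subtype.ext
    apply Matrix.ext
    intro p q
    fin_cases p <;> fin_cases q <;> simp [ReeG2Sylow.dMat]
  have h2 : nn m (1 : Kˣ) * nn m (-1) = 1 := by
    rw [← ReeG2Sylow.psi_nMat, ← ReeG2Sylow.psi_nMat, ← map_mul, e2, map_one]
  exact mul_left_cancel (h2.trans h1.symm)

theorem nT_eq_hTw_mul (u : Kˣ) : nT m u = hTw hK (psi (m := m) u) * nT m 1 := by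
  obtain ⟨A, hA⟩ := hT_eq_hh_square m u
  have hmem : ((hh A ((u ^ 3 ^ m) ^ 3 * u⁻¹) : ↥(GG K)) : GL I K) ∈ Tw K m := by
    rw [← hA, Subgroup.coe_mul]
    exact mul_mem (nn_mem_tw m u) (nn_mem_tw m (-1))
  have h1 := hh_fixed hK (coe_mem_fixG.1 (tw_le_fix hK hmem))
  rw [h1, (nn_sq hK).2] at hA
  have hpsi : psi (m := m) u = (u ^ 3 ^ m) ^ 3 * u⁻¹ := rfl
  have h2 : nn m u = hh ((psi (m := m) u) ^ 3 ^ m) (psi (m := m) u) * nn m 1 := by
    rw [hpsi, ← hA, mul_assoc, (nn_sq hK).1, mul_one]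
  refine Subtype.ext ?_
  rw [Subgroup.coe_mul]
  show ((nn m u : ↥(GG K)) : GL I K) =
    ((hh ((psi (m := m) u) ^ 3 ^ m) (psi (m := m) u) : ↥(GG K)) : GL I K) *
      ((nn m 1 : ↥(GG K)) : GL I K)
  rw [← Subgroup.coe_mul, ← h2]

/-- The rank one relation. -/
theorem nT_uT_nT (a : Kˣ) :
    nT m 1 * uT m 0 (a : K) 0 * nT m 1 = uT m 0 (-((a⁻¹ : Kˣ) : K)) 0 *
      hTw hK (psi (m := m) a⁻¹) * nT m 1 * uT m 0 (-((a⁻¹ : Kˣ) : K)) 0 := by
  have hneg : ReeG2Sylow.psi m (-1 : SL(2, K)) = 1 :=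
    (ReeG2Sylow.psi_eq_one_iff hK _).2 (Or.inr rfl)
  have e1 : ReeG2Sylow.nMat (1 : Kˣ) * RankOneRel.uMat K (a : K) * ReeG2Sylow.nMat 1 =
      RankOneRel.uMat K (-((a⁻¹ : Kˣ) : K)) * ReeG2Sylow.nMat a⁻¹ *
        RankOneRel.uMat K (-((a⁻¹ : Kˣ) : K)) * (-1 : SL(2, K)) := by
    apply Subtype.ext
    apply Matrix.ext
    intro p q
    fin_cases p <;> fin_cases q <;>
      simp [ReeG2Sylow.nMat, RankOneRel.uMat_val, RankOneRel.vMat_val, Matrix.mul_apply,
        Fin.sum_univ_two]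
  have e2 := congrArg (ReeG2Sylow.psi m) e1
  simp only [map_mul, ReeG2Sylow.psi_nMat, ReeG2Sylow.psi_uMat, hneg, mul_one] at e2
  have e3 : nT m 1 * uT m 0 (a : K) 0 * nT m 1 = uT m 0 (-((a⁻¹ : Kˣ) : K)) 0 * nT m a⁻¹ *
      uT m 0 (-((a⁻¹ : Kˣ) : K)) 0 :=
    Subtype.ext (congrArg (fun z : ↥(GG K) => (z : GL I K)) e2)
  rw [e3, nT_eq_hTw_mul hK a⁻¹, ← mul_assoc (uT m 0 _ 0)]

/-- Uniqueness of the normal form. -/
theorem tw_cell_unique {t u v t' u' v' x y z x' y' z' : K} {B B' : Kˣ}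
    (e : uT m t u v * hTw hK B * nT m 1 * uT m t' u' v' =
      uT m x y z * hTw hK B' * nT m 1 * uT m x' y' z') :
    (t = x ∧ u = y ∧ v = z) ∧ B = B' ∧ (t' = x' ∧ u' = y' ∧ v' = z') := by
  obtain ⟨e1, e2, e3⟩ := cell_unique (m := m) (1 : Kˣ) (wordU_mem_pos t u v) (hh_mem_diag _ _)
    (wordU_mem_pos t' u' v') (wordU_mem_pos x y z) (hh_mem_diag _ _) (wordU_mem_pos x' y' z')
    (congrArg (fun g : ↥(Tw K m) => (g : GL I K)) e)
  exact ⟨wordU_inj (Subtype.ext e1), (hh_inj (Subtype.ext e2)).2, wordU_inj (Subtype.ext e3)⟩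

theorem eq_of_fixes (hm : 1 ≤ m) (ψ : MulAut ↥(Tw K m))
    (hU : ∀ t u v : K, ∃ t' u' v' : K, ψ (uT m t u v) = uT m t' u' v')
    (hT : ∀ B : Kˣ, ∃ B' : Kˣ, ψ (hTw hK B) = hTw hK B')
    (hZ : ∀ v : K, ψ (uT m 0 0 v) = uT m 0 0 v) : ψ = 1 := by
  have hz : theta m (0 : K) = 0 := theta_zero m
  have hTfix : ∀ B, ψ (hTw hK B) = hTw hK B := by
    intro B
    obtain ⟨B', hB'⟩ := hT B
    have h := congrArg ψ (hTw_conj hK B 0 0 1)
    rw [map_mul, map_mul, map_inv, hB', hZ, hTw_conj] at h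
    simp only [mul_zero, mul_one] at h
    rw [hZ] at h
    rw [hB', chi3_inj hK (x := B') (y := B) (uT_inj hK h).2.2]
  -- the middle root group
  have hm1 : ∀ t u v : K, hTw hK (-1) * uT m t u v * (hTw hK (-1))⁻¹ = uT m (-t) u (-v) := by
    intro t u v
    rw [hTw_conj, Units.val_neg, Units.val_one, theta_neg, theta_one]
    congr 1 <;> ring
  have hmid : ∀ u : K, ∃ w : K, ψ (uT m 0 u 0) = uT m 0 w 0 := by
    intro u
    obtain ⟨t', u', v', h⟩ := hU 0 u 0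
    have h1 := congrArg ψ (hm1 0 u 0)
    rw [map_mul, map_mul, map_inv, hTfix, h, hm1, neg_zero, h] at h1
    obtain ⟨e1, -, e3⟩ := uT_inj hK h1
    have ht : t' = 0 := (mul_eq_zero.1 (by linear_combination -e1 : (2 : K) * t' = 0)).resolve_left
      two_ne
    have hv : v' = 0 := (mul_eq_zero.1 (by linear_combination -e3 : (2 : K) * v' = 0)).resolve_left
      two_ne
    exact ⟨u', by rw [h, ht, hv]⟩
  choose e he using hmid
  have headd : ∀ x y, e (x + y) = e x + e y := by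
    intro x y
    have h := map_mul ψ (uT m 0 x 0) (uT m 0 y 0)
    simp only [uT_mul hK, hz, he, zero_add, add_zero, sub_zero, mul_zero, zero_mul,
      zero_pow (by decide : 3 ≠ 0), zero_pow (by decide : 2 ≠ 0)] at h
    exact (uT_inj hK h).2.1
  have hemul : ∀ (B : Kˣ) u, e (chi2 m (B : K) * u) = chi2 m (B : K) * e u := by
    intro B u
    have h := congrArg ψ (hTw_conj hK B 0 u 0)
    rw [map_mul, map_mul, map_inv, hTfix, he, hTw_conj] at h
    simp only [mul_zero] at h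
    rw [he] at h
    exact (uT_inj hK h).2.1.symm
  -- the short root group
  choose g p r hgpr using fun t : K => hU t 0 0
  have h0 : g 0 = 0 ∧ p 0 = 0 ∧ r 0 = 0 := by
    have h := hgpr 0
    rw [hZ] at h
    obtain ⟨e1, e2, e3⟩ := uT_inj hK h
    exact ⟨e1.symm, e2.symm, e3.symm⟩
  have hsc : ∀ t : K, g t = t * g 1 ∧ p t = chi2 m t * p 1 ∧ r t = chi3 m t * r 1 := by
    intro t
    rcases eq_or_ne t 0 with rfl | ht
    · simp [h0.1, h0.2.1, h0.2.2, chi2, chi3]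
    · have h := congrArg ψ (hTw_conj hK (Units.mk0 t ht) 1 0 0)
      rw [map_mul, map_mul, map_inv, hTfix, hgpr, hTw_conj] at h
      simp only [mul_zero, mul_one, Units.val_mk0] at h
      rw [hgpr] at h
      obtain ⟨e1, e2, e3⟩ := uT_inj hK h
      exact ⟨e1.symm, e2.symm, e3.symm⟩
  have hcube : ∀ t u v : K, uT m t u v ^ 3 = uT m 0 0 (-(theta m t ^ 3 * t ^ 2)) := fun t u v =>
    Subtype.ext (by
      show ((wordU m t u v : ↥(GG K)) : GL I K) ^ 3 = _
      rw [← Subgroup.coe_pow, wordU_cube hK]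
      rfl)
  have hg1 : g 1 = 1 := by
    have h := congrArg ψ (hcube 1 0 0)
    rw [map_pow, hgpr, hcube, hZ] at h
    have h' := (uT_inj hK h).2.2
    rw [theta_one] at h'
    exact chi3_eq_one hK (by rw [chi3]; linear_combination -h')
  have hX : ∀ t : K, ψ (uT m t 0 0) = uT m t (p t) (r t) := fun t => by
    rw [hgpr, (hsc t).1, hg1, mul_one]
  have he1 : e 1 = 1 := by
    have h1 : uT m (0 : K) 1 0 * uT m 1 0 0 = uT m 1 0 0 * uT m 0 1 0 * uT m 0 0 (-1) := by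
      simp only [uT_mul hK, hz, theta_one]
      congr 1 <;> ring
    have h2 := congrArg ψ h1
    rw [map_mul, map_mul, map_mul, he, hX, hZ] at h2
    simp only [uT_mul hK, hz, theta_one] at h2
    have h3 := (uT_inj hK h2).2.2
    linear_combination -h3
  have hefix : ∀ u, ψ (uT m 0 u 0) = uT m 0 u 0 := fun u => by
    rw [he, linear_of_chi2 hK e headd hemul, he1, mul_one]
  have hall : ∀ t u v : K, ψ (uT m t u v) = uT m t (p t + u) (r t + v) := by
    intro t u v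
    have h1 : uT m t u v = uT m t 0 0 * uT m 0 u 0 * uT m 0 0 v := by
      simp only [uT_mul hK, hz]
      congr 1 <;> ring
    rw [h1, map_mul, map_mul, hX, hefix, hZ]
    simp only [uT_mul hK, hz]
    congr 1 <;> ring
  have hadd : ∀ t t' : K, p (t + t') = p t + p t' ∧ r (t + t') = r t + r t' - t' * p t := by
    intro t t'
    have h1 := congrArg ψ (uT_mul hK t 0 0 t' 0 0)
    rw [map_mul, hall, hall, uT_mul hK, hall] at h1
    obtain ⟨-, e2, e3⟩ := uT_inj hK h1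
    exact ⟨by linear_combination -e2, by linear_combination -e3⟩
  obtain ⟨x, hx1, hxm, -, -⟩ := exists_generic hK hm
  have hb : p 1 = 0 := by
    have h1 := (hadd (x : K) 1).2
    have h2 := (hadd 1 (x : K)).2
    rw [add_comm (x : K) 1, h2] at h1
    have h3 : (x : K) * p 1 * (theta m (x : K) ^ 3 - 1) = 0 := by
      rw [(hsc (x : K)).2.1, chi2] at h1
      linear_combination h1
    refine ((mul_eq_zero.1 ((mul_eq_zero.1 h3).resolve_right fun h => hx1 ?_)).resolve_left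
      x.ne_zero)
    have h4 := congrArg (theta m) (sub_eq_zero.1 h)
    rwa [theta_pow, theta_theta hK, theta_one] at h4
  have hp : ∀ t, p t = 0 := fun t => by rw [(hsc t).2.1, hb, mul_zero]
  have hc : r 1 = 0 := by
    have h1 := (hadd (x : K) 1).2
    rw [hp, mul_zero, sub_zero, (hsc ((x : K) + 1)).2.2, (hsc (x : K)).2.2, chi3, chi3, theta_add,
      theta_one, add_pow_char] at h1
    have h2 : r 1 * ((1 - (x : K)) * (theta m (x : K) ^ 3 - x)) = 0 := by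
      linear_combination h1 -
        r 1 * (theta m (x : K) ^ 3 * (x : K) + (x : K)) * (three_eq : (3 : K) = 0)
    refine (mul_eq_zero.1 h2).resolve_right fun h => ?_
    rcases mul_eq_zero.1 h with h | h
    · exact hx1 (sub_eq_zero.1 h).symm
    · obtain ⟨-, h' | h'⟩ := theta_ratio hK (Units.ne_zero x) (Or.inl rfl)
        (by rw [one_mul]; exact sub_eq_zero.1 h)
      · exact hx1 h'
      · exact hxm h'
  have hUfix : ∀ t u v : K, ψ (uT m t u v) = uT m t u v := fun t u v => by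
    rw [hall, hp, (hsc t).2.2, hc, mul_zero, zero_add, zero_add]
  -- the monomial element
  have hBfix : ∀ b : ↥(Tw K m), b ∈ BT K m → ψ b = b := by
    intro b hb
    rcases tw_form' hK b with ⟨-, t, a, c, B, rfl⟩ | ⟨h, -⟩
    · rw [map_mul, hUfix, hTfix]
    · exact absurd (mem_BT.1 hb) h
  have hw : ψ (nT m 1) ∉ BT K m := fun h =>
    nT_not_mem (m := m) (1 : Kˣ) (by
      have e1 := hBfix _ h
      rw [ψ.injective e1] at h
      exact h)
  rcases tw_form' hK (ψ (nT m 1)) with ⟨h, -⟩ | ⟨-, t, u, v, τ, t', u', v', hn⟩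
  · exact absurd (mem_BT.2 h) hw
  obtain ⟨B, hB1, hBm, hB2, hB3⟩ := exists_generic hK hm
  have h1 := congrArg ψ (nT_hTw hK B)
  rw [map_mul, map_mul, hTfix, hTfix, hn] at h1
  have l1 : uT m t u v * hTw hK τ * nT m 1 * uT m t' u' v' * hTw hK B =
      uT m t u v * hTw hK (τ * B⁻¹) * nT m 1 *
        uT m ((↑B⁻¹ : K) * t') (theta m (↑B⁻¹ : K) ^ 3 * (↑B⁻¹ : K) * u')
          (theta m (↑B⁻¹ : K) ^ 3 * (↑B⁻¹ : K) ^ 2 * v') := by
    rw [← hTw_conj hK B⁻¹, ← hTw_mul hK, ← hTw_inv, inv_inv,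
      ← mul_assoc (uT m t u v) (hTw hK τ), mul_assoc (uT m t u v * hTw hK τ) (hTw hK B)⁻¹ (nT m 1),
      show (hTw hK B)⁻¹ * nT m 1 = nT m 1 * hTw hK B by rw [nT_hTw, hTw_inv]]
    group
  have l2 : hTw hK B⁻¹ * (uT m t u v * hTw hK τ * nT m 1 * uT m t' u' v') =
      uT m ((↑B⁻¹ : K) * t) (theta m (↑B⁻¹ : K) ^ 3 * (↑B⁻¹ : K) * u)
        (theta m (↑B⁻¹ : K) ^ 3 * (↑B⁻¹ : K) ^ 2 * v) * hTw hK (τ * B⁻¹) * nT m 1 *
        uT m t' u' v' := by
    rw [← hTw_conj hK B⁻¹ t u v, mul_comm τ, ← hTw_mul hK]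
    group
  rw [l1, l2] at h1
  obtain ⟨⟨a1, a2, a3⟩, -, ⟨b1, b2, b3⟩⟩ := tw_cell_unique hK h1
  have hkill : ∀ (c : K) (z : K), c ≠ 1 → c * z = z → z = 0 := fun c z hc hz' => by
    by_contra hz0
    exact hc ((mul_eq_right₀ hz0).1 hz')
  have i1 : ((B⁻¹ : Kˣ) : K) ≠ 1 := fun h => hB1 (by
    have := congrArg (fun z : K => z * B) h
    simpa using this.symm)
  have i2 : theta m ((B⁻¹ : Kˣ) : K) ^ 3 * ((B⁻¹ : Kˣ) : K) ≠ 1 := fun h => hB2 (by
    have : chi2 m (B : K) * (theta m ((B⁻¹ : Kˣ) : K) ^ 3 * ((B⁻¹ : Kˣ) : K)) = 1 := by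
      rw [chi2, show theta m (B : K) ^ 3 * (B : K) * (theta m ((B⁻¹ : Kˣ) : K) ^ 3 * ((B⁻¹ : Kˣ) : K))
        = (theta m (B : K) * theta m ((B⁻¹ : Kˣ) : K)) ^ 3 * ((B : K) * ((B⁻¹ : Kˣ) : K)) by ring,
        ← theta_mul, Units.mul_inv, theta_one]
      ring
    rwa [h, mul_one] at this)
  have i3 : theta m ((B⁻¹ : Kˣ) : K) ^ 3 * ((B⁻¹ : Kˣ) : K) ^ 2 ≠ 1 := fun h => i1
    (chi3_eq_one hK h)
  obtain rfl := hkill _ t i1 a1.symm
  obtain rfl := hkill _ u i2 a2.symm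
  obtain rfl := hkill _ v i3 a3.symm
  obtain rfl := hkill _ t' i1 b1
  obtain rfl := hkill _ u' i2 b2
  obtain rfl := hkill _ v' i3 b3
  rw [uT_one hK, one_mul, mul_one] at hn
  -- the rank one relation fixes the torus part
  have h2 := congrArg ψ (nT_uT_nT hK 1)
  simp only [map_mul, hn, hUfix, hTfix, inv_one, map_one, hTw_one hK, mul_one, Units.val_one] at h2
  set a : Kˣ := Units.mk0 (chi2 m ((τ⁻¹ : Kˣ) : K)) (mul_ne_zero (pow_ne_zero _ fun h => by
    have := theta_theta hK ((τ⁻¹ : Kˣ) : K)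
    rw [h, theta_zero] at this
    exact (τ⁻¹).ne_zero (by simpa using this.symm)) (τ⁻¹).ne_zero) with ha
  have e1 : hTw hK τ * nT m 1 * uT m 0 (1 : K) 0 * (hTw hK τ * nT m 1) =
      nT m 1 * uT m 0 (a : K) 0 * nT m 1 := by
    have e0 : uT m 0 (a : K) 0 = hTw hK τ⁻¹ * uT m 0 (1 : K) 0 * (hTw hK τ⁻¹)⁻¹ := by
      rw [hTw_conj]
      simp [ha, chi2]
    rw [e0, hTw_inv, inv_inv,
      show hTw hK τ * nT m 1 = nT m 1 * hTw hK τ⁻¹ by rw [nT_hTw, inv_inv]]
    rw [show nT m 1 * hTw hK τ⁻¹ * uT m 0 (1 : K) 0 * (nT m 1 * hTw hK τ⁻¹) =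
      nT m 1 * hTw hK τ⁻¹ * uT m 0 (1 : K) 0 * (nT m 1 * hTw hK τ⁻¹) from rfl,
      show nT m 1 * hTw hK τ⁻¹ = hTw hK τ * nT m 1 by rw [nT_hTw, inv_inv]]
    nth_rw 1 [show hTw hK τ * nT m 1 = nT m 1 * hTw hK τ⁻¹ by rw [nT_hTw, inv_inv]]
    group
  rw [e1, nT_uT_nT hK a, ← mul_assoc (uT m 0 (-1) 0)] at h2
  obtain ⟨⟨-, c2, -⟩, cτ, -⟩ := tw_cell_unique hK h2
  have ha1 : a⁻¹ = 1 := Units.ext (neg_injective (by simpa using c2))
  rw [ha1, map_one] at cτ
  rw [← cτ, hTw_one, one_mul] at hn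
  refine MulEquiv.ext fun k => ?_
  show ψ k = k
  rcases tw_form' hK k with ⟨-, t, a', c, C, rfl⟩ | ⟨-, t, a', c, C, t'', a'', c'', rfl⟩
  · rw [map_mul, hUfix, hTfix]
  · rw [map_mul, map_mul, map_mul, hUfix, hTfix, hn, hUfix]

end Finite

end CfsgLib.ReeG2
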