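import Cfsg.Agent.ReeG2.Action
import Cfsg.Agent.ChevFieldAut.FixedPoints
import Mathlib

/-!
Field automorphisms of `²G₂(q)`.
-/

set_option autoImplicit false
set_option linter.unusedSectionVars false
set_option linter.style.haveILetI false
set_option maxHeartbeats 800000
set_option synthInstance.maxHeartbeats 200000

namespace CfsgLib.ReeG2

open Cfsg.Lie CfsgLib.Chevalley

variable {K : Type*} [Field K] [CharP K 3] {m : ℕ}

/-- A field automorphism on `GL`. -/
abbrev sigGL (σ : K ≃+* K) : GL I K →* GL I K := Matrix.GeneralLinearGroup.map σ.toRingHom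

theorem map_theta (σ : K ≃+* K) (x : K) : σ (theta m x) = theta m (σ x) := map_pow σ x _

theorem sigGL_xG (σ : K ≃+* K) (r : R0) (t : K) :
    sigGL σ ((xG r t : ↥(GG K)) : GL I K) = ((xG r (σ t) : ↥(GG K)) : GL I K) :=
  X_map good_chevG2 σ.toRingHom r t

theorem sigGL_wordU (σ : K ≃+* K) (t u v : K) :
    sigGL σ ((wordU m t u v : ↥(GG K)) : GL I K) =
      ((wordU m (σ t) (σ u) (σ v) : ↥(GG K)) : GL I K) := by
  simp only [wordU, uElt, tail, Subgroup.coe_mul, map_mul, sigGL_xG, map_add, map_pow, map_theta]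

theorem sigGL_nu_wordU (σ : K ≃+* K) (t u v : K) :
    sigGL σ ((nu K (wordU m t u v) : ↥(GG K)) : GL I K) =
      ((nu K (wordU m (σ t) (σ u) (σ v)) : ↥(GG K)) : GL I K) := by
  simp only [wordU, uElt, tail, map_mul, nu_xG, Subgroup.coe_mul, sigGL_xG, map_add, map_pow,
    map_theta, map_neg]

theorem sigGL_mem (σ : K ≃+* K) {g : GL I K} (hg : g ∈ Tw K m) : sigGL σ g ∈ Tw K m := by
  have h : Tw K m ≤ (Tw K m).comap (sigGL σ) := by
    refine (Subgroup.closure_le _).2 ?_
    rintro x ⟨w, ⟨t, u, v, rfl | rfl⟩, hx⟩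
    · obtain rfl : ((wordU m t u v : ↥(GG K)) : GL I K) = x :=
        Units.ext ((coe_wordU m t u v).trans hx.symm)
      show sigGL σ _ ∈ Tw K m
      rw [sigGL_wordU]
      exact wordU_mem_tw m _ _ _
    · obtain rfl : ((nu K (wordU m t u v) : ↥(GG K)) : GL I K) = x :=
        Units.ext ((coe_nu_wordU m t u v).trans hx.symm)
      show sigGL σ _ ∈ Tw K m
      rw [sigGL_nu_wordU]
      exact nu_wordU_mem_tw m _ _ _
  exact h hg

/-- A field automorphism as an endomorphism of `²G₂(q)`. -/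
def galHom (m : ℕ) (σ : K ≃+* K) : ↥(Tw K m) →* ↥(Tw K m) where
  toFun g := ⟨sigGL σ (g : GL I K), sigGL_mem σ g.2⟩
  map_one' := Subtype.ext (map_one _)
  map_mul' a b := Subtype.ext (map_mul _ (a : GL I K) (b : GL I K))

theorem galHom_trans (σ τ : K ≃+* K) (g : ↥(Tw K m)) :
    galHom m σ (galHom m τ g) = galHom m (τ.trans σ) g := by
  apply Subtype.ext
  apply Units.ext
  ext i j
  rfl

theorem galHom_refl (g : ↥(Tw K m)) : galHom m (RingEquiv.refl K) g = g := by
  apply Subtype.ext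
  apply Units.ext
  ext i j
  rfl

/-- Field automorphisms act on `²G₂(q)`. -/
def galAut (m : ℕ) : (K ≃+* K) →* MulAut ↥(Tw K m) where
  toFun σ := MonoidHom.toMulEquiv (galHom m σ) (galHom m σ.symm)
    (MonoidHom.ext fun g => by
      rw [MonoidHom.comp_apply, galHom_trans, RingEquiv.self_trans_symm, galHom_refl]
      rfl)
    (MonoidHom.ext fun g => by
      rw [MonoidHom.comp_apply, galHom_trans, RingEquiv.symm_trans_self, galHom_refl]
      rfl)
  map_one' := MulEquiv.ext fun g => galHom_refl g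
  map_mul' σ τ := MulEquiv.ext fun g => (galHom_trans σ τ g).symm

theorem galAut_uT (σ : K ≃+* K) (t u v : K) :
    galAut m σ (uT m t u v) = uT m (σ t) (σ u) (σ v) := Subtype.ext (sigGL_wordU σ t u v)

theorem galAut_nT (σ : K ≃+* K) : galAut m σ (nT m (1 : Kˣ)) = nT m 1 := by
  refine Subtype.ext ?_
  show sigGL σ ((nn m (1 : Kˣ) : ↥(GG K)) : GL I K) = _
  rw [nn_eq, Subgroup.coe_mul, Subgroup.coe_mul, map_mul, map_mul, sigGL_wordU, sigGL_nu_wordU]
  simp only [map_zero, Units.val_one, map_one, inv_one]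
  show _ = ((nn m (1 : Kˣ) : ↥(GG K)) : GL I K)
  rw [nn_eq, Subgroup.coe_mul, Subgroup.coe_mul]
  simp only [Units.val_one, inv_one]

section Finite

variable [Finite K] (hK : Nat.card K = 3 ^ (2 * m + 1))
include hK

theorem galAut_hTw (σ : K ≃+* K) (B : Kˣ) :
    galAut m σ (hTw hK B) = hTw hK (Units.map σ.toMonoidHom B) := by
  refine Subtype.ext ?_
  show sigGL σ (torC chevG2 (cvec (B ^ 3 ^ m) B)) = torC chevG2 _
  rw [ChevFieldAut.map_torC]
  congr 1
  funext k
  simp only [cvec]
  split <;> simp [map_mul, map_pow] <;> ext <;> simp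

theorem card_ringAut : Nat.card (K ≃+* K) = 2 * m + 1 := by
  haveI : Fact (Nat.Prime 3) := ⟨Nat.prime_three⟩
  letI : Algebra (ZMod 3) K := ZMod.algebra K 3
  let e : (K ≃ₐ[ZMod 3] K) ≃ (K ≃+* K) :=
    { toFun := fun f => f.toRingEquiv
      invFun := fun f => AlgEquiv.ofRingEquiv (f := f) fun c =>
        DFunLike.congr_fun (Subsingleton.elim ((f.toRingHom).comp (algebraMap (ZMod 3) K))
          (algebraMap (ZMod 3) K)) c
      left_inv := fun f => AlgEquiv.ext fun _ => rfl
      right_inv := fun f => RingEquiv.ext fun _ => rfl }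
  haveI := Fintype.ofFinite K
  rw [← Nat.card_congr e, IsGalois.card_aut_eq_finrank]
  have h := Module.card_eq_pow_finrank (K := ZMod 3) (V := K)
  rw [ZMod.card, ← Nat.card_eq_fintype_card, hK] at h
  exact (Nat.pow_right_injective (by norm_num) h).symm

end Finite

end CfsgLib.ReeG2
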