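import Cfsg.Agent.ReeG2.Blocks
import Cfsg.Agent.ReeG2.Good
import Mathlib

/-!
The exceptional endomorphism of `G₂(K)` in characteristic three: `x_r(t) ↦ x_{r̄}(t^λ)`.
-/

set_option autoImplicit false
set_option linter.style.haveILetI false

namespace CfsgLib.ReeG2

open Cfsg.Lie CfsgLib.Chevalley

/-- The root element, for G₂. -/
abbrev X2 {R : Type*} [CommRing R] (r : R0) (t : R) : GL I R := X good_chevG2 r t

variable (K : Type*) [Field K]

/-- `G₂(K)`. -/
abbrev GG : Subgroup (GL I K) := chevG2.group K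

variable {K}

theorem X2_mem (r : R0) (t : K) : X2 r t ∈ GG K := X_mem_group good_chevG2 r t

/-- The root element in the group. -/
def xG (r : R0) (t : K) : ↥(GG K) := ⟨X2 r t, X2_mem r t⟩

theorem xG_mul (r : R0) (t u : K) : xG r t * xG r u = xG r (t + u) :=
  Subtype.ext (X_mul good_chevG2 r t u)

theorem xG_inv (r : R0) (t : K) : (xG r t)⁻¹ = xG r (-t) := Subtype.ext (X_inv good_chevG2 r t)

theorem closure_xG : Subgroup.closure {g : ↥(GG K) | ∃ r t, xG r t = g} = ⊤ := by
  refine (Subgroup.map_injective (GG K).subtype_injective) ?_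
  rw [MonoidHom.map_closure, ← MonoidHom.range_eq_map, Subgroup.range_subtype]
  conv_rhs => rw [GG, group_eq_closure good_chevG2]
  congr 1
  ext g
  constructor
  · rintro ⟨_, ⟨r, t, rfl⟩, rfl⟩; exact ⟨r, t, rfl⟩
  · rintro ⟨r, t, rfl⟩; exact ⟨xG r t, ⟨r, t, rfl⟩, rfl⟩

/-- Induction on `G₂(K)` along root elements. -/
theorem xG_induction {P : ↥(GG K) → Prop} (g : ↥(GG K)) (hx : ∀ r t, P (xG r t)) (h1 : P 1)
    (hm : ∀ a b, P a → P b → P (a * b)) : P g := by
  have hg : g ∈ Subgroup.closure {g : ↥(GG K) | ∃ r t, xG r t = g} := by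
    rw [closure_xG]; exact Subgroup.mem_top g
  induction hg using Subgroup.closure_induction'' with
  | mem x hx' => obtain ⟨r, t, rfl⟩ := hx'; exact hx r t
  | inv_mem x hx' => obtain ⟨r, t, rfl⟩ := hx'; rw [xG_inv]; exact hx r _
  | one => exact h1
  | mul x y _ _ hx' hy' => exact hm x y hx' hy'

/-- Homomorphisms agreeing on root elements agree. -/
theorem hom_ext {M : Type*} [Monoid M] {f f' : ↥(GG K) →* M} (h : ∀ r t, f (xG r t) = f' (xG r t)) :
    f = f' :=
  MonoidHom.ext fun g => xG_induction (P := fun g => f g = f' g) g h (by rw [map_one, map_one])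
    fun a b ha hb => by rw [map_mul, map_mul, ha, hb]

variable [CharP K 3]

theorem preserves_mem (g : ↥(GG K)) : Preserves ((g : GL I K) : Matrix I I K) :=
  xG_induction (P := fun g => Preserves ((g : GL I K) : Matrix I I K)) g
    (fun r t => preserves_xR r t) Preserves.one fun _ _ ha hb => ha.mul hb

variable (K) in
/-- The action on the short block. -/
def sub7 : ↥(GG K) →* Matrix (Fin 7) (Fin 7) K where
  toFun g := subM ((g : GL I K) : Matrix I I K)
  map_one' := subM_one
  map_mul' _ h := subM_mul (preserves_mem h)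

variable (K) in
/-- The action on the long block. -/
def quo7 : ↥(GG K) →* Matrix (Fin 7) (Fin 7) K where
  toFun g := quoM ((g : GL I K) : Matrix I I K)
  map_one' := quoM_one
  map_mul' g _ := quoM_mul (preserves_mem g)

theorem quo7_xG (r : R0) (t : K) : quo7 K (xG r t) = sub7 K (xG (bar r) (t ^ lam r)) :=
  quoM_xR r t

theorem two_ne : (2 : K) ≠ 0 := by
  intro h
  have : ((2 : ℤ) : K) = ((0 : ℤ) : K) := by push_cast; exact h
  rw [CharP.intCast_eq_intCast K 3, Int.modEq_iff_dvd] at this
  omega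

instance isSimple_group : IsSimpleGroup ↥(GG K) := simple_of_two_ne two_ne

theorem injective_of_ne {M : Type*} [Monoid M] (f : ↥(GG K) →* M) (g : ↥(GG K)) (hg : f g ≠ 1) :
    Function.Injective f := by
  have hk : f.ker = ⊥ := by
    refine (IsSimpleGroup.eq_bot_or_eq_top_of_normal f.ker inferInstance).resolve_right fun h => hg ?_
    rw [← MonoidHom.mem_ker, h]
    exact Subgroup.mem_top g
  intro a b e
  have : a⁻¹ * b ∈ f.ker := by
    rw [MonoidHom.mem_ker, map_mul, ← e, ← map_mul, inv_mul_cancel, map_one]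
  rw [hk, Subgroup.mem_bot, inv_mul_eq_one] at this
  exact this

theorem sub7_xG7 (t : K) : sub7 K (xG (rt 7) t) 0 3 = t := by
  show xR chevG2 K (rt 7) t (sI 0) (sI 3) = t
  rw [xR_apply, Matrix.one_apply_ne (by decide),
    show ent (rt 7) 1 (sI 0) (sI 3) = 1 by decide +kernel,
    show ent (rt 7) 2 (sI 0) (sI 3) = 0 by decide +kernel,
    show ent (rt 7) 3 (sI 0) (sI 3) = 0 by decide +kernel]
  simp

theorem sub7_injective : Function.Injective (sub7 K) := by
  refine injective_of_ne _ (xG (rt 7) 1) fun h => ?_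
  have := congrFun (congrFun h 0) 3
  rw [sub7_xG7] at this
  simp at this

theorem quo7_injective : Function.Injective (quo7 K) := by
  refine injective_of_ne _ (xG (rt 6) 1) fun h => ?_
  have := congrFun (congrFun h 0) 3
  rw [quo7_xG, show bar (rt 6) = rt 7 from rfl, sub7_xG7] at this
  simp at this

theorem exists_sub_eq_quo (g : ↥(GG K)) : ∃ h, sub7 K h = quo7 K g :=
  xG_induction (P := fun g => ∃ h, sub7 K h = quo7 K g) g (fun r t => ⟨_, (quo7_xG r t).symm⟩) ⟨1, by rw [map_one, map_one]⟩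
    fun a b ⟨a', ha⟩ ⟨b', hb⟩ => ⟨a' * b', by rw [map_mul, map_mul, ha, hb]⟩

variable (K) in
/-- The exceptional endomorphism. -/
noncomputable def iso : ↥(GG K) →* ↥(GG K) where
  toFun g := (exists_sub_eq_quo g).choose
  map_one' := sub7_injective (by rw [(exists_sub_eq_quo 1).choose_spec, map_one, map_one])
  map_mul' a b := sub7_injective (by
    rw [map_mul (sub7 K), (exists_sub_eq_quo _).choose_spec, (exists_sub_eq_quo _).choose_spec,
      (exists_sub_eq_quo _).choose_spec, map_mul])

theorem sub7_iso (g : ↥(GG K)) : sub7 K (iso K g) = quo7 K g := (exists_sub_eq_quo g).choose_spec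

theorem iso_xG (r : R0) (t : K) : iso K (xG r t) = xG (bar r) (t ^ lam r) :=
  sub7_injective ((sub7_iso _).trans (quo7_xG r t))

theorem iso_injective : Function.Injective (iso K) := fun a b h =>
  quo7_injective (by rw [← sub7_iso, ← sub7_iso, h])

theorem iso_surjective (hperf : ∀ x : K, ∃ y : K, y ^ 3 = x) : Function.Surjective (iso K) := by
  intro g
  refine xG_induction (P := fun g => ∃ h, iso K h = g) g (fun r t => ?_) ⟨1, map_one _⟩
    fun a b ⟨a', ha⟩ ⟨b', hb⟩ => ⟨a' * b', by rw [map_mul, ha, hb]⟩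
  rcases lam_cases r with ⟨-, h⟩ | ⟨-, h⟩
  · exact ⟨xG (bar r) t, by rw [iso_xG, h, pow_one, bar_bar]⟩
  · obtain ⟨y, rfl⟩ := hperf t
    exact ⟨xG (bar r) y, by rw [iso_xG, h, bar_bar]⟩

end CfsgLib.ReeG2
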