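import Cfsg.Agent.ReeG2.AutMain
import Cfsg.Agent.ReeG2Sylow.Centralizer
import Cfsg.Agent.SchurBound.Basic
import Mathlib

/-!
Central extensions of `²G₂(q)`: the preimage of a Sylow 3-subgroup has commutator subgroup meeting the
kernel trivially.
-/

set_option autoImplicit false
set_option linter.unusedSectionVars false
set_option linter.style.haveILetI false
set_option maxHeartbeats 2000000
set_option synthInstance.maxHeartbeats 200000

namespace CfsgLib.ReeG2

open Cfsg.Lie CfsgLib.Chevalley Polynomial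
open scoped commutatorElement

variable {K : Type*} [Field K] [CharP K 3] {m : ℕ}

/-- An additive function with `f (-b) = f b` is trivial in characteristic three. -/
theorem additive_eq_one_of_neg {Γ : Type*} [Group Γ] (f : K → Γ)
    (hadd : ∀ a b, f (a + b) = f a * f b) (hneg : ∀ b, f (-b) = f b) (b : K) : f b = 1 := by
  have h0 : f 0 = 1 := by
    have := hadd 0 0
    rwa [add_zero, eq_comm, mul_eq_left] at this
  have h2 : f b * f b = 1 := by
    nth_rw 2 [← hneg b]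
    rw [← hadd, add_neg_cancel, h0]
  have h3 : f b * f b * f b = 1 := by
    rw [← hadd, ← hadd, show b + b + b = 0 by linear_combination b * (three_eq : (3 : K) = 0), h0]
  rwa [h2, one_mul] at h3

/-- A bi-additive pairing invariant under two scalings is trivial. -/
theorem pairing_two {Γ : Type*} [Group Γ] (γ : K → K → Γ)
    (hl : ∀ a a' b, γ (a + a') b = γ a b * γ a' b) (hr : ∀ a b b', γ a (b + b') = γ a b * γ a b')
    {x lx y ly : K} (hx : x ≠ 0) (hx1 : x + 1 ≠ 0) (hy : y = x / (x + 1))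
    (hix : ∀ a b, γ (x * a) (lx * b) = γ a b) (hiy : ∀ a b, γ (y * a) (ly * b) = γ a b)
    (hne : lx + 1 ≠ ly) (a b : K) : γ a b = 1 := by
  have hy0 : y ≠ 0 := hy ▸ div_ne_zero hx hx1
  have key : ∀ a b, γ a ((lx + 1 - ly) * b) = 1 := by
    intro a b
    have e1 : γ a (lx * b) = γ (a / x) b := by
      have := hix (a / x) b
      rwa [mul_div_cancel₀ a hx] at this
    have e2 : γ a (ly * b) = γ (a / y) b := by
      have := hiy (a / y) b
      rwa [mul_div_cancel₀ a hy0] at this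
    have e3 : γ a ((lx + 1) * b) = γ a (ly * b) := by
      rw [add_mul, one_mul, hr, e1, e2, ← hl]
      congr 1
      rw [hy]
      field_simp
      ring
    have e4 := hr a ((lx + 1 - ly) * b) (ly * b)
    rw [← add_mul, sub_add_cancel, e3] at e4
    simpa using e4
  have := key a (b / (lx + 1 - ly))
  rwa [mul_div_cancel₀ b (sub_ne_zero.2 hne)] at this

theorem comm_eq_of {G : Type*} [Group G] {x y z : G} (h : x * y = z * (y * x)) : ⁅x, y⁆ = z := by
  rw [commutatorElement_def, h]; group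

theorem quad_ne {x : K} (h1 : x ≠ 1) : x + 1 ≠ x / (x + 1) ∨ x + 1 = 0 := by
  by_cases h : x + 1 = 0
  · exact Or.inr h
  left
  intro e
  rw [eq_div_iff h] at e
  have : (x - 1) ^ 2 = 0 := by linear_combination e - x * (three_eq : (3 : K) = 0)
  exact h1 (sub_eq_zero.1 ((pow_eq_zero_iff (by decide : 2 ≠ 0)).1 this))

section Finite

variable [Finite K] (hK : Nat.card K = 3 ^ (2 * m + 1))
include hK

theorem chi3_surj {l : K} (hl : l ≠ 0) : ∃ B : Kˣ, chi3 m (B : K) = l := by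
  have hne : ∀ B : Kˣ, chi3 m (B : K) ≠ 0 := fun B => mul_ne_zero (pow_ne_zero _ fun h => by
    have := theta_theta hK (B : K)
    rw [h, theta_zero] at this
    exact B.ne_zero (by simpa using this.symm)) (pow_ne_zero _ B.ne_zero)
  obtain ⟨B, hB⟩ := (Finite.surjective_of_injective (f := fun B : Kˣ => Units.mk0 _ (hne B))
    fun a b h => chi3_inj hK (congrArg Units.val h)) (Units.mk0 l hl)
  exact ⟨B, congrArg Units.val hB⟩

theorem exists_consecutive_squares (hm : 1 ≤ m) :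
    ∃ u v : K, u ≠ 0 ∧ v ≠ 0 ∧ v ^ 2 + 1 = u ^ 2 ∧ v ^ 2 ≠ 1 := by
  obtain ⟨w, hw1, hw2, -, -⟩ := exists_generic hK hm
  have hw0 := Units.ne_zero w
  have h3 : (3 : K) = 0 := three_eq
  have hn := ReeG2Sylow.neg_one_not_square hK
  refine ⟨(w : K) + (w : K)⁻¹, (w : K) - (w : K)⁻¹, fun h => ?_, fun h => ?_, ?_, fun h => ?_⟩
  · refine hn ⟨(w : K), ?_⟩
    field_simp at h
    linear_combination -h
  · field_simp at h
    rcases sq_eq_one_iff.1 (show (w : K) ^ 2 = 1 by linear_combination h) with e | e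
    · exact hw1 e
    · exact hw2 e
  · field_simp
    linear_combination -((w : K) ^ 2) * h3
  · rcases sq_eq_one_iff.1 h with e | e <;> field_simp at e
    · exact hn ⟨2 * (w : K) - 1, by linear_combination -4 * e - 2 * h3⟩
    · exact hn ⟨2 * (w : K) + 1, by linear_combination -4 * e - 2 * h3⟩

theorem exists_chi3_ne (hm : 1 ≤ m) :
    ∃ x : K, x ≠ 0 ∧ x + 1 ≠ 0 ∧ chi3 m x + 1 ≠ chi3 m (x / (x + 1)) := by
  classical
  haveI := Fintype.ofFinite K
  set e := 3 ^ m * 3 with he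
  set P : Polynomial K := (Polynomial.X ^ (e + 2) + C 1) * ((Polynomial.X ^ e + C 1) * (Polynomial.X + C 1) ^ 2) - Polynomial.X ^ (e + 2) with hP
  have hdeg : P.natDegree ≤ 2 * e + 4 := by
    have h1 : (Polynomial.X ^ (e + 2) + C (1 : K)).natDegree ≤ e + 2 := by
      rw [natDegree_X_pow_add_C]
    have h2 : (Polynomial.X ^ e + C (1 : K)).natDegree ≤ e := by rw [natDegree_X_pow_add_C]
    have h3 : ((Polynomial.X + C (1 : K)) ^ 2).natDegree ≤ 2 := by
      refine natDegree_pow_le.trans ?_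
      rw [natDegree_X_add_C]
    rw [hP]
    refine (natDegree_sub_le _ _).trans (max_le ?_ ?_)
    · exact natDegree_mul_le.trans (by
        have := natDegree_mul_le (p := Polynomial.X ^ e + C (1 : K)) (q := (Polynomial.X + C 1) ^ 2)
        omega)
    · rw [natDegree_X_pow]; omega
  have hne : P ≠ 0 := fun h => by
    have := congrArg (Polynomial.eval (0 : K)) h
    simp [hP, show e ≠ 0 by positivity] at this
  have hq : 2 * e + 4 + 2 < Fintype.card K := by
    rw [← Nat.card_eq_fintype_card, hK, he, pow_succ 3 (2 * m), two_mul m, pow_add]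
    have : 3 ≤ 3 ^ m := le_trans (by norm_num) (Nat.pow_le_pow_right (by norm_num) hm)
    nlinarith
  obtain ⟨x, -, hx⟩ := Finset.exists_mem_notMem_of_card_lt_card
    (s := insert 0 (insert (-1) P.roots.toFinset)) (t := (Finset.univ : Finset K)) (by
      have h1 := (Finset.card_insert_le (0 : K) (insert (-1) P.roots.toFinset))
      have h2 := (Finset.card_insert_le (-1 : K) P.roots.toFinset)
      have h3 := P.roots.toFinset_card_le
      have h4 := P.card_roots'
      rw [Finset.card_univ]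
      omega)
  simp only [Finset.mem_insert, Multiset.mem_toFinset, mem_roots hne, not_or] at hx
  obtain ⟨h0, h1, hroot⟩ := hx
  have hx1 : x + 1 ≠ 0 := fun e => h1 (eq_neg_of_add_eq_zero_left e)
  refine ⟨x, h0, hx1, fun heq => hroot ?_⟩
  have hinv : theta m ((x + 1)⁻¹) = (theta m (x + 1))⁻¹ :=
    eq_inv_of_mul_eq_one_left (by rw [← theta_mul, inv_mul_cancel₀ hx1, theta_one])
  rw [chi3, chi3, div_eq_mul_inv, theta_mul, hinv] at heq
  have hS : theta m (x + 1) ^ 3 = theta m x ^ 3 + 1 := by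
    rw [theta_add, theta_one, add_pow_char, one_pow]
  have hS0 : theta m (x + 1) ≠ 0 := fun h => hx1 (by
    have := theta_theta hK (x + 1)
    rw [h, theta_zero] at this
    simpa using this.symm)
  simp only [IsRoot, hP, eval_sub, eval_add, eval_mul, eval_pow, eval_X, eval_C]
  rw [pow_add, he, pow_mul, show x ^ 3 ^ m = theta m x from rfl, ← hS]
  field_simp at heq
  linear_combination heq

/-- The preimage of a Sylow 3-subgroup in a central extension has commutator subgroup meeting the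
kernel trivially. -/
theorem sylow_three_lift (hm : 1 ≤ m) {Γ : Type*} [Group Γ] (σ : Γ →* ↥(Tw K m))
    (hsurj : Function.Surjective σ) (hc : σ.ker ≤ Subgroup.center Γ)
    {z : Γ} (hz : z ∈ ⁅(UT K m).comap σ, (UT K m).comap σ⁆) (hz1 : σ z = 1) : z = 1 := by
  classical
  let L := Function.surjInv hsurj
  have hL : ∀ g, σ (L g) = g := Function.surjInv_eq hsurj
  let X : K → Γ := fun a => L (uT m a 0 0)
  let Yw : K → Γ := fun b => L (uT m 0 b 0)
  let Yv : K → Γ := fun b => L (uT m 0 0 b)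
  let T : Kˣ → Γ := fun B => L (hTw hK B)
  have hσX : ∀ a, σ (X a) = uT m a 0 0 := fun a => hL _
  have hσW : ∀ a, σ (Yw a) = uT m 0 a 0 := fun a => hL _
  have hσV : ∀ a, σ (Yv a) = uT m 0 0 a := fun a => hL _
  have hσT : ∀ B, σ (T B) = hTw hK B := fun B => hL _
  have hth : theta m (0 : K) = 0 := theta_zero m
  have hmul0 : ∀ a b c d : K, uT m 0 a b * uT m 0 c d = uT m 0 (a + c) (b + d) := fun a b c d => by
    rw [uT_mul hK]; congr 1 <;> simp [hth]
  have hcen : ∀ {w : Γ}, σ w = 1 → ∀ y, Commute w y := fun h y =>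
    SchurBound.commute_of_mem_ker σ hc h y
  have hcw : ∀ B u, σ (T B * Yw u * (T B)⁻¹) = σ (Yw (chi2 m (B : K) * u)) := fun B u => by
    rw [map_mul, map_mul, map_inv, hσT, hσW, hσW, hTw_conj]; congr 1 <;> simp [chi2]
  have hcv : ∀ B u, σ (T B * Yv u * (T B)⁻¹) = σ (Yv (chi3 m (B : K) * u)) := fun B u => by
    rw [map_mul, map_mul, map_inv, hσT, hσV, hσV, hTw_conj]; congr 1 <;> simp [chi3]
  have hcx : ∀ (B : Kˣ) t, σ (T B * X t * (T B)⁻¹) = σ (X ((B : K) * t)) := fun B t => by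
    rw [map_mul, map_mul, map_inv, hσT, hσX, hσX, hTw_conj]; congr 1 <;> simp
  have hWadd : ∀ a b, σ (Yw (a + b)) = σ (Yw a * Yw b) := fun a b => by
    rw [map_mul, hσW, hσW, hσW, hmul0, add_zero]
  have hVadd : ∀ a b, σ (Yv (a + b)) = σ (Yv a * Yv b) := fun a b => by
    rw [map_mul, hσV, hσV, hσV, hmul0, add_zero]
  -- central pairings on the part over `t = 0`
  have hbi : ∀ (P Q : K → Γ), (∀ a b, σ (P (a + b)) = σ (P a * P b)) →
      (∀ a b, σ (Q (a + b)) = σ (Q a * Q b)) → (∀ a b, σ ⁅P a, Q b⁆ = 1) →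
      (∀ a a' b, ⁅P (a + a'), Q b⁆ = ⁅P a, Q b⁆ * ⁅P a', Q b⁆) ∧
        ∀ a b b', ⁅P a, Q (b + b')⁆ = ⁅P a, Q b⁆ * ⁅P a, Q b'⁆ := by
    intro P Q hP hQ h1
    refine ⟨fun a a' b => ?_, fun a b b' => ?_⟩
    · rw [SchurBound.commutator_congr σ hc (hP a a') rfl,
        SchurBound.commutator_mul_left ((hcen (h1 a' b) _).symm)]
      exact (hcen (h1 a' b) _).eq
    · rw [SchurBound.commutator_congr σ hc rfl (hQ b b')]
      exact SchurBound.commutator_mul_right ((hcen (h1 a b') _).symm)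
  have hσcomm : ∀ {g h : Γ} {a b c d : K}, σ g = uT m 0 a b → σ h = uT m 0 c d → σ ⁅g, h⁆ = 1 := by
    intro g h a b c d hg hh
    rw [map_commutatorElement, hg, hh, commutatorElement_eq_one_iff_commute]
    show _ * _ = _ * _
    rw [hmul0, hmul0, add_comm a, add_comm b]
  have hWW : ∀ a b, Commute (Yw a) (Yw b) := by
    intro a b
    rw [← commutatorElement_eq_one_iff_commute]
    obtain ⟨hl, hr⟩ := hbi Yw Yw hWadd hWadd fun a b => hσcomm (hσW a) (hσW b)
    obtain ⟨u, v, hu, hv, huv, hv1⟩ := exists_consecutive_squares hK hm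
    have hinv : ∀ y : K, y ≠ 0 → ∀ a b, ⁅Yw (y ^ 2 * a), Yw (y ^ 2 * b)⁆ = ⁅Yw a, Yw b⁆ := by
      intro y hy a b
      have hne : theta m y ^ 3 * y⁻¹ ≠ 0 := mul_ne_zero (pow_ne_zero _ fun e => hy (by
        have h := theta_theta hK y
        rw [e, theta_zero] at h
        simpa using h.symm)) (inv_ne_zero hy)
      have h := SchurBound.conj_commutator (T (Units.mk0 _ hne)) (Yw a) (Yw b)
      rw [SchurBound.commutator_congr σ hc (hcw _ a) (hcw _ b),
        ← (hcen (hσcomm (hσW a) (hσW b)) _).eq, mul_inv_cancel_right, Units.val_mk0,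
        chi2_square hK y hy] at h
      exact h.symm
    have hx1 : v ^ 2 + 1 ≠ 0 := huv ▸ pow_ne_zero _ hu
    refine pairing_two (fun a b => ⁅Yw a, Yw b⁆) hl hr (x := v ^ 2) (lx := v ^ 2)
      (y := (v / u) ^ 2) (ly := (v / u) ^ 2) (pow_ne_zero _ hv) hx1 (by rw [div_pow, huv])
      (hinv v hv) (hinv _ (div_ne_zero hv hu)) ?_ a b
    rw [div_pow, ← huv]
    exact (quad_ne hv1).resolve_right hx1
  have hVV : ∀ a b, Commute (Yv a) (Yv b) := by
    intro a b
    rw [← commutatorElement_eq_one_iff_commute]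
    obtain ⟨hl, hr⟩ := hbi Yv Yv hVadd hVadd fun a b => hσcomm (hσV a) (hσV b)
    have hinv : ∀ y : K, y ≠ 0 → ∀ a b, ⁅Yv (y * a), Yv (y * b)⁆ = ⁅Yv a, Yv b⁆ := by
      intro y hy a b
      obtain ⟨B, rfl⟩ := chi3_surj hK hy
      have h := SchurBound.conj_commutator (T B) (Yv a) (Yv b)
      rw [SchurBound.commutator_congr σ hc (hcv _ a) (hcv _ b),
        ← (hcen (hσcomm (hσV a) (hσV b)) _).eq, mul_inv_cancel_right] at h
      exact h.symm
    obtain ⟨x, hx1, hxm, -, -⟩ := exists_generic hK hm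
    have hx2 : (x : K) + 1 ≠ 0 := fun e => hxm (eq_neg_of_add_eq_zero_left e)
    exact pairing_two (fun a b => ⁅Yv a, Yv b⁆) hl hr (Units.ne_zero x) hx2 rfl
      (hinv _ (Units.ne_zero x)) (hinv _ (div_ne_zero (Units.ne_zero x) hx2))
      ((quad_ne hx1).resolve_right hx2) a b
  have hm1 : chi2 m (((-1 : Kˣ) : K)) = 1 ∧ chi3 m (((-1 : Kˣ) : K)) = -1 := by
    simp only [chi2, chi3, Units.val_neg, Units.val_one, theta_neg, theta_one]
    constructor <;> ring
  have hWV : ∀ a b, Commute (Yw a) (Yv b) := by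
    intro a b
    rw [← commutatorElement_eq_one_iff_commute]
    obtain ⟨-, hr⟩ := hbi Yw Yv hWadd hVadd fun a b => hσcomm (hσW a) (hσV b)
    refine additive_eq_one_of_neg (fun b => ⁅Yw a, Yv b⁆) (hr a) (fun b => ?_) b
    have h := SchurBound.conj_commutator (T (-1)) (Yw a) (Yv b)
    rw [SchurBound.commutator_congr σ hc (hcw _ a) (hcv _ b),
      ← (hcen (hσcomm (hσW a) (hσV b)) _).eq, mul_inv_cancel_right, hm1.1, hm1.2, one_mul,
      neg_one_mul] at h
    exact h.symm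
  have hM : ∀ {g h : Γ} {a b c d : K}, σ g = uT m 0 a b → σ h = uT m 0 c d → Commute g h := by
    intro g h a b c d hg hh
    rw [← commutatorElement_eq_one_iff_commute,
      SchurBound.commutator_congr σ hc (x' := Yw a * Yv b) (y' := Yw c * Yv d)
        (by rw [hg, map_mul, hσW, hσV, hmul0, add_zero, zero_add])
        (by rw [hh, map_mul, hσW, hσV, hmul0, add_zero, zero_add]),
      commutatorElement_eq_one_iff_commute]
    exact ((hWW a c).mul_right (hWV a d)).mul_left ((hWV c b).symm.mul_right (hVV b d))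
  -- the equivariant sections
  obtain ⟨B₀, -, -, hB₀, -⟩ := exists_generic hK hm
  set l₀ : K := chi2 m (B₀ : K) - 1 with hl₀
  have hl₀0 : l₀ ≠ 0 := sub_ne_zero.2 hB₀
  let sV : K → Γ := fun v => ⁅T (-1), Yv v⁆
  let sW : K → Γ := fun u => ⁅T B₀, Yw (u / l₀)⁆
  have hσsV : ∀ v, σ (sV v) = uT m 0 0 v := by
    intro v
    refine (map_commutatorElement σ _ _).trans (comm_eq_of ?_)
    rw [hσT, hσV]
    calc hTw hK (-1) * uT m 0 0 v
        = hTw hK (-1) * uT m 0 0 v * (hTw hK (-1))⁻¹ * hTw hK (-1) := by group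
      _ = _ := by
          rw [hTw_conj, ← mul_assoc, hmul0]
          congr 2
          · simp [hth]
          · rw [mul_zero, add_zero]
          · simp only [Units.val_neg, Units.val_one, theta_neg, theta_one]
            linear_combination (-v) * (three_eq : (3 : K) = 0)
  have hσsW : ∀ u, σ (sW u) = uT m 0 u 0 := by
    intro u
    refine (map_commutatorElement σ _ _).trans (comm_eq_of ?_)
    rw [hσT, hσW]
    calc hTw hK B₀ * uT m 0 (u / l₀) 0
        = hTw hK B₀ * uT m 0 (u / l₀) 0 * (hTw hK B₀)⁻¹ * hTw hK B₀ := by group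
      _ = _ := by
          rw [hTw_conj, ← mul_assoc, hmul0]
          congr 2
          · simp
          · rw [hl₀]
            field_simp [show chi2 m (B₀ : K) - 1 ≠ 0 from hl₀0]
            simp only [chi2]
            ring
          · simp
  have hsVadd : ∀ a b, sV (a + b) = sV a * sV b := fun a b => by
    show ⁅T (-1), Yv (a + b)⁆ = _
    rw [SchurBound.commutator_congr σ hc rfl (hVadd a b)]
    exact SchurBound.commutator_mul_right (hM (hσV a) (hσsV b))
  have hsWadd : ∀ a b, sW (a + b) = sW a * sW b := fun a b => by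
    show ⁅T B₀, Yw ((a + b) / l₀)⁆ = _
    rw [SchurBound.commutator_congr σ hc rfl (show σ (Yw ((a + b) / l₀)) = σ (Yw (a / l₀) * Yw (b / l₀)) by
      rw [← hWadd, add_div])]
    exact SchurBound.commutator_mul_right (hM (hσW _) (hσsW b))
  have hTsV : ∀ B v, T B * sV v * (T B)⁻¹ = sV (chi3 m (B : K) * v) := fun B v => by
    show T B * ⁅T (-1), Yv v⁆ * (T B)⁻¹ = _
    rw [SchurBound.conj_commutator]
    refine SchurBound.commutator_congr σ hc ?_ (hcv B v)
    rw [map_mul, map_mul, map_inv, hσT, hσT, hTw_inv, hTw_mul, hTw_mul, mul_comm B,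
      mul_inv_cancel_right]
  have hTsW : ∀ B u, T B * sW u * (T B)⁻¹ = sW (chi2 m (B : K) * u) := fun B u => by
    show T B * ⁅T B₀, Yw (u / l₀)⁆ * (T B)⁻¹ = _
    rw [SchurBound.conj_commutator]
    refine SchurBound.commutator_congr σ hc ?_ (by rw [hcw, mul_div_assoc])
    rw [map_mul, map_mul, map_inv, hσT, hσT, hTw_inv, hTw_mul, hTw_mul, mul_comm B,
      mul_inv_cancel_right]
  -- `[X, V] = 1`
  have hXadd : ∀ t t', ∃ a b, σ (X t * X t') = σ (X (t + t') * (Yw a * Yv b)) := by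
    intro t t'
    refine ⟨-(theta m t' ^ 3 * t), theta m t' ^ 3 * (t * t' - t ^ 2), ?_⟩
    simp only [map_mul, hσX, hσW, hσV, hmul0, uT_mul hK]
    congr 1 <;> simp [hth]
  have hσXV : ∀ t v, σ ⁅X t, Yv v⁆ = 1 := fun t v => by
    rw [map_commutatorElement, hσX, hσV, commutatorElement_eq_one_iff_commute]
    show _ * _ = _ * _
    simp only [uT_mul hK]
    congr 1 <;> simp [hth]
  have hXV : ∀ t v, Commute (X t) (Yv v) := by
    intro t v
    rw [← commutatorElement_eq_one_iff_commute]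
    have hl : ∀ a a' b, ⁅X (a + a'), Yv b⁆ = ⁅X a, Yv b⁆ * ⁅X a', Yv b⁆ := by
      intro a a' b
      obtain ⟨p, q, hpq⟩ := hXadd a a'
      have h2 : ⁅X (a + a') * (Yw p * Yv q), Yv b⁆ = ⁅X a * X a', Yv b⁆ :=
        SchurBound.commutator_congr σ hc hpq.symm rfl
      have h3 : ⁅Yw p * Yv q, Yv b⁆ = 1 :=
        commutatorElement_eq_one_iff_commute.2 ((hWV p b).mul_left (hVV q b))
      rw [SchurBound.commutator_mul_left (by rw [h3]; exact Commute.one_right _), h3, one_mul,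
        SchurBound.commutator_mul_left ((hcen (hσXV a' b) _).symm)] at h2
      rw [h2]
      exact (hcen (hσXV a' b) _).eq
    have hr : ∀ a b b', ⁅X a, Yv (b + b')⁆ = ⁅X a, Yv b⁆ * ⁅X a, Yv b'⁆ := fun a b b' => by
      rw [SchurBound.commutator_congr σ hc rfl (hVadd b b')]
      exact SchurBound.commutator_mul_right ((hcen (hσXV a b') _).symm)
    have hinv : ∀ y : K, y ≠ 0 → ∀ a b, ⁅X (y * a), Yv (chi3 m y * b)⁆ = ⁅X a, Yv b⁆ := by
      intro y hy a b
      have h := SchurBound.conj_commutator (T (Units.mk0 y hy)) (X a) (Yv b)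
      rw [SchurBound.commutator_congr σ hc (hcx _ a) (hcv _ b), ← (hcen (hσXV a b) _).eq,
        mul_inv_cancel_right, Units.val_mk0] at h
      exact h.symm
    obtain ⟨x, hx, hx1, hne⟩ := exists_chi3_ne hK hm
    exact pairing_two (fun a b => ⁅X a, Yv b⁆) hl hr hx hx1 rfl (hinv x hx)
      (hinv _ (div_ne_zero hx hx1)) hne t v
  have hXV' : ∀ (t : K) (g : Γ) (v : K), σ g = uT m 0 0 v → Commute (X t) g := by
    intro t g v hg
    rw [← commutatorElement_eq_one_iff_commute,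
      SchurBound.commutator_congr σ hc (x' := X t) (y' := Yv v) rfl (hg.trans (hσV v).symm),
      commutatorElement_eq_one_iff_commute]
    exact hXV t v
  -- `[X, W] = V`
  have hσXW : ∀ t u, σ ⁅X t, sW u⁆ = uT m 0 0 (t * u) := fun t u => by
    rw [map_commutatorElement, hσX, hσsW]
    refine comm_eq_of ?_
    simp only [uT_mul hK]
    congr 1 <;> simp [hth]
  have hsV0 : sV 0 = 1 := by
    have := hsVadd 0 0
    rwa [add_zero, eq_comm, mul_eq_left] at this
  have hXW : ∀ t u, ⁅X t, sW u⁆ = sV (t * u) := by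
    intro t u
    have hσd : ∀ t, σ (⁅X t, sW u⁆ * (sV (t * u))⁻¹) = 1 := fun t => by
      rw [map_mul, map_inv, hσXW, hσsV, mul_inv_cancel]
    refine mul_inv_eq_one.1 (additive_eq_one_of_neg
      (fun t => ⁅X t, sW u⁆ * (sV (t * u))⁻¹) (fun a a' => ?_) (fun a => ?_) t)
    · obtain ⟨p, q, hpq⟩ := hXadd a a'
      have h2 : ⁅X (a + a') * (Yw p * Yv q), sW u⁆ = ⁅X a * X a', sW u⁆ :=
        SchurBound.commutator_congr σ hc hpq.symm rfl
      have h3 : ⁅Yw p * Yv q, sW u⁆ = 1 :=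
        commutatorElement_eq_one_iff_commute.2 ((hM (hσW p) (hσsW u)).mul_left (hM (hσV q) (hσsW u)))
      rw [SchurBound.commutator_mul_left (by rw [h3]; exact Commute.one_right _), h3, one_mul,
        SchurBound.commutator_mul_left (hXV' a _ _ (hσXW a' u))] at h2
      have k1 := hcen (hσd a') (sV (a * u))
      show ⁅X (a + a'), sW u⁆ * (sV ((a + a') * u))⁻¹ =
        ⁅X a, sW u⁆ * (sV (a * u))⁻¹ * (⁅X a', sW u⁆ * (sV (a' * u))⁻¹)
      have k2 : Commute ⁅X a', sW u⁆ ⁅X a, sW u⁆ := hM (hσXW a' u) (hσXW a u)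
      rw [h2, k2.eq, add_mul, hsVadd, mul_inv_rev, mul_assoc, mul_assoc,
        ← mul_assoc ⁅X a', sW u⁆, k1.inv_right.eq]
    · have h := SchurBound.conj_commutator (T (-1)) (X a) (sW u)
      rw [SchurBound.commutator_congr σ hc (hcx _ a) (x' := X (((-1 : Kˣ) : K) * a)) rfl,
        hTsW, hm1.1, one_mul] at h
      show ⁅X (-a), sW u⁆ * (sV (-a * u))⁻¹ = ⁅X a, sW u⁆ * (sV (a * u))⁻¹
      calc ⁅X (-a), sW u⁆ * (sV (-a * u))⁻¹
          = T (-1) * ⁅X a, sW u⁆ * (T (-1))⁻¹ * (T (-1) * sV (a * u) * (T (-1))⁻¹)⁻¹ := by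
            rw [h, hTsV, hm1.2, Units.val_neg, Units.val_one, neg_one_mul, neg_one_mul, neg_mul]
        _ = T (-1) * (⁅X a, sW u⁆ * (sV (a * u))⁻¹) * (T (-1))⁻¹ := by group
        _ = _ := by rw [← (hcen (hσd a) _).eq, mul_inv_cancel_right]
  -- the retraction onto the kernel
  let sM : K → K → Γ := fun u v => sW u * sV v
  have hσsM : ∀ u v, σ (sM u v) = uT m 0 u v := fun u v => by
    rw [map_mul, hσsW, hσsV, hmul0, add_zero, zero_add]
  have hsMadd : ∀ a b c d, sM (a + c) (b + d) = sM a b * sM c d := fun a b c d => by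
    show sW (a + c) * sV (b + d) = sW a * sV b * (sW c * sV d)
    rw [hsWadd, hsVadd, mul_assoc, mul_assoc, ← mul_assoc (sW c), (hM (hσsW c) (hσsV b)).eq]
    group
  let ρ : Γ → Γ := fun w =>
    if h : ∃ x : K × K, σ w = uT m 0 x.1 x.2 then w * (sM h.choose.1 h.choose.2)⁻¹ else 1
  have hρ : ∀ {w : Γ} {u v : K}, σ w = uT m 0 u v → ρ w = w * (sM u v)⁻¹ := by
    intro w u v hw
    have hex : ∃ x : K × K, σ w = uT m 0 x.1 x.2 := ⟨(u, v), hw⟩
    obtain ⟨-, e1, e2⟩ := uT_inj hK (hex.choose_spec.symm.trans hw)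
    show dite _ _ _ = _
    rw [dif_pos hex, e1, e2]
  have hσρ : ∀ {w : Γ} {u v : K}, σ w = uT m 0 u v → σ (ρ w) = 1 := fun {w u v} hw => by
    rw [hρ hw, map_mul, map_inv, hw, hσsM, mul_inv_cancel]
  have hρmul : ∀ {w w' : Γ} {a b c d : K}, σ w = uT m 0 a b → σ w' = uT m 0 c d →
      ρ (w * w') = ρ w * ρ w' := by
    intro w w' a b c d hw hw'
    have k := hcen (hσρ hw') (sM a b)⁻¹
    rw [hρ (show σ (w * w') = uT m 0 (a + c) (b + d) by rw [map_mul, hw, hw', hmul0]), hsMadd,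
      hρ hw, mul_assoc w (sM a b)⁻¹, ← k.eq, hρ hw', mul_inv_rev]
    group
  have hσz : ∀ {w : Γ}, σ w = 1 → σ w = uT m 0 (0 : K) 0 := fun hw => hw.trans (uT_one hK).symm
  have hsM0 : sM 0 0 = 1 := by
    have := hsMadd 0 0 0 0
    rwa [add_zero, eq_comm, mul_eq_left] at this
  have hρker : ∀ {w : Γ}, σ w = 1 → ρ w = w := fun hw => by
    rw [hρ (hσz hw), hsM0, inv_one, mul_one]
  -- invariance
  have hρT : ∀ (B : Kˣ) {w : Γ} {u v : K}, σ w = uT m 0 u v → ρ (T B * w * (T B)⁻¹) = ρ w := by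
    intro B w u v hw
    have e : σ (T B * w * (T B)⁻¹) = uT m 0 (chi2 m (B : K) * u) (chi3 m (B : K) * v) := by
      rw [map_mul, map_mul, map_inv, hσT, hw, hTw_conj]; congr 1; simp
    have e2 : sM (chi2 m (B : K) * u) (chi3 m (B : K) * v) = T B * sM u v * (T B)⁻¹ := by
      show sW _ * sV _ = T B * (sW u * sV v) * (T B)⁻¹
      rw [← hTsW, ← hTsV]; group
    rw [hρ e, e2, hρ hw]
    calc T B * w * (T B)⁻¹ * (T B * sM u v * (T B)⁻¹)⁻¹
        = T B * (w * (sM u v)⁻¹) * (T B)⁻¹ := by group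
      _ = _ := by rw [← hρ hw, ← (hcen (hσρ hw) _).eq, mul_inv_cancel_right]
  have hρX : ∀ (t : K) {w : Γ} {u v : K}, σ w = uT m 0 u v →
      σ (X t * w * (X t)⁻¹) = uT m 0 u (v + t * u) ∧ ρ (X t * w * (X t)⁻¹) = ρ w := by
    intro t w u v hw
    have e2 : X t * sM u v * (X t)⁻¹ = sM u (v + t * u) := by
      have h1 : X t * sM u v * (X t)⁻¹ = ⁅X t, sW u⁆ * sW u * sV v := by
        show X t * (sW u * sV v) * (X t)⁻¹ = _
        rw [commutatorElement_def, show X t * (sW u * sV v) * (X t)⁻¹ =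
          X t * sW u * (X t)⁻¹ * (X t * sV v * (X t)⁻¹) by group,
          (hXV' t _ v (hσsV v)).eq]
        group
      rw [h1, hXW, (hM (hσsV (t * u)) (hσsW u)).eq, mul_assoc, ← hsVadd, add_comm (t * u)]
    have e : σ (X t * w * (X t)⁻¹) = uT m 0 u (v + t * u) := by
      rw [← hσsM u (v + t * u), ← e2]
      simp only [map_mul, map_inv, hσsM, hw]
    refine ⟨e, ?_⟩
    rw [hρ e, ← e2, hρ hw]
    calc X t * w * (X t)⁻¹ * (X t * sM u v * (X t)⁻¹)⁻¹
        = X t * (w * (sM u v)⁻¹) * (X t)⁻¹ := by group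
      _ = _ := by rw [← hρ hw, ← (hcen (hσρ hw) _).eq, mul_inv_cancel_right]
  -- elements over `U`
  have hdec : ∀ {g : Γ}, σ g ∈ UT K m →
      ∃ (t : K) (r : Γ) (a b : K), σ r = uT m 0 a b ∧ g = X t * r := by
    intro g hg
    obtain ⟨t, u, v, e⟩ := exists_uT_of_pos hK (coe_pos_of_UT hg)
    refine ⟨t, (X t)⁻¹ * g, u, v, ?_, by group⟩
    rw [map_mul, map_inv, hσX, e, inv_mul_eq_iff_eq_mul, uT_mul hK]
    congr 1 <;> simp [hth]
  have hρconj : ∀ {g : Γ}, σ g ∈ UT K m → ∀ {w : Γ} {u v : K}, σ w = uT m 0 u v →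
      (∃ v', σ (g * w * g⁻¹) = uT m 0 u v') ∧ ρ (g * w * g⁻¹) = ρ w := by
    intro g hg w u v hw
    obtain ⟨t, r, a, b, hr, rfl⟩ := hdec hg
    have e : X t * r * w * (X t * r)⁻¹ = X t * w * (X t)⁻¹ := by
      rw [show X t * r * w * (X t * r)⁻¹ = X t * (r * w * r⁻¹) * (X t)⁻¹ by group,
        (hM hr hw).eq, mul_inv_cancel_right]
    rw [e]
    exact ⟨⟨_, (hρX t hw).1⟩, (hρX t hw).2⟩
  have hover : ∀ {g h : Γ}, σ g ∈ UT K m → σ h ∈ UT K m → ∃ u v, σ ⁅g, h⁆ = uT m 0 u v := by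
    intro g h hg hh
    obtain ⟨t, u, v, e1⟩ := exists_uT_of_pos hK (coe_pos_of_UT hg)
    obtain ⟨t', u', v', e2⟩ := exists_uT_of_pos hK (coe_pos_of_UT hh)
    have hmem : ⁅σ g, σ h⁆ ∈ UT K m := by
      rw [commutatorElement_def]
      exact mul_mem (mul_mem (mul_mem hg hh) (inv_mem hg)) (inv_mem hh)
    obtain ⟨A, B, C, e3⟩ := exists_uT_of_pos hK (coe_pos_of_UT hmem)
    have e4 : σ g * σ h = ⁅σ g, σ h⁆ * (σ h * σ g) := by rw [commutatorElement_def]; group
    rw [e3, e1, e2] at e4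
    simp only [uT_mul hK] at e4
    have hA : A = 0 := by linear_combination -(uT_inj hK e4).1
    exact ⟨B, C, by rw [map_commutatorElement, e3, hA]⟩
  have hρleft : ∀ {g g' h : Γ}, σ g ∈ UT K m → σ g' ∈ UT K m → σ h ∈ UT K m →
      ρ ⁅g * g', h⁆ = ρ ⁅g', h⁆ * ρ ⁅g, h⁆ := by
    intro g g' h hg hg' hh
    obtain ⟨u, v, e⟩ := hover hg' hh
    obtain ⟨u', v', e'⟩ := hover hg hh
    obtain ⟨⟨v'', e''⟩, e3⟩ := hρconj hg e
    rw [show ⁅g * g', h⁆ = g * ⁅g', h⁆ * g⁻¹ * ⁅g, h⁆ by simp only [commutatorElement_def]; group,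
      hρmul e'' e', e3]
  have hρright : ∀ {g h h' : Γ}, σ g ∈ UT K m → σ h ∈ UT K m → σ h' ∈ UT K m →
      ρ ⁅g, h * h'⁆ = ρ ⁅g, h⁆ * ρ ⁅g, h'⁆ := by
    intro g h h' hg hh hh'
    obtain ⟨u, v, e⟩ := hover hg hh
    obtain ⟨u', v', e'⟩ := hover hg hh'
    obtain ⟨⟨v'', e''⟩, e3⟩ := hρconj hh e'
    rw [show ⁅g, h * h'⁆ = ⁅g, h⁆ * (h * ⁅g, h'⁆ * h⁻¹) by simp only [commutatorElement_def]; group,
      hρmul e e'', e3]
  have hXU : ∀ t, σ (X t) ∈ UT K m := fun t => by rw [hσX]; exact uT_mem_UT t 0 0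
  have hMU : ∀ {r : Γ} {a b : K}, σ r = uT m 0 a b → σ r ∈ UT K m := fun {r a b} h => by
    rw [h]; exact uT_mem_UT _ _ _
  have hρM : ∀ {r g : Γ} {a b : K}, σ r = uT m 0 a b → σ g ∈ UT K m →
      ρ ⁅r, g⁆ = 1 ∧ ρ ⁅g, r⁆ = 1 := by
    intro r g a b hr hg
    have hr' : σ r⁻¹ = uT m 0 (-a) (-b) := by
      rw [map_inv, hr, inv_eq_iff_mul_eq_one, hmul0, add_neg_cancel, add_neg_cancel, uT_one hK]
    obtain ⟨⟨c, ec⟩, e3⟩ := hρconj hg hr'
    obtain ⟨⟨d, ed⟩, e4⟩ := hρconj hg hr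
    have h1 : ρ r * ρ r⁻¹ = 1 := by
      rw [← hρmul hr hr', mul_inv_cancel, hρker (map_one σ)]
    have h2 : ρ r⁻¹ = (ρ r)⁻¹ := (inv_eq_of_mul_eq_one_right h1).symm
    constructor
    · rw [show ⁅r, g⁆ = r * (g * r⁻¹ * g⁻¹) by simp only [commutatorElement_def]; group,
        hρmul hr ec, e3, h1]
    · rw [show ⁅g, r⁆ = g * r * g⁻¹ * r⁻¹ by simp only [commutatorElement_def],
        hρmul ed hr', e4, h1]
  let γ : K → K → Γ := fun a b => ρ ⁅X a, X b⁆
  have hγcen : ∀ a b, σ (γ a b) = 1 := fun a b => by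
    obtain ⟨u, v, e⟩ := hover (hXU a) (hXU b)
    exact hσρ e
  have hγ : ∀ a b, γ a b = 1 := by
    intro a b
    have hl : ∀ a a' b, γ (a + a') b = γ a b * γ a' b := by
      intro a a' b
      obtain ⟨p, q, hpq⟩ := hXadd a a'
      have hpqM : σ (Yw p * Yv q) = uT m 0 p q := by
        rw [map_mul, hσW, hσV, hmul0, add_zero, zero_add]
      have h2 : ρ ⁅X (a + a') * (Yw p * Yv q), X b⁆ = ρ ⁅X a * X a', X b⁆ :=
        congrArg ρ (SchurBound.commutator_congr σ hc hpq.symm rfl)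
      rw [hρleft (hXU _) (hMU hpqM) (hXU b), (hρM hpqM (hXU b)).1, one_mul,
        hρleft (hXU a) (hXU a') (hXU b)] at h2
      exact h2.trans (hcen (hγcen a' b) _).eq
    have hr : ∀ a b b', γ a (b + b') = γ a b * γ a b' := by
      intro a b b'
      obtain ⟨p, q, hpq⟩ := hXadd b b'
      have hpqM : σ (Yw p * Yv q) = uT m 0 p q := by
        rw [map_mul, hσW, hσV, hmul0, add_zero, zero_add]
      have h2 : ρ ⁅X a, X (b + b') * (Yw p * Yv q)⁆ = ρ ⁅X a, X b * X b'⁆ :=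
        congrArg ρ (SchurBound.commutator_congr σ hc rfl hpq.symm)
      rw [hρright (hXU a) (hXU _) (hMU hpqM), (hρM hpqM (hXU a)).2, mul_one,
        hρright (hXU a) (hXU b) (hXU b')] at h2
      exact h2
    have hinv : ∀ y : K, y ≠ 0 → ∀ a b, γ (y * a) (y * b) = γ a b := by
      intro y hy a b
      obtain ⟨u, v, e⟩ := hover (hXU a) (hXU b)
      have h := hρT (Units.mk0 y hy) e
      rw [SchurBound.conj_commutator, SchurBound.commutator_congr σ hc (hcx _ a) (hcx _ b)] at h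
      exact h
    obtain ⟨x, hx1, hxm, -, -⟩ := exists_generic hK hm
    have hx2 : (x : K) + 1 ≠ 0 := fun e => hxm (eq_neg_of_add_eq_zero_left e)
    exact pairing_two γ hl hr (Units.ne_zero x) hx2 rfl (hinv _ (Units.ne_zero x))
      (hinv _ (div_ne_zero (Units.ne_zero x) hx2)) ((quad_ne hx1).resolve_right hx2) a b
  let S : Subgroup Γ :=
    { carrier := Set.range fun x : K × K => sM x.1 x.2
      one_mem' := ⟨(0, 0), hsM0⟩
      mul_mem' := by rintro _ _ ⟨x, rfl⟩ ⟨y, rfl⟩; exact ⟨x + y, hsMadd _ _ _ _⟩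
      inv_mem' := by
        rintro _ ⟨x, rfl⟩
        exact ⟨-x, (inv_eq_of_mul_eq_one_right (by
          rw [← hsMadd, Prod.fst_neg, Prod.snd_neg, add_neg_cancel, add_neg_cancel, hsM0])).symm⟩ }
  have hle : ⁅(UT K m).comap σ, (UT K m).comap σ⁆ ≤ S := by
    rw [Subgroup.commutator_le]
    intro g hg h hh
    obtain ⟨t, r, a, b, hr, rfl⟩ := hdec hg
    obtain ⟨t', r', a', b', hr', rfl⟩ := hdec hh
    obtain ⟨u, v, e⟩ := hover hg hh
    have h1 : ρ ⁅X t * r, X t' * r'⁆ = 1 := by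
      rw [hρleft (hXU t) (hMU hr) hh, (hρM hr hh).1, one_mul,
        hρright (hXU t) (hXU t') (hMU hr'), (hρM hr' (hXU t)).2, mul_one]
      exact hγ t t'
    rw [hρ e, mul_inv_eq_one] at h1
    exact ⟨(u, v), h1.symm⟩
  obtain ⟨⟨u, v⟩, rfl⟩ := hle hz
  obtain ⟨-, rfl, rfl⟩ := uT_inj hK ((hσsM u v).symm.trans (hσz hz1))
  exact hsM0

end Finite

end CfsgLib.ReeG2
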