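import Cfsg.Agent.ReeG2.Structure
import Cfsg.Agent.ReeG2Sylow.Iso
import Cfsg.Agent.SL2Tori.Basic
import Mathlib

/-!
`²G₂(q)`: the Sylow `p`-subgroups, `p > 3`, are cyclic.
-/

set_option autoImplicit false
set_option linter.unusedSectionVars false
set_option linter.style.haveILetI false
set_option maxHeartbeats 1000000
set_option synthInstance.maxHeartbeats 200000

namespace CfsgLib.ReeG2

open Cfsg.Lie CfsgLib.Chevalley Matrix
open scoped MatrixGroups

/-- A `p`-group embedded in a group with a cyclic subgroup of index prime to `p` is cyclic. -/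
theorem isCyclic_of_injective_pGroup {p : ℕ} [Fact p.Prime] {P X : Type*} [Group P] [Group X]
    [Finite X] (hP : IsPGroup p P) (f : P →* X) (hf : Function.Injective f) (C : Subgroup X)
    [IsCyclic C] (hC : ¬ p ∣ C.index) : IsCyclic P := by
  obtain ⟨Q0⟩ : Nonempty (Sylow p C) := inferInstance
  have hidx : ¬ p ∣ ((Q0 : Subgroup C).map C.subtype).index := by
    rw [Subgroup.index_map_subtype]
    exact fun h => ((Fact.out : p.Prime).dvd_mul.1 h).elim Q0.not_dvd_index hC
  obtain ⟨S, hS⟩ := (Q0.2.map C.subtype).exists_le_sylow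
  have hSeq : (Q0 : Subgroup C).map C.subtype = (S : Subgroup X) := by
    refine le_antisymm hS (Subgroup.relIndex_eq_one.1 ?_)
    have h1 := Subgroup.relIndex_mul_index hS
    obtain ⟨n, hn⟩ := IsPGroup.iff_card.1 S.2
    have h2 : ((Q0 : Subgroup C).map C.subtype).relIndex S ∣ p ^ n := hn ▸ Subgroup.relIndex_dvd_card _ _
    obtain ⟨k, -, hk⟩ := (Nat.dvd_prime_pow Fact.out).1 h2
    rcases k with _ | k
    · simpa using hk
    · exact absurd (h1 ▸ (hk ▸ dvd_mul_of_dvd_left (dvd_pow_self p k.succ_ne_zero) _)) hidx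
  obtain ⟨T, hT⟩ := (hP.of_equiv (MonoidHom.ofInjective hf)).exists_le_sylow
  haveI : IsCyclic (S : Subgroup X) := by
    rw [← hSeq]
    exact isCyclic_of_surjective _
      (((Q0 : Subgroup C).equivMapOfInjective _ C.subtype_injective).surjective)
  haveI : IsCyclic (T : Subgroup X) :=
    isCyclic_of_surjective (Sylow.equiv S T) (Sylow.equiv S T).surjective
  exact isCyclic_of_injective ((Subgroup.inclusion hT).comp (MonoidHom.ofInjective hf).toMonoidHom)
    ((Subgroup.inclusion_injective hT).comp (MonoidHom.ofInjective hf).injective)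

variable {K : Type*} [Field K] [CharP K 3] {m : ℕ}

section Finite

variable [Finite K] (hK : Nat.card K = 3 ^ (2 * m + 1))
include hK

theorem finite_tw : Finite ↥(Tw K m) :=
  Finite.of_injective (fun g : ↥(Tw K m) => ((g : GL I K) : Matrix I I K))
    fun _ _ h => Subtype.ext (Units.ext h)

omit hK in
theorem index_not_dvd {X : Type*} [Group X] [Finite X] {p : ℕ} [Fact p.Prime] {C : Subgroup X}
    {e r : ℕ} (h : Nat.card X = Nat.card C * r) (hr : ¬ p ∣ r) (he : e = C.index) : ¬ p ∣ e := by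
  subst he
  have h1 := C.card_mul_index
  rw [h] at h1
  rw [Nat.eq_of_mul_eq_mul_left Nat.card_pos h1]
  exact hr

/-- Case `p ∣ q - 1`. -/
theorem sylow_cyclic_split {p : ℕ} [Fact p.Prime] (P : Sylow p ↥(Tw K m))
    (hr : ¬ p ∣ (3 ^ (2 * m + 1)) ^ 3 * ((3 ^ (2 * m + 1)) ^ 3 + 1)) :
    IsCyclic (P : Subgroup ↥(Tw K m)) := by
  haveI := finite_tw hK
  let f : Kˣ →* ↥(Tw K m) :=
    (Subgroup.inclusion inf_le_right).comp (torusEquiv hK).toMonoidHom
  have hf : Function.Injective f :=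
    (Subgroup.inclusion_injective
      (inf_le_right : chevG2.diagonalSubgroup K ⊓ Tw K m ≤ Tw K m)).comp (torusEquiv hK).injective
  have hc : Nat.card f.range = 3 ^ (2 * m + 1) - 1 := by
    rw [← natCard_units_eq hK]
    exact (Nat.card_congr (MonoidHom.ofInjective hf).toEquiv).symm
  haveI : IsCyclic f.range := isCyclic_of_surjective _ f.rangeRestrict_surjective
  exact isCyclic_of_injective_pGroup P.2 (P : Subgroup ↥(Tw K m)).subtype
    (Subgroup.subtype_injective _) f.range (index_not_dvd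
      (r := (3 ^ (2 * m + 1)) ^ 3 * ((3 ^ (2 * m + 1)) ^ 3 + 1))
      (by rw [natCard_tw hK, hc]; ring) hr rfl)

/-- Case `p ∣ q + 1`. -/
theorem sylow_cyclic_nonsplit {p : ℕ} [Fact p.Prime] (hp : 3 < p) (P : Sylow p ↥(Tw K m))
    (hr : ¬ p ∣ (3 ^ (2 * m + 1)) ^ 3 * (3 ^ (2 * m + 1) - 1) *
      ((3 ^ (2 * m + 1)) ^ 2 - 3 ^ (2 * m + 1) + 1)) :
    IsCyclic (P : Subgroup ↥(Tw K m)) := by
  classical
  haveI := Fintype.ofFinite K
  haveI := finite_tw hK
  obtain ⟨g, ht, hno⟩ := SL2Tori.exists_nonsplit (F := K)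
  have hcard := SL2Tori.card_centralizer_nonsplit ht hno
  rw [← Nat.card_eq_fintype_card, hK] at hcard
  haveI := SL2Tori.isCyclic_centralizer ht
  set C := Subgroup.centralizer ({g} : Set SL(2, K))
  let f : C →* ↥(Tw K m) :=
    (((GG K).subtype.comp (ReeG2Sylow.psi m)).comp C.subtype).codRestrict (Tw K m)
      fun x => ReeG2Sylow.psi_mem _
  haveI : IsCyclic f.range := isCyclic_of_surjective _ f.rangeRestrict_surjective
  have hker : Nat.card f.ker ∣ 2 := by
    have hsq : ∀ x : f.ker, x ^ 2 = 1 := fun x => by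
      have hx : ReeG2Sylow.psi m ((x : C) : SL(2, K)) = 1 :=
        Subtype.ext (congrArg (fun z : ↥(Tw K m) => (z : GL I K)) (MonoidHom.mem_ker.1 x.2))
      have h1 : ((x : C) : SL(2, K)) ^ 2 = 1 := by
        rcases (ReeG2Sylow.psi_eq_one_iff hK _).1 hx with h | h <;> rw [h, pow_two] <;> simp
      exact Subtype.ext (Subtype.ext h1)
    obtain ⟨y, hy⟩ := IsCyclic.exists_generator (α := f.ker)
    rw [← orderOf_eq_card_of_forall_mem_zpowers hy]
    exact orderOf_dvd_of_pow_eq_one (hsq y)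
  have hmul : Nat.card f.range * Nat.card f.ker = 3 ^ (2 * m + 1) + 1 := by
    rw [← hcard, ← Nat.card_congr (QuotientGroup.quotientKerEquivRange f).toEquiv,
      ← Subgroup.card_eq_card_quotient_mul_card_subgroup]
  refine isCyclic_of_injective_pGroup P.2 (P : Subgroup ↥(Tw K m)).subtype
    (Subgroup.subtype_injective _) f.range (index_not_dvd
      (r := Nat.card f.ker * ((3 ^ (2 * m + 1)) ^ 3 * (3 ^ (2 * m + 1) - 1) *
        ((3 ^ (2 * m + 1)) ^ 2 - 3 ^ (2 * m + 1) + 1))) ?_ ?_ rfl)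
  · rw [natCard_tw hK, ← mul_assoc, hmul]
    generalize 3 ^ (2 * m + 1) = q
    have : (q + 1) * (q ^ 2 - q + 1) = q ^ 3 + 1 := by
      have hle : q ≤ q ^ 2 := Nat.le_self_pow (by decide) q
      zify [hle]
      ring
    rw [← this]
    ring
  · intro h
    rcases (Fact.out : p.Prime).dvd_mul.1 h with h | h
    · have := Nat.le_of_dvd two_pos (h.trans hker)
      omega
    · exact hr h

/-- Case `p ∣ q ^ 2 - q + 1`. -/
theorem sylow_cyclic_singer {p : ℕ} [Fact p.Prime] (hp : 3 < p) (P : Sylow p ↥(Tw K m))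
    (hd : p ∣ (3 ^ (2 * m + 1)) ^ 2 - 3 ^ (2 * m + 1) + 1) :
    IsCyclic (P : Subgroup ↥(Tw K m)) := by
  classical
  haveI : Fact (Nat.Prime 3) := ⟨Nat.prime_three⟩
  haveI := Fintype.ofFinite K
  haveI := finite_tw hK
  set q := 3 ^ (2 * m + 1) with hq
  let L := FiniteField.Extension K 3 6
  have hfr : Module.finrank K (L × K) = 7 := by
    rw [Module.finrank_prod, FiniteField.finrank_extension, Module.finrank_self]
  let b := Module.finBasisOfFinrankEq K (L × K) hfr
  let f : Lˣ →* GL (Fin 7) K :=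
    (Units.map (Algebra.leftMulMatrix b).toRingHom.toMonoidHom).comp
      ((MulEquiv.prodUnits.symm : Lˣ × Kˣ ≃* (L × K)ˣ).toMonoidHom.comp (MonoidHom.inl Lˣ Kˣ))
  have hf : Function.Injective f := by
    intro x y h
    have h1 := Units.map_injective
      (f := (Algebra.leftMulMatrix b).toRingHom.toMonoidHom) (Algebra.leftMulMatrix_injective b) h
    exact congrArg Prod.fst ((MulEquiv.prodUnits.symm : Lˣ × Kˣ ≃* (L × K)ˣ).injective h1)
  haveI : Fintype L := Fintype.ofFinite L
  have hc : Nat.card f.range = q ^ 6 - 1 := by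
    rw [← Nat.card_congr (MonoidHom.ofInjective hf).toEquiv, Nat.card_units,
      FiniteField.natCard_extension, hK]
  haveI : IsCyclic f.range := isCyclic_of_surjective _ f.rangeRestrict_surjective
  let ι : ↥(P : Subgroup ↥(Tw K m)) →* GL (Fin 7) K :=
    ((sub7 K).comp ((Subgroup.inclusion (tw_le_group hK)).comp
      (P : Subgroup ↥(Tw K m)).subtype)).toHomUnits
  have hι : Function.Injective ι := fun x y h =>
    Subgroup.subtype_injective _ (Subgroup.inclusion_injective (tw_le_group hK)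
      (sub7_injective (congrArg Units.val h)))
  -- the multiplicative order of `q` modulo `p` is six
  have hq1 : 1 ≤ q := Nat.one_le_pow _ _ (by decide)
  have hle : q ≤ q ^ 2 := Nat.le_self_pow (by decide) q
  set z : ZMod p := (q : ZMod p) with hz
  have hz2 : z ^ 2 - z + 1 = 0 := by
    have h0 := (ZMod.natCast_eq_zero_iff _ p).2 hd
    push_cast [Nat.cast_sub hle] at h0
    exact h0
  have h3 : (3 : ZMod p) ≠ 0 := by
    intro h
    have h' : p ∣ 3 := (ZMod.natCast_eq_zero_iff 3 p).1 (by exact_mod_cast h)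
    have := Nat.le_of_dvd (by decide) h'
    omega
  have hz3 : z ^ 3 = -1 := by linear_combination (z + 1) * hz2
  have hz6 : z ^ 6 = 1 := by linear_combination (z ^ 3 - 1) * hz3
  have hpow : ∀ j, 1 ≤ j → j ≤ 7 → j ≠ 6 → ¬ p ∣ q ^ j - 1 := by
    intro j hj1 hj7 hj6 h
    have h0 := (ZMod.natCast_eq_zero_iff _ p).2 h
    push_cast [Nat.cast_sub (Nat.one_le_pow j q (by omega))] at h0
    rw [← hz, sub_eq_zero] at h0
    have hz1 : z ≠ 1 := fun e => by rw [e] at hz2; exact one_ne_zero (by linear_combination hz2)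
    have hzm : z ≠ -1 := fun e => by rw [e] at hz2; exact h3 (by linear_combination hz2)
    have hne2 : z ^ 2 ≠ 1 := fun e => (sq_eq_one_iff.1 e).elim hz1 hzm
    have hne3 : z ^ 3 ≠ 1 := by
      rw [hz3]
      intro e
      have h' : p ∣ 2 := (ZMod.natCast_eq_zero_iff 2 p).1
        (by push_cast; linear_combination -e)
      have := Nat.le_of_dvd (by decide) h'
      omega
    interval_cases j
    · exact hz1 (by rwa [pow_one] at h0)
    · exact hne2 h0
    · exact hne3 h0
    · exact hne2 (by linear_combination hz6 - z ^ 2 * h0)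
    · exact hz1 (by linear_combination hz6 - z * h0)
    · exact hj6 rfl
    · exact hz1 (by linear_combination h0 - z * hz6)
  have hqp : ∀ i, ¬ p ∣ q ^ i := fun i h => by
    have := (Nat.prime_dvd_prime_iff_eq Fact.out Nat.prime_three).1
      ((Fact.out : p.Prime).dvd_of_dvd_pow ((Fact.out : p.Prime).dvd_of_dvd_pow h))
    omega
  have hGL : Nat.card (GL (Fin 7) K) =
      (q ^ 6 - 1) * (q * ∏ i ∈ Finset.univ.erase (1 : Fin 7), (q ^ 7 - q ^ (i : ℕ))) := by
    rw [Matrix.card_GL_field, ← Nat.card_eq_fintype_card, hK,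
      ← Finset.mul_prod_erase Finset.univ _ (Finset.mem_univ (1 : Fin 7)), ← mul_assoc]
    congr 1
    rw [show ((1 : Fin 7) : ℕ) = 1 from rfl, pow_one, Nat.sub_mul, ← pow_succ, one_mul]
  refine isCyclic_of_injective_pGroup P.2 ι hι f.range (index_not_dvd
    (r := q * ∏ i ∈ Finset.univ.erase (1 : Fin 7), (q ^ 7 - q ^ (i : ℕ))) (by rw [hGL, hc]) ?_ rfl)
  intro h
  rcases (Fact.out : p.Prime).dvd_mul.1 h with h | h
  · exact hqp 1 (by rwa [pow_one])
  · obtain ⟨i, hi, hdi⟩ := ((Fact.out : p.Prime).prime.dvd_finsetProd_iff _).1 h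
    have hi1 : (i : ℕ) ≠ 1 := fun e => Finset.ne_of_mem_erase hi (Fin.ext e)
    have := i.isLt
    rw [show q ^ 7 - q ^ (i : ℕ) = q ^ (i : ℕ) * (q ^ (7 - (i : ℕ)) - 1) by
      rw [Nat.mul_sub, mul_one, ← pow_add, Nat.add_sub_cancel' (by omega)]] at hdi
    rcases (Fact.out : p.Prime).dvd_mul.1 hdi with h' | h'
    · exact hqp _ h'
    · exact hpow _ (by omega) (by omega) (by omega) h'

/-- The Sylow subgroups for `p > 3` are cyclic. -/
theorem sylow_cyclic {p : ℕ} [Fact p.Prime] (hp : 3 < p) (P : Sylow p ↥(Tw K m)) :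
    IsCyclic (P : Subgroup ↥(Tw K m)) := by
  have hqp : ¬ p ∣ (3 ^ (2 * m + 1)) ^ 3 := fun h => by
    have := (Nat.prime_dvd_prime_iff_eq Fact.out Nat.prime_three).1
      ((Fact.out : p.Prime).dvd_of_dvd_pow ((Fact.out : p.Prime).dvd_of_dvd_pow h))
    omega
  by_cases hc : p ∣ (3 ^ (2 * m + 1)) ^ 2 - 3 ^ (2 * m + 1) + 1
  · exact sylow_cyclic_singer hK hp P hc
  by_cases h1 : p ∣ 3 ^ (2 * m + 1) - 1
  · refine sylow_cyclic_split hK P fun h => ?_
    rcases (Fact.out : p.Prime).dvd_mul.1 h with h | h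
    · exact hqp h
    · have h0 : 1 ≤ 3 ^ (2 * m + 1) := Nat.one_le_pow _ _ (by decide)
      have hm : p ∣ (3 ^ (2 * m + 1)) ^ 3 - 1 := by
        have := Nat.sub_dvd_pow_sub_pow (3 ^ (2 * m + 1)) 1 3
        rw [one_pow] at this
        exact h1.trans this
      have h2 := Nat.dvd_sub h hm
      have h3 : 1 ≤ (3 ^ (2 * m + 1)) ^ 3 := Nat.one_le_pow _ _ h0
      rw [show (3 ^ (2 * m + 1)) ^ 3 + 1 - ((3 ^ (2 * m + 1)) ^ 3 - 1) = 2 by omega] at h2
      have := Nat.le_of_dvd two_pos h2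
      omega
  · refine sylow_cyclic_nonsplit hK hp P fun h => ?_
    rcases (Fact.out : p.Prime).dvd_mul.1 h with h | h
    · rcases (Fact.out : p.Prime).dvd_mul.1 h with h | h
      · exact hqp h
      · exact h1 h
    · exact hc h

end Finite

end CfsgLib.ReeG2
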