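import Cfsg.Agent.ReeG2.SchurTwo
import Cfsg.Agent.ReeG2.SchurThree
import Cfsg.Agent.ReeG2.SylowCyclic
import Cfsg.Agent.Schur.Basic
import Mathlib

/-!
The Schur multiplier of `²G₂(q)`, `q ≥ 27`, is trivial.
-/

set_option autoImplicit false
set_option linter.unusedSectionVars false
set_option linter.style.haveILetI false
set_option maxHeartbeats 1000000
set_option synthInstance.maxHeartbeats 200000

namespace CfsgLib.ReeG2

open Cfsg.Lie CfsgLib.Chevalley

variable {K : Type*} [Field K] [CharP K 3] [Finite K] {m : ℕ}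
  (hK : Nat.card K = 3 ^ (2 * m + 1))
include hK

/-- `²G₂(q)` has trivial Schur multiplier for `m ≥ 1`. -/
theorem hasCyclicSchurMultiplier_tw (hm : 1 ≤ m) :
    Cfsg.HasCyclicSchurMultiplier ↥(Tw K m) 1 := by
  haveI := finite_tw' hK
  refine CfsgLib.Schur.hasCyclicSchurMultiplier_one _ fun p hp _ Γ _ _ σ hσ hexp => ?_
  haveI := Fact.mk hp
  by_cases hp2 : p = 2
  · subst hp2
    obtain ⟨S, hS⟩ := sylow_two_lift_commute hK hm σ hσ.1 hσ.2.1
    rw [eq_bot_iff]
    intro z hz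
    rw [Subgroup.mem_bot]
    have h1 : z ∈ ⁅(S : Subgroup ↥(Tw K m)).comap σ, (S : Subgroup ↥(Tw K m)).comap σ⁆ := by
      refine CfsgLib.Schur.mem_commutator_of_index_coprime _ (hσ.2.1 hz) (hσ.2.2 hz) ?_
      refine Nat.Coprime.coprime_dvd_left (orderOf_dvd_of_pow_eq_one (hexp z hz)) ?_
      rw [Subgroup.index_comap_of_surjective _ hσ.1]
      exact Nat.prime_two.coprime_iff_not_dvd.2 S.not_dvd_index
    have h2 : ⁅(S : Subgroup ↥(Tw K m)).comap σ, (S : Subgroup ↥(Tw K m)).comap σ⁆ ≤ ⊥ := by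
      rw [Subgroup.commutator_le]
      intro x hx y hy
      exact Subgroup.mem_bot.2 (commutatorElement_eq_one_iff_commute.2 (hS x hx y hy))
    exact Subgroup.mem_bot.1 (h2 h1)
  by_cases hp3 : p = 3
  · subst hp3
    obtain ⟨S, hS⟩ := exists_sylow_UT hK
    rw [eq_bot_iff]
    intro z hz
    rw [Subgroup.mem_bot]
    refine sylow_three_lift hK hm σ hσ.1 hσ.2.1 ?_ hz
    refine CfsgLib.Schur.mem_commutator_of_index_coprime _ (hσ.2.1 hz) (hσ.2.2 hz) ?_
    refine Nat.Coprime.coprime_dvd_left (orderOf_dvd_of_pow_eq_one (hexp z hz)) ?_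
    rw [Subgroup.index_comap_of_surjective _ hσ.1, ← hS]
    exact Nat.prime_three.coprime_iff_not_dvd.2 S.not_dvd_index
  · obtain ⟨P⟩ : Nonempty (Sylow p ↥(Tw K m)) := inferInstance
    have h3 : 3 < p := by
      have := hp.two_le
      omega
    haveI := sylow_cyclic hK h3 P
    obtain ⟨g, hg⟩ := IsCyclic.exists_generator (α := P)
    refine CfsgLib.Schur.ker_eq_bot_of_index_zpowers hp (g : ↥(Tw K m)) ?_ σ hσ hexp
    have hzp : Subgroup.zpowers (g : ↥(Tw K m)) = (P : Subgroup ↥(Tw K m)) := by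
      refine le_antisymm (Subgroup.zpowers_le.2 g.2) fun x hx => ?_
      obtain ⟨k, hk⟩ := hg ⟨x, hx⟩
      exact ⟨k, congrArg Subtype.val hk⟩
    rw [hzp]
    exact P.not_dvd_index

end CfsgLib.ReeG2
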