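import Cfsg.Agent.ReeG2.Structure
import Cfsg.Agent.ReeG2Sylow.Form
import Cfsg.Agent.SchurBound.Basic
import Cfsg.Agent.Linear.Perfect
import Mathlib

/-!
Central extensions of `²G₂(q)`: the preimage of a Sylow 2-subgroup is abelian.
-/

set_option autoImplicit false
set_option linter.unusedSectionVars false
set_option linter.style.haveILetI false
set_option maxHeartbeats 1000000
set_option synthInstance.maxHeartbeats 200000

namespace CfsgLib.ReeG2

open Cfsg.Lie CfsgLib.Chevalley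
open scoped commutatorElement MatrixGroups

/-- In a central extension, commutators with a lift of `a` vanish on the centraliser, if this is
`Z₂ × L` with `a = (ω, 1)` and `L` simple non-abelian. -/
theorem lift_commute_centralizer {Γ G L : Type*} [Group Γ] [Group G] [Group L] [IsSimpleGroup L]
    (hnc : ∃ x y : L, x * y ≠ y * x) (σ : Γ →* G) (hsurj : Function.Surjective σ) (hc : σ.ker ≤ Subgroup.center Γ) (a : G)
    (ha : a ≠ 1) (Φ : ↥(Subgroup.centralizer ({a} : Set G)) ≃* Multiplicative (ZMod 2) × L)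
    {x y : Γ} (hx : σ x = a) (hy : σ y ∈ Subgroup.centralizer ({a} : Set G)) : Commute x y := by
  let H := (Subgroup.centralizer ({a} : Set G)).comap σ
  have hcen : ∀ h : H, ⁅x, (h : Γ)⁆ ∈ Subgroup.center Γ := fun h => hc (by
    rw [MonoidHom.mem_ker, map_commutatorElement, hx, commutatorElement_eq_one_iff_commute]
    exact (Subgroup.mem_centralizer_singleton_iff.1 h.2).symm)
  let f : H →* ↥(Subgroup.center Γ) :=
    { toFun := fun h => ⟨⁅x, (h : Γ)⁆, hcen h⟩
      map_one' := Subtype.ext (commutatorElement_one_right x)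
      map_mul' := fun h k => Subtype.ext
        (SchurBound.commutator_mul_right (Subgroup.mem_center_iff.1 (hcen k) _)) }
  suffices hf : f ⟨y, hy⟩ = 1 from commutatorElement_eq_one_iff_commute.1 (congrArg Subtype.val hf)
  have haC : a ∈ Subgroup.centralizer ({a} : Set G) := Subgroup.mem_centralizer_singleton_iff.2 rfl
  let π : H →* L := ((MonoidHom.snd _ L).comp Φ.toMonoidHom).comp
    ((σ.comp H.subtype).codRestrict _ fun h => h.2)
  -- `a` maps to `(ω, 1)`
  have hacen : (Φ ⟨a, haC⟩).2 = 1 := by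
    have hcomm : ∀ l : L, l * (Φ ⟨a, haC⟩).2 = (Φ ⟨a, haC⟩).2 * l := by
      intro l
      obtain ⟨c, hc'⟩ := Φ.surjective (1, l)
      have e : c * ⟨a, haC⟩ = ⟨a, haC⟩ * c :=
        Subtype.ext (Subgroup.mem_centralizer_singleton_iff.1 c.2)
      have e2 := congrArg (fun z => (Φ z).2) e
      simp only [map_mul, Prod.snd_mul, hc'] at e2
      exact e2
    have hz : (Φ ⟨a, haC⟩).2 ∈ Subgroup.center L := Subgroup.mem_center_iff.2 hcomm
    rcases IsSimpleGroup.eq_bot_or_eq_top_of_normal (Subgroup.center L) inferInstance with h | h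
    · rwa [h, Subgroup.mem_bot] at hz
    · obtain ⟨u, v, huv⟩ := hnc
      exact absurd (Subgroup.mem_center_iff.1 (h ▸ Subgroup.mem_top v) u) huv
  have haω : (Φ ⟨a, haC⟩).1 ≠ 1 := fun h => ha (congrArg Subtype.val
    (Φ.injective ((Prod.ext h hacen : Φ ⟨a, haC⟩ = 1).trans (map_one Φ).symm)))
  -- kernel and range
  have hker : ∀ h : H, π h = 1 → f h = 1 := by
    intro h hh
    have hz : ∀ z w : Multiplicative (ZMod 2), w ≠ 1 → z = 1 ∨ z = w := by decide
    set c : ↥(Subgroup.centralizer ({a} : Set G)) := ⟨σ (h : Γ), h.2⟩ with hcdef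
    have hc2 : (Φ c).2 = 1 := hh
    refine Subtype.ext ?_
    show ⁅x, (h : Γ)⁆ = 1
    rcases hz (Φ c).1 _ haω with h1 | h1
    · have e : c = 1 := Φ.injective ((Prod.ext h1 hc2 : Φ c = 1).trans (map_one Φ).symm)
      rw [SchurBound.commutator_congr σ hc (x' := x) (y' := 1) rfl
        (by rw [map_one]; exact congrArg Subtype.val e), commutatorElement_one_right]
    · have e : c = ⟨a, haC⟩ := Φ.injective (Prod.ext h1 (hc2.trans hacen.symm))
      rw [SchurBound.commutator_congr σ hc (x' := x) (y' := x) rfl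
        (by rw [hx]; exact congrArg Subtype.val e), commutatorElement_self]
  have hfcomm : commutator H ≤ f.ker := by
    rw [commutator_def, Subgroup.commutator_le]
    intro p _ q _
    rw [MonoidHom.mem_ker, map_commutatorElement, commutatorElement_eq_one_iff_commute]
    exact Subtype.ext ((Subgroup.mem_center_iff.1 (f q).2 _))
  have hs : Function.Surjective π := by
    intro l
    obtain ⟨c, hc'⟩ := Φ.surjective (1, l)
    obtain ⟨z, hz⟩ := hsurj (c : G)
    refine ⟨⟨z, show σ z ∈ _ by rw [hz]; exact c.2⟩, ?_⟩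
    show (Φ ⟨σ z, _⟩).2 = l
    have e : (⟨σ z, by rw [hz]; exact c.2⟩ : ↥(Subgroup.centralizer ({a} : Set G))) = c :=
      Subtype.ext hz
    rw [e, hc']
  -- `f` vanishes as `L` is perfect
  have htop : (commutator H).map π = ⊤ := by
    rw [commutator_def, Subgroup.map_commutator, Subgroup.map_top_of_surjective π hs]
    rcases IsSimpleGroup.eq_bot_or_eq_top_of_normal _
      (Subgroup.commutator_normal (⊤ : Subgroup L) ⊤) with h | h
    · exfalso
      obtain ⟨u, v, huv⟩ := hnc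
      have := Subgroup.commutator_mem_commutator (Subgroup.mem_top u) (Subgroup.mem_top v)
      rw [h, Subgroup.mem_bot, commutatorElement_eq_one_iff_commute] at this
      exact huv this
    · exact h
  obtain ⟨w, hw, hwe⟩ := (htop.symm ▸ Subgroup.mem_top (π ⟨y, hy⟩) :
    π ⟨y, hy⟩ ∈ (commutator H).map π)
  have h1 : w⁻¹ * ⟨y, hy⟩ ∈ f.ker := hker _ (by rw [map_mul, map_inv, hwe, inv_mul_cancel])
  have h2 := mul_mem (hfcomm hw) h1
  rwa [mul_inv_cancel_left] at h2

section Finite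

variable {K : Type*} [Field K] [CharP K 3] [Finite K] {m : ℕ}
  (hK : Nat.card K = 3 ^ (2 * m + 1))
include hK

/-- The preimage of a Sylow 2-subgroup in a central extension is abelian. -/
theorem sylow_two_lift_commute (hm : 1 ≤ m) {Γ : Type*} [Group Γ] (σ : Γ →* ↥(Tw K m))
    (hsurj : Function.Surjective σ) (hc : σ.ker ≤ Subgroup.center Γ) :
    ∃ S : Sylow 2 ↥(Tw K m), ∀ x ∈ (S : Subgroup ↥(Tw K m)).comap σ,
      ∀ y ∈ (S : Subgroup ↥(Tw K m)).comap σ, Commute x y := by
  haveI := Fintype.ofFinite K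
  haveI := ReeG2Sylow.finite_twisted (K := K) (m := m)
  haveI : Fact (Nat.Prime 2) := ⟨Nat.prime_two⟩
  have hK' : Fintype.card K = 3 ^ (2 * m + 1) := by rw [← Nat.card_eq_fintype_card, hK]
  set a := ReeG2Sylow.aT K m with ha
  obtain ⟨Φ⟩ := ReeG2Sylow.centralizer_aT_equiv hK (ReeG2Sylow.hasForm hK')
  have hq : 27 ≤ Fintype.card K := by
    rw [hK']
    exact le_trans (by norm_num) (Nat.pow_le_pow_right (by norm_num) (show 3 ≤ 2 * m + 1 by omega))
  haveI : IsSimpleGroup (Matrix.ProjectiveSpecialLinearGroup (Fin 2) K) :=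
    Linear.isSimpleGroup_PSL_of 2 le_rfl fun _ => by omega
  have hnc : ∃ x y : Matrix.ProjectiveSpecialLinearGroup (Fin 2) K, x * y ≠ y * x := by
    by_contra h
    push Not at h
    letI : CommGroup (Matrix.ProjectiveSpecialLinearGroup (Fin 2) K) :=
      { (inferInstance : Group (Matrix.ProjectiveSpecialLinearGroup (Fin 2) K)) with mul_comm := h }
    have hp : (Nat.card (Matrix.ProjectiveSpecialLinearGroup (Fin 2) K)).Prime :=
      IsSimpleGroup.prime_card
    have hodd : Odd (Fintype.card K) := hK' ▸ (Odd.pow (by decide))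
    have hc2 := Linear.card_PSL_two_odd (F := K) hodd
    have hqd : Fintype.card K ∣ 2 * Nat.card (Matrix.ProjectiveSpecialLinearGroup (Fin 2) K) :=
      hc2 ▸ dvd_mul_right _ _
    have h3 := (Nat.dvd_prime hp).1
      ((Nat.coprime_two_right.2 hodd).dvd_of_dvd_mul_left hqd)
    rcases h3 with h3 | h3
    · omega
    · rw [← h3] at hc2
      have h5 : Fintype.card K ^ 2 - 1 = 2 := by
        rw [mul_comm] at hc2
        exact (Nat.eq_of_mul_eq_mul_left (by omega) hc2).symm
      have : 27 ^ 2 ≤ Fintype.card K ^ 2 := Nat.pow_le_pow_left hq 2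
      omega
  have hz2 : IsPGroup 2 (Subgroup.zpowers a) := by
    refine IsPGroup.of_card (n := 1) ?_
    rw [Nat.card_zpowers, pow_one]
    exact orderOf_eq_prime (by rw [pow_two]; exact ReeG2Sylow.aT_mul_self) ReeG2Sylow.aT_ne_one
  obtain ⟨S, hS⟩ := hz2.exists_le_sylow
  obtain ⟨h8, hsq⟩ := ReeG2Sylow.sylow_two hK' (ReeG2Sylow.hasForm hK')
    (ReeG2Sylow.card_twisted hK') S
  have hcomm : ∀ x ∈ (S : Subgroup ↥(Tw K m)), ∀ y ∈ (S : Subgroup ↥(Tw K m)), x * y = y * x := by
    intro x hx y hy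
    have e1 := hsq _ (mul_mem hx hy)
    have ex : x⁻¹ = x := inv_eq_of_mul_eq_one_right (hsq x hx)
    have ey : y⁻¹ = y := inv_eq_of_mul_eq_one_right (hsq y hy)
    rw [← inv_eq_of_mul_eq_one_right e1, mul_inv_rev, ex, ey]
  have haS : a ∈ (S : Subgroup ↥(Tw K m)) := hS (Subgroup.mem_zpowers a)
  have hSC : ∀ y ∈ (S : Subgroup ↥(Tw K m)),
      y ∈ Subgroup.centralizer ({a} : Set ↥(Tw K m)) := fun y hy =>
    Subgroup.mem_centralizer_singleton_iff.2 (hcomm y hy a haS)
  obtain ⟨n, hn, hne⟩ : ∃ n ∈ Subgroup.normalizer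
      ((S : Subgroup ↥(Tw K m)) : Set ↥(Tw K m)), n * a * n⁻¹ ≠ a := by
    by_contra h
    push Not at h
    exact ReeG2Sylow.aT_ne_one (ReeG2Sylow.eq_one_of_fixed S (tw_commutator hK hm)
      ⟨⟨fun x y => Subtype.ext (hcomm x x.2 y y.2)⟩⟩ haS h)
  obtain ⟨n', hn'⟩ := hsurj n
  set H := (S : Subgroup ↥(Tw K m)).comap σ with hH
  let A : Subgroup Γ := H ⊓ Subgroup.centralizer (H : Set Γ)
  have hA : ∀ x ∈ H, σ x = a → x ∈ A := fun x hx e =>
    ⟨hx, Subgroup.mem_centralizer_iff.2 fun y hy =>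
      (lift_commute_centralizer hnc σ hsurj hc a ReeG2Sylow.aT_ne_one Φ e (hSC _ hy)).symm.eq⟩
  have hb : ∀ x ∈ H, σ x = n * a * n⁻¹ → x ∈ A := by
    intro x hx e
    refine ⟨hx, Subgroup.mem_centralizer_iff.2 fun y hy => ?_⟩
    have e1 : σ (n'⁻¹ * x * n') = a := by
      rw [map_mul, map_mul, map_inv, hn', e]
      group
    have e2 : σ (n'⁻¹ * y * n') ∈ (S : Subgroup ↥(Tw K m)) := by
      rw [map_mul, map_mul, map_inv, hn']
      exact (Subgroup.mem_normalizer_iff''.1 hn _).1 hy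
    have := (lift_commute_centralizer hnc σ hsurj hc a ReeG2Sylow.aT_ne_one Φ e1 (hSC _ e2)).eq
    calc y * x = n' * ((n'⁻¹ * y * n') * (n'⁻¹ * x * n')) * n'⁻¹ := by group
      _ = n' * ((n'⁻¹ * x * n') * (n'⁻¹ * y * n')) * n'⁻¹ := by rw [this]
      _ = x * y := by group
  have hk : ∀ x, σ x = 1 → x ∈ A := fun x hx =>
    ⟨show σ x ∈ (S : Subgroup ↥(Tw K m)) by rw [hx]; exact one_mem _, Subgroup.mem_centralizer_iff.2 fun y _ =>
      Subgroup.mem_center_iff.1 (hc hx) y⟩
  -- `A` has index at most two in `H`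
  set b := n * a * n⁻¹ with hbdef
  have hbS : b ∈ (S : Subgroup ↥(Tw K m)) :=
    (Subgroup.mem_normalizer_iff.1 hn a).1 haS
  set A₀ : Subgroup ↥(Tw K m) := A.map σ with hA₀
  have hA₀S : A₀ ≤ (S : Subgroup ↥(Tw K m)) := by
    rintro _ ⟨x, hx, rfl⟩
    exact hx.1
  have haA : a ∈ A₀ := by
    obtain ⟨x, hx⟩ := hsurj a
    exact ⟨x, hA x (show σ x ∈ _ by rw [hx]; exact haS) hx, hx⟩
  have hbA : b ∈ A₀ := by
    obtain ⟨x, hx⟩ := hsurj b
    exact ⟨x, hb x (show σ x ∈ _ by rw [hx]; exact hbS) hx, hx⟩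
  have hcard : 4 ≤ Nat.card A₀ := by
    have hb1 : b ≠ 1 := fun h => ReeG2Sylow.aT_ne_one (by
      rwa [hbdef, mul_inv_eq_one, mul_eq_left] at h)
    have h3 : ({1, a, b} : Set ↥(Tw K m)).ncard = 3 :=
      Set.ncard_eq_three.2 ⟨1, a, b, Ne.symm ReeG2Sylow.aT_ne_one, Ne.symm hb1, Ne.symm hne, rfl⟩
    have h4 : ({1, a, b} : Set ↥(Tw K m)).ncard ≤ Nat.card A₀ := by
      refine le_trans (Set.ncard_le_ncard (t := (A₀ : Set ↥(Tw K m))) ?_ (Set.toFinite _))
        (le_of_eq (Nat.card_coe_set_eq (A₀ : Set ↥(Tw K m))).symm)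
      rintro z (rfl | rfl | rfl)
      · exact one_mem _
      · exact haA
      · exact hbA
    have hd := Subgroup.card_dvd_of_le hA₀S
    rw [h8] at hd
    have h5 := Nat.le_of_dvd (by norm_num) hd
    interval_cases h : Nat.card A₀ <;> omega
  refine ⟨S, fun x hx y hy => ?_⟩
  -- `H` is generated by `A` and one element
  have hdecomp : ∀ y ∈ H, σ y ∈ A₀ → y ∈ A := by
    rintro y - ⟨x, hxA, hxe⟩
    have := mul_mem hxA (hk (x⁻¹ * y) (by rw [map_mul, map_inv, hxe, inv_mul_cancel]))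
    rwa [mul_inv_cancel_left] at this
  by_cases hxA : σ x ∈ A₀
  · exact ((Subgroup.mem_centralizer_iff.1 (hdecomp x hx hxA).2) y hy).symm
  by_cases hyA : σ y ∈ A₀
  · exact (Subgroup.mem_centralizer_iff.1 (hdecomp y hy hyA).2) x hx
  have hidx : (A₀.subgroupOf (S : Subgroup ↥(Tw K m))).index = 2 := by
    have h1 := (A₀.subgroupOf (S : Subgroup ↥(Tw K m))).card_mul_index
    rw [Nat.card_congr (Subgroup.subgroupOfEquivOfLe hA₀S).toEquiv, h8] at h1
    have h2 : (A₀.subgroupOf (S : Subgroup ↥(Tw K m))).index ≠ 1 := fun h =>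
      hxA (Subgroup.subgroupOf_eq_top.1 (Subgroup.index_eq_one.1 h) hx)
    have h3 : 0 < (A₀.subgroupOf (S : Subgroup ↥(Tw K m))).index :=
      Nat.pos_of_ne_zero fun h => by simp [h] at h1
    have h4 := Nat.mul_le_mul hcard (le_refl (A₀.subgroupOf (S : Subgroup ↥(Tw K m))).index)
    omega
  have hxy : σ x⁻¹ * σ y ∈ A₀ := by
    have := (Subgroup.mul_mem_iff_of_index_two hidx (a := ⟨σ x⁻¹, by rw [map_inv]; exact inv_mem hx⟩)
      (b := ⟨σ y, hy⟩)).2 (iff_of_false (fun h => hxA (by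
        have h' : σ x⁻¹ ∈ A₀ := Subgroup.mem_subgroupOf.1 h
        rw [map_inv] at h'
        exact inv_mem_iff.1 h')) fun h => hyA (Subgroup.mem_subgroupOf.1 h))
    exact this
  have hmem : x⁻¹ * y ∈ A := hdecomp _ (mul_mem (inv_mem hx) hy) (by rw [map_mul]; exact hxy)
  calc x * y = x * (x * (x⁻¹ * y)) := by group
    _ = x * ((x⁻¹ * y) * x) := by rw [(Subgroup.mem_centralizer_iff.1 hmem.2) x hx]
    _ = y * x := by group

end Finite

end CfsgLib.ReeG2
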