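import Cfsg.Agent.ReeG2.Isogeny
import Cfsg.Agent.Twisted.NegSym
import Mathlib

/-!
The Steinberg endomorphism `σ : x_r(t) ↦ x_{r̄}(t^{λ θ})` of `G₂(K)`, `θ : t ↦ t^{3^m}`, its fixed points,
and the automorphism `ν : x_r(t) ↦ x_{-r}(-t)` commuting with it.
-/

set_option autoImplicit false
set_option linter.unusedSectionVars false

namespace CfsgLib.ReeG2

open Cfsg.Lie CfsgLib.Chevalley

variable {K : Type*} [Field K]

theorem map_mem_group (f : K →+* K) (g : ↥(GG K)) :
    Matrix.GeneralLinearGroup.map f (g : GL I K) ∈ GG K :=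
  xG_induction (P := fun g : ↥(GG K) => Matrix.GeneralLinearGroup.map f (g : GL I K) ∈ GG K) g
    (fun r t => by
      show Matrix.GeneralLinearGroup.map f (X2 r t) ∈ GG K
      rw [X_map]; exact X2_mem r _)
    (by rw [Subgroup.coe_one, map_one]; exact one_mem _)
    fun a b ha hb => by rw [Subgroup.coe_mul, map_mul]; exact mul_mem ha hb

/-- A field map on `G₂(K)`. -/
noncomputable def fieldHom (f : K →+* K) : ↥(GG K) →* ↥(GG K) :=
  ((Matrix.GeneralLinearGroup.map (n := I) f).comp (GG K).subtype).codRestrict (GG K) (map_mem_group f)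

theorem fieldHom_xG (f : K →+* K) (r : R0) (t : K) : fieldHom f (xG r t) = xG r (f t) :=
  Subtype.ext (X_map good_chevG2 f r t)

/-- `θ t = t ^ 3 ^ m`. -/
def theta (m : ℕ) (t : K) : K := t ^ 3 ^ m

variable [CharP K 3]

theorem theta_add (m : ℕ) (s t : K) : theta m (s + t) = theta m s + theta m t :=
  add_pow_char_pow s t 3 m

theorem theta_mul (m : ℕ) (s t : K) : theta m (s * t) = theta m s * theta m t := mul_pow s t _

theorem theta_pow (m : ℕ) (s : K) (k : ℕ) : theta m (s ^ k) = theta m s ^ k := by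
  simp only [theta, ← pow_mul, mul_comm]

theorem theta_neg (m : ℕ) (s : K) : theta m (-s) = -theta m s := by
  have h : Odd (3 ^ m) := Odd.pow (by decide)
  simp [theta, h.neg_pow]

theorem theta_zero (m : ℕ) : theta m (0 : K) = 0 := zero_pow (by positivity)

theorem theta_one (m : ℕ) : theta m (1 : K) = 1 := one_pow _

theorem theta_inv (m : ℕ) (s : K) : theta m s⁻¹ = (theta m s)⁻¹ := inv_pow s _

variable (K) in
/-- The Steinberg endomorphism. -/
noncomputable def sigma (m : ℕ) : ↥(GG K) →* ↥(GG K) :=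
  (fieldHom (iterateFrobenius K 3 m)).comp (iso K)

theorem sigma_xG (m : ℕ) (r : R0) (t : K) :
    sigma K m (xG r t) = xG (bar r) (theta m (t ^ lam r)) := by
  show fieldHom _ (iso K (xG r t)) = _
  rw [iso_xG, fieldHom_xG]
  rfl

theorem sigma_injective (m : ℕ) : Function.Injective (sigma K m) := by
  intro a b h
  refine iso_injective (Subtype.ext (Units.ext (Matrix.ext fun i j => ?_)))
  have h1 := congrArg (fun g : ↥(GG K) => ((g : GL I K) : Matrix I I K) i j) h
  exact iterateFrobenius_inj K 3 m h1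

variable (K) in
/-- The fixed points, in the ambient linear group. -/
noncomputable def fixG (m : ℕ) : Subgroup (GL I K) :=
  ((sigma K m).eqLocus (MonoidHom.id _)).map (GG K).subtype

theorem mem_fixG {m : ℕ} {g : GL I K} :
    g ∈ fixG K m ↔ ∃ h : g ∈ GG K, sigma K m ⟨g, h⟩ = ⟨g, h⟩ := by
  constructor
  · rintro ⟨⟨g, hg⟩, h, rfl⟩; exact ⟨hg, h⟩
  · rintro ⟨h, e⟩; exact ⟨⟨g, h⟩, e, rfl⟩

theorem coe_mem_fixG {m : ℕ} {g : ↥(GG K)} : (g : GL I K) ∈ fixG K m ↔ sigma K m g = g :=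
  ⟨fun h => (mem_fixG.1 h).2, fun h => mem_fixG.2 ⟨g.2, h⟩⟩

theorem fixG_le (m : ℕ) : fixG K m ≤ GG K := fun _ h => (mem_fixG.1 h).1

section Neg

open CfsgLib.Twisted

variable (K) in
/-- The automorphism `x_r(t) ↦ x_{-r}(-t)`. -/
noncomputable def nu : ↥(GG K) ≃* ↥(GG K) := (negG2_ok.permutes K).aut

omit [CharP K 3] in
theorem nu_xG (r : R0) (t : K) : nu K (xG r t) = xG r.rev (-t) := by
  refine Subtype.ext ?_
  have h := (negG2_ok.permutes K).aut_x (xG r t) r.isLt ((coe_eq_x_iff good_chevG2 r.isLt).2 rfl)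
  have hall : ∀ r : R0, negG2.σf r = (r.rev : ℕ) ∧ negG2.sgn r = -1 := by decide
  have hσ := hall r
  rw [hσ.1, hσ.2] at h
  simp only [Int.cast_neg, Int.cast_one, neg_one_mul] at h
  exact (coe_eq_x_iff good_chevG2 r.rev.isLt).1 h

theorem sigma_nu (m : ℕ) (g : ↥(GG K)) : sigma K m (nu K g) = nu K (sigma K m g) := by
  refine DFunLike.congr_fun (hom_ext (f := (sigma K m).comp (nu K).toMonoidHom)
    (f' := (nu K).toMonoidHom.comp (sigma K m)) fun r t => ?_) g
  show sigma K m (nu K (xG r t)) = nu K (sigma K m (xG r t))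
  rw [nu_xG, sigma_xG, sigma_xG, nu_xG, lam_rev, bar_rev, ← theta_neg]
  rcases lam_cases r with ⟨h, -⟩ | ⟨h, -⟩ <;> rw [h] <;> congr 2 <;> ring

omit [CharP K 3] in
theorem nu_nu (g : ↥(GG K)) : nu K (nu K g) = g := by
  refine DFunLike.congr_fun (hom_ext (f := (nu K).toMonoidHom.comp (nu K).toMonoidHom)
    (f' := MonoidHom.id _) fun r t => ?_) g
  show nu K (nu K (xG r t)) = xG r t
  rw [nu_xG, nu_xG, Fin.rev_rev, neg_neg]

end Neg

end CfsgLib.ReeG2
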