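import Cfsg.Agent.ReeG2.Unipotent
import Cfsg.Agent.ChevSimple.Basic
import Cfsg.Agent.Ree3.Cert
import Mathlib

/-!
The torus of `G₂(K)` in the coordinates `(χ a, χ b)`, its `σ`-fixed part, the monomial elements, and an
element of order two of the fixed torus inside the twisted group.
-/

set_option autoImplicit false
set_option linter.unusedSectionVars false

namespace CfsgLib.ReeG2

open Cfsg.Lie CfsgLib.Chevalley

variable {K : Type*} [Field K]

/-- The coordinates of the torus element with values `A` on `a` and `B` on `b`. -/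
def cvec (A B : Kˣ) : Fin chevG2.rank → Kˣ :=
  fun k => if (k : ℕ) = 0 then A ^ 2 * B else A ^ 3 * B ^ 2

/-- The index of the short fundamental root. -/
def i0 : Fin chevG2.rank := ⟨0, by decide⟩

/-- The index of the long fundamental root. -/
def i1 : Fin chevG2.rank := ⟨1, by decide⟩

theorem rank_cases : ∀ k : Fin chevG2.rank, k = i0 ∨ k = i1 := by decide

/-- The torus element with values `A` on `a` and `B` on `b`. -/
def hh (A B : Kˣ) : ↥(GG K) := ⟨torC chevG2 (cvec A B), ChevSimple.torC_mem_group goodW _⟩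

/-- The character values. -/
def chiOf (A B : Kˣ) (r : R0) : Kˣ := ChevSimple.chi (cvec A B) r

theorem hh_conj (A B : Kˣ) (r : R0) (t : K) :
    hh A B * xG r t * (hh A B)⁻¹ = xG r ((chiOf A B r : K) * t) :=
  Subtype.ext (ChevSimple.torC_conj_X good_chevG2 _ r t)

theorem chiOf_eq (A B : Kˣ) (r : R0) : chiOf A B r =
    (A ^ 2 * B) ^ chevG2.cartan 0 r * (A ^ 3 * B ^ 2) ^ chevG2.cartan 1 r := by
  exact Fin.prod_univ_two (fun k : Fin 2 => cvec A B k ^ chevG2.cartan (k : ℕ) (r : ℕ))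

theorem chi_table (A B : Kˣ) :
    chiOf A B (rt 7) = A ∧ chiOf A B (rt 6) = B ∧ chiOf A B (rt 8) = A * B ∧
      chiOf A B (rt 9) = A ^ 2 * B ∧ chiOf A B (rt 10) = A ^ 3 * B ∧
      chiOf A B (rt 11) = A ^ 3 * B ^ 2 := by
  simp only [chiOf_eq,
    show chevG2.cartan 0 (rt 7 : R0) = 2 from by decide +kernel,
    show chevG2.cartan 1 (rt 7 : R0) = -1 from by decide +kernel,
    show chevG2.cartan 0 (rt 6 : R0) = -3 from by decide +kernel,
    show chevG2.cartan 1 (rt 6 : R0) = 2 from by decide +kernel,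
    show chevG2.cartan 0 (rt 8 : R0) = -1 from by decide +kernel,
    show chevG2.cartan 1 (rt 8 : R0) = 1 from by decide +kernel,
    show chevG2.cartan 0 (rt 9 : R0) = 1 from by decide +kernel,
    show chevG2.cartan 1 (rt 9 : R0) = 0 from by decide +kernel,
    show chevG2.cartan 0 (rt 10 : R0) = 3 from by decide +kernel,
    show chevG2.cartan 1 (rt 10 : R0) = -1 from by decide +kernel,
    show chevG2.cartan 0 (rt 11 : R0) = 0 from by decide +kernel,
    show chevG2.cartan 1 (rt 11 : R0) = 1 from by decide +kernel]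
  refine ⟨?_, ?_, ?_, ?_, ?_, ?_⟩ <;> ext <;>
    simp only [Units.val_mul, Units.val_zpow_eq_zpow_val, Units.val_pow_eq_pow_val] <;>
    field_simp [zpow_neg, zpow_natCast]

theorem cvec_surj (c : Fin chevG2.rank → Kˣ) : ∃ A B, cvec A B = c := by
  refine ⟨c i0 ^ 2 * (c i1)⁻¹, c i1 ^ 2 * ((c i0)⁻¹) ^ 3, funext fun i => ?_⟩
  rcases rank_cases i with rfl | rfl <;> ext <;>
    simp only [cvec, i0, i1, if_true, if_false, one_ne_zero, Units.val_mul, Units.val_pow_eq_pow_val,
      Units.val_inv_eq_inv_val] <;>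
    field_simp

theorem exists_hh {g : GL I K} (hg : g ∈ chevG2.diagonalSubgroup K) :
    ∃ A B, ((hh A B : ↥(GG K)) : GL I K) = g := by
  rw [diagonalSubgroup_eq_range goodW] at hg
  obtain ⟨c, rfl⟩ := hg
  obtain ⟨A, B, rfl⟩ := cvec_surj c
  exact ⟨A, B, rfl⟩

theorem hh_mem_diag (A B : Kˣ) : ((hh A B : ↥(GG K)) : GL I K) ∈ chevG2.diagonalSubgroup K := by
  rw [diagonalSubgroup_eq_range goodW]
  exact ⟨_, rfl⟩

theorem hh_inj {A B A' B' : Kˣ} (h : hh A B = hh A' B') : A = A' ∧ B = B' := by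
  have key : ∀ r, chiOf A B r = chiOf A' B' r := fun r => by
    have h1 := hh_conj A B r 1
    rw [h, hh_conj] at h1
    have h2 := X_injective good_chevG2 r (congrArg Subtype.val h1)
    simp only [mul_one] at h2
    exact Units.ext h2.symm
  have h7 := key (rt 7)
  have h6 := key (rt 6)
  rw [(chi_table A B).1, (chi_table A' B').1] at h7
  rw [(chi_table A B).2.1, (chi_table A' B').2.1] at h6
  exact ⟨h7, h6⟩

theorem hh_mul (A B A' B' : Kˣ) : hh A B * hh A' B' = hh (A * A') (B * B') := by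
  refine Subtype.ext ?_
  show torC chevG2 _ * torC chevG2 _ = torC chevG2 _
  rw [torC_mul]
  congr 1
  funext i
  rcases rank_cases i with rfl | rfl <;> simp [cvec, i0, i1, mul_pow, mul_assoc, mul_comm, mul_left_comm]

theorem hh_one : hh (1 : Kˣ) 1 = 1 := by
  have h := hh_mul (1 : Kˣ) 1 1 1
  rw [one_mul] at h
  exact mul_eq_left.1 h

/-- `n_r(t)` in the group. -/
def nG (r : R0) (t : Kˣ) : ↥(GG K) := xG r (t : K) * xG r.rev (-((t⁻¹ : Kˣ) : K)) * xG r (t : K)

theorem coe_nG (r : R0) (t : Kˣ) : ((nG r t : ↥(GG K)) : GL I K) = nElt good_chevG2 r t := rfl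

theorem monBy_nElt_simple (i : Fin chevG2.rank) (t : Kˣ) :
    MonBy goodW (nElt good_chevG2 (pRoot goodW i) t) (wPerm goodW i) := by
  rw [show nElt good_chevG2 (pRoot goodW i) t = hT K (pRoot goodW i) t * nR goodW i from
    nWord_eq goodW i t]
  simpa using (monBy_diag goodW (hT_mem_diagonal goodW (pRoot goodW i) t)).mul
    (monBy_nR (F := K) goodW i)

theorem monBy_nElt_moved (i j : Fin chevG2.rank) (u : Kˣ) :
    MonBy goodW (nElt good_chevG2 (wPerm goodW i (pRoot goodW j)) u)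
      (wPerm goodW i * wPerm goodW j * (wPerm goodW i)⁻¹) := by
  obtain ⟨c, hc⟩ : ∃ c : Kˣ, (c : K) = (eta chevG2 i (pRoot goodW j) : K) := by
    have h : (eta chevG2 i (pRoot goodW j) : K) * eta chevG2 i (pRoot goodW j) = 1 := by
      rw [← Int.cast_mul, goodW.eta_sq, Int.cast_one]
    exact ⟨⟨_, _, h, h⟩, rfl⟩
  have e := nElt_conj goodW i (pRoot goodW j) (c⁻¹ * u) c hc
  rw [mul_inv_cancel_left] at e
  rw [← e]
  exact ((monBy_nR goodW i).mul (monBy_nElt_simple j _)).mul (monBy_nR goodW i).inv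

/-- `n_{a+b}(θ u) n_{3a+b}(u)`. -/
def nn [CharP K 3] (m : ℕ) (u : Kˣ) : ↥(GG K) := nG (rt 8) (u ^ 3 ^ m) * nG (rt 10) u

theorem wPerm_facts :
    wPerm goodW i1 (pRoot goodW i0) = rt 8 ∧ wPerm goodW i0 (pRoot goodW i1) = rt 10 ∧
    ∀ r : R0, (wPerm goodW i1 * wPerm goodW i0 * (wPerm goodW i1)⁻¹ *
      (wPerm goodW i0 * wPerm goodW i1 * (wPerm goodW i0)⁻¹)) r = r.rev := by decide +kernel

/-- The reversal of the roots. -/
def revPerm : Equiv.Perm R0 := Fin.revPerm

variable [CharP K 3]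

theorem monBy_nn (m : ℕ) (u : Kˣ) : MonBy goodW ((nn m u : ↥(GG K)) : GL I K) revPerm := by
  rw [show revPerm = wPerm goodW i1 * wPerm goodW i0 * (wPerm goodW i1)⁻¹ *
      (wPerm goodW i0 * wPerm goodW i1 * (wPerm goodW i0)⁻¹) from
    Equiv.ext fun r => ((wPerm_facts.2.2 r).trans rfl).symm]
  show MonBy goodW (nElt good_chevG2 (rt 8) _ * nElt good_chevG2 (rt 10) u) _
  rw [← wPerm_facts.1, ← wPerm_facts.2.1]
  exact (monBy_nElt_moved i1 i0 _).mul (monBy_nElt_moved i0 i1 u)

/-- `n_{a+b}(θ u) n_{3a+b}(u)` as a product of three fixed words. -/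
theorem nn_eq (m : ℕ) (u : Kˣ) :
    nn m u = wordU m 0 (u : K) 0 * nu K (wordU m 0 ((u⁻¹ : Kˣ) : K) 0) * wordU m 0 (u : K) 0 := by
  have hw : ∀ x : K, wordU m 0 x 0 = xG (rt 8) (theta m x) * xG (rt 10) x := by
    intro x
    simp [wordU, uElt, tail, theta_zero, xG_zero]
  rw [hw, hw, map_mul, nu_xG, nu_xG, nn, nG, nG]
  have c1 : ∀ x y : K, Commute (xG (rt 8) x) (xG (rt 8).rev.rev.rev.rev (0 : K) * xG (rt 10) y) :=
    fun x y => by
      rw [xG_zero, one_mul]
      exact comm_tail (rt 10) (rt 8) (by decide) (by decide) y x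
  have c8 : ∀ x y : K, Commute (xG (rt 8) x) (xG (rt 10) y) := fun x y =>
    comm_tail (rt 10) (rt 8) (by decide) (by decide) y x
  have c81 : ∀ x y : K, Commute (xG (rt 8) x) (xG (rt 10).rev y) := fun x y =>
    comm_of_dvd (rt 10).rev (rt 8) (by decide) (by decide) (by decide +kernel) y x
  have c310 : ∀ x y : K, Commute (xG (rt 8).rev x) (xG (rt 10) y) := fun x y =>
    comm_of_dvd (rt 10) (rt 8).rev (by decide) (by decide) (by decide +kernel) y x
  rw [show ((u ^ 3 ^ m : Kˣ) : K) = theta m (u : K) from Units.val_pow_eq_pow_val _ _,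
    show (((u ^ 3 ^ m)⁻¹ : Kˣ) : K) = theta m (((u⁻¹ : Kˣ) : K)) by
      rw [← inv_pow, Units.val_pow_eq_pow_val]; rfl]
  generalize theta m (u : K) = p
  generalize theta m (((u⁻¹ : Kˣ) : K)) = q
  generalize (((u⁻¹ : Kˣ) : K)) = w
  generalize (u : K) = z
  calc xG (rt 8) p * xG (rt 8).rev (-q) * xG (rt 8) p * (xG (rt 10) z * xG (rt 10).rev (-w) * xG (rt 10) z)
      = xG (rt 8) p * xG (rt 8).rev (-q) * (xG (rt 8) p * xG (rt 10) z) * xG (rt 10).rev (-w) *
          xG (rt 10) z := by group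
    _ = xG (rt 8) p * (xG (rt 8).rev (-q) * xG (rt 10) z) * (xG (rt 8) p * xG (rt 10).rev (-w)) *
          xG (rt 10) z := by rw [(c8 p z).eq]; group
    _ = xG (rt 8) p * (xG (rt 10) z * xG (rt 8).rev (-q)) * (xG (rt 10).rev (-w) * xG (rt 8) p) *
          xG (rt 10) z := by rw [(c310 (-q) z).eq, (c81 p (-w)).eq]
    _ = _ := by group

theorem hT_eq_hh_square (m : ℕ) (u : Kˣ) :
    ∃ A : Kˣ, nn m u * nn m (-1) = hh A ((u ^ 3 ^ m) ^ 3 * u⁻¹) := by
  have c : ∀ (p : Kˣ) (z : Kˣ), Commute (nG (rt 8) p) (nG (rt 10) z) := by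
    intro p z
    have c8 : ∀ x y : K, Commute (xG (rt 8) x) (xG (rt 10) y) := fun x y =>
      comm_tail (rt 10) (rt 8) (by decide) (by decide) y x
    have c81 : ∀ x y : K, Commute (xG (rt 8) x) (xG (rt 10).rev y) := fun x y =>
      comm_of_dvd (rt 10).rev (rt 8) (by decide) (by decide) (by decide +kernel) y x
    have c310 : ∀ x y : K, Commute (xG (rt 8).rev x) (xG (rt 10) y) := fun x y =>
      comm_of_dvd (rt 10) (rt 8).rev (by decide) (by decide) (by decide +kernel) y x
    have c31 : ∀ x y : K, Commute (xG (rt 8).rev x) (xG (rt 10).rev y) := fun x y =>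
      comm_of_dvd (rt 10).rev (rt 8).rev (by decide) (by decide) (by decide +kernel) y x
    exact (((c8 _ _).mul_right (c81 _ _)).mul_right (c8 _ _)).mul_left
      (((c310 _ _).mul_right (c31 _ _)).mul_right (c310 _ _)) |>.mul_left
      (((c8 _ _).mul_right (c81 _ _)).mul_right (c8 _ _))
  refine ⟨u * (u ^ 3 ^ m)⁻¹, ?_⟩
  have hAB : ((hh (u * (u ^ 3 ^ m)⁻¹) ((u ^ 3 ^ m) ^ 3 * u⁻¹) : ↥(GG K)) : GL I K) =
      hT K (rt 8) (u ^ 3 ^ m) * hT K (rt 10) u := by
    generalize u ^ 3 ^ m = p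
    rw [hT_eq_torC, hT_eq_torC, torC_mul]
    show torC chevG2 (cvec _ _) = _
    congr 1
    funext k
    rcases rank_cases k with rfl | rfl
    · rw [Pi.mul_apply,
        show (chevG2.coroot.getD (rt 8 : R0) #[]).getD (i0 : ℕ) 0 = 1 from by decide +kernel,
        show (chevG2.coroot.getD (rt 10 : R0) #[]).getD (i0 : ℕ) 0 = 1 from by decide +kernel,
        cvec, if_pos (show (i0 : ℕ) = 0 from rfl)]
      ext
      simp only [zpow_one, Units.val_mul, Units.val_pow_eq_pow_val, Units.val_inv_eq_inv_val]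
      field_simp
    · rw [Pi.mul_apply,
        show (chevG2.coroot.getD (rt 8 : R0) #[]).getD (i1 : ℕ) 0 = ((3 : ℕ) : ℤ) from by decide +kernel,
        show (chevG2.coroot.getD (rt 10 : R0) #[]).getD (i1 : ℕ) 0 = 1 from by decide +kernel,
        cvec, if_neg (show ¬ (i1 : ℕ) = 0 by decide)]
      ext
      simp only [zpow_natCast, zpow_one, Units.val_mul, Units.val_pow_eq_pow_val,
        Units.val_inv_eq_inv_val]
      field_simp
  have h1 : (-1 : Kˣ) ^ 3 ^ m = -1 := Odd.neg_one_pow (Odd.pow (by decide))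
  refine Subtype.ext ?_
  rw [hAB, ← hElt_eq goodW (rt 8), ← hElt_eq goodW (rt 10)]
  rw [show nn m u * nn m (-1) =
    (nG (rt 8) (u ^ 3 ^ m) * nG (rt 8) (-1)) * (nG (rt 10) u * nG (rt 10) (-1)) from by
      rw [nn, nn, h1]
      calc nG (rt 8) (u ^ 3 ^ m) * nG (rt 10) u * (nG (rt 8) (-1) * nG (rt 10) (-1))
          = nG (rt 8) (u ^ 3 ^ m) * (nG (rt 10) u * nG (rt 8) (-1)) * nG (rt 10) (-1) := by group
        _ = _ := by rw [← (c (-1) u).eq]; group]
  rfl

/-- The word over the field with three elements giving the torus element of order two. -/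
def negOneWord : List (ℕ × ZMod 3) :=
  reeWordU 1 0 0 1 ++ reeWordV 1 0 0 1 ++ reeWordU 1 1 1 1 ++ reeWordV 1 2 1 2

theorem toMat_codeWord : ∀ w : List (ℕ × ZMod 3), (∀ p ∈ w, p.1 < 12) →
    (Ree3.codeWord w).length = 14 ∧ Ree3.toMat (Ree3.codeWord w) = chevG2.wordMat (ZMod 3) w
  | [], _ => ⟨(by decide : Ree3.oneCode.length = 14), Ree3.toMat_one⟩
  | p :: w, h => by
    obtain ⟨hl, he⟩ := toMat_codeWord w fun q hq => h q (List.mem_cons_of_mem _ hq)
    obtain ⟨hp1, hp2⟩ := Ree3.xC_ok p.1 (h p List.mem_cons_self) p.2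
    refine ⟨(List.length_map _).trans hp1, ?_⟩
    show Ree3.toMat (Ree3.mulCode (Ree3.xC p.1 p.2) (Ree3.codeWord w)) = _
    rw [Ree3.toMat_mul _ _ hp1, he]
    show _ = chevG2.x (ZMod 3) p.1 p.2 * chevG2.wordMat (ZMod 3) w
    congr 1
    ext a b
    exact hp2 a b

def negOneEntry (a b : Fin 2 ⊕ Fin 12) : ZMod 3 :=
  if a = b then Sum.elim (fun _ => 1)
    (fun r : Fin 12 => if (chevG2.cartan 0 r + chevG2.cartan 1 r) % 2 = 0 then 1 else -1) a
  else 0

theorem negOne_check : ∀ a b : Fin 2 ⊕ Fin 12,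
    Ree3.rowVal ((Ree3.codeWord negOneWord).getD (Ree3.pos a) (0, 0)) (Ree3.pos b) =
      negOneEntry a b := by
  decide +kernel

theorem negOneWord_lt : ∀ p ∈ negOneWord, p.1 < 12 := by decide +kernel

theorem hh_neg_one (m : ℕ) :
    wordU m 0 0 (1 : K) * nu K (wordU m 0 0 1) * wordU m 1 1 1 * nu K (wordU m (-1) 1 (-1)) =
      hh (-1) (-1) := by
  let f : ZMod 3 →+* K := ZMod.castHom (dvd_refl 3) K
  have hf2 : f 2 = -1 := by
    rw [show (2 : ZMod 3) = -1 from by decide, map_neg, map_one]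
  have hodd : Odd (3 ^ m) := Odd.pow (by decide)
  have hU : ∀ a b c : ZMod 3, wordU m (f a) (f b) (f c) =
      wordG ((reeWordU 1 a b c).map fun p => (p.1, f p.2)) := by
    intro a b c
    have hth : ∀ x : ZMod 3, theta m (f x) = f x := fun x => by
      show f x ^ 3 ^ m = f x
      rw [← map_pow, ZMod.pow_card_pow]
    refine Subtype.ext (Units.ext ?_)
    rw [coe_wordU, coe_wordG, coe_wordGL]
    congr 1
    simp only [reeWordU, List.map_cons, List.map_nil, map_add, map_pow, pow_add, pow_one,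
      show 2 * 3 ^ m = 3 ^ m * 2 from mul_comm _ _, pow_mul, mul_one, map_mul,
      show ∀ x : K, x ^ 3 ^ m = theta m x from fun x => rfl, hth]
  have hV : ∀ w : List (ℕ × ZMod 3), (∀ p ∈ w, p.1 < 12) →
      nu K (wordG (w.map fun p => (p.1, f p.2))) =
        wordG ((chevG2.negWord w).map fun p => (p.1, f p.2)) := by
    intro w hw
    induction w with
    | nil => exact map_one _
    | cons p w ih =>
      obtain ⟨r, t⟩ := p
      have hr : r < 12 := hw (r, t) List.mem_cons_self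
      have ih' := ih fun q hq => hw q (List.mem_cons_of_mem _ hq)
      simp only [ChevalleyDatum.negWord, wordG, List.map_cons, List.prod_cons, List.map_map] at ih' ⊢
      rw [map_mul, ih']
      congr 1
      have hn : ∀ r : Fin 12, chevG2.negIdx.getD (r : ℕ) 0 = ((r.rev : Fin 12) : ℕ) := by decide
      rw [dif_pos hr, nu_xG, dif_pos (show chevG2.negIdx.getD r 0 < 12 by rw [hn ⟨r, hr⟩]; exact Fin.isLt _),
        map_neg]
      congr 1
      exact Fin.ext (hn ⟨r, hr⟩).symm
  have hcat : ∀ v w : List (ℕ × K), wordG (v ++ w) = wordG v * wordG w := fun v w => by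
    simp [wordG]
  have lhs : wordU m 0 0 (1 : K) * nu K (wordU m 0 0 1) * wordU m 1 1 1 * nu K (wordU m (-1) 1 (-1)) =
      wordG (negOneWord.map fun p => (p.1, f p.2)) := by
    have h0 : f 0 = 0 := map_zero f
    have h1 : f 1 = 1 := map_one f
    have e1 := hU 0 0 1
    have e2 := hU 1 1 1
    have e3 := hU 2 1 2
    rw [h0, h1] at e1
    rw [h1] at e2
    rw [h1, hf2] at e3
    rw [e1, e2, e3, hV _ (by decide +kernel), hV _ (by decide +kernel), negOneWord]
    simp only [List.map_append, hcat, reeWordV]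
  rw [lhs]
  refine Subtype.ext (Units.ext ?_)
  rw [coe_wordG, coe_wordGL]
  have hmap : chevG2.wordMat K (negOneWord.map fun p => (p.1, f p.2)) =
      (chevG2.wordMat (ZMod 3) negOneWord).map f := by
    induction negOneWord with
    | nil => simp [ChevalleyDatum.wordMat]
    | cons p w ih =>
      simp only [ChevalleyDatum.wordMat, List.map_cons, List.prod_cons] at ih ⊢
      rw [ih, Matrix.map_mul, Twisted.x_map]
  rw [hmap]
  ext a b
  rw [Matrix.map_apply, ← (toMat_codeWord _ negOneWord_lt).2, Ree3.toMat]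
  erw [Matrix.of_apply, negOne_check a b]
  unfold negOneEntry
  show _ = (torC chevG2 (cvec (-1 : Kˣ) (-1)) : Matrix I I K) a b
  rw [ChevSimple.torC_apply]
  rcases eq_or_ne a b with rfl | hab
  · erw [Matrix.diagonal_apply_eq, if_pos rfl]
    rcases a with i | r
    · refine (map_one f).trans ?_
      simp [ChevSimple.chiIdx, wt]
    · have hc : ∀ k, cvec (-1 : Kˣ) (-1) k = -1 := fun k => by
        rcases rank_cases k with rfl | rfl <;> simp [cvec, i0, i1, pow_succ]
      rw [show ChevSimple.chiIdx (cvec (-1 : Kˣ) (-1)) (Sum.inr r) =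
          (-1 : Kˣ) ^ (chevG2.cartan 0 r + chevG2.cartan 1 r) from by
        rw [zpow_add]
        refine Eq.trans ?_ (Fin.prod_univ_two (fun k : Fin 2 => (-1 : Kˣ) ^ chevG2.cartan (k : ℕ) (r : ℕ)))
        exact Finset.prod_congr rfl fun k _ => by rw [hc]; rfl]
      show f (if (chevG2.cartan 0 r + chevG2.cartan 1 r) % 2 = 0 then 1 else -1) = _
      generalize chevG2.cartan 0 r + chevG2.cartan 1 r = n
      rw [Units.val_zpow_eq_zpow_val, Units.val_neg, Units.val_one, neg_one_zpow_eq_ite]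
      simp only [Int.even_iff]
      split_ifs <;> simp
  · erw [Matrix.diagonal_apply_ne _ hab, if_neg hab, map_zero]

end CfsgLib.ReeG2
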