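import Cfsg.Agent.ReeG2.Sigma
import Cfsg.Prelude.Def_LieTwisted
import Mathlib

/-!
The group `U` of `G₂(K)` in characteristic three in coordinates, and the fixed points of `σ` in it:
the words `reeWordU (3 ^ m) t u v`.
-/

set_option autoImplicit false
set_option linter.unusedSectionVars false

namespace CfsgLib.ReeG2

open Cfsg.Lie CfsgLib.Chevalley

variable {K : Type*} [Field K]

/-- A word in the group. -/
def wordG (w : List (ℕ × K)) : ↥(GG K) :=
  (w.map fun p => if h : p.1 < 12 then xG ⟨p.1, h⟩ p.2 else 1).prod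

theorem coe_wordG (w : List (ℕ × K)) : ((wordG w : ↥(GG K)) : GL I K) = wordGL good_chevG2 w := by
  induction w with
  | nil => rfl
  | cons p w ih =>
    simp only [wordG, wordGL, List.map_cons, List.prod_cons, Subgroup.coe_mul] at ih ⊢
    rw [ih]
    congr 1
    by_cases h : p.1 < 12
    · rw [dif_pos h, dif_pos (show p.1 < chevG2.nroots from h)]; rfl
    · rw [dif_neg h, dif_neg (show ¬ p.1 < chevG2.nroots from h)]; rfl

theorem comm_xG (r s : R0) (hsr : s ≠ r) (hne : s ≠ r.rev) (t u : K) :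
    xG s u * xG r t = xG r t * xG s u *
      wordG ((chevG2.commTerms r s).map fun c =>
        (c.1, (c.2.1 : K) * (-t) ^ c.2.2.1 * u ^ c.2.2.2)) :=
  Subtype.ext (by
    rw [Subgroup.coe_mul, Subgroup.coe_mul, Subgroup.coe_mul, coe_wordG]
    exact X_comm (R := K) goodW.toGoodComm r s hsr hne t u)

variable [CharP K 3]

theorem three_eq : (3 : K) = 0 := CharP.ofNat_eq_zero K 3

theorem comm_of_dvd (r s : R0) (hsr : s ≠ r) (hne : s ≠ r.rev)
    (h : ∀ c ∈ chevG2.commTerms r s, c.2.1 % 3 = 0) (t u : K) :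
    xG s u * xG r t = xG r t * xG s u := by
  rw [comm_xG r s hsr hne, List.map_congr_left (g := fun c => (c.1, (0 : K))) (fun c hc => by
    rw [cast_zero (h c hc), zero_mul, zero_mul])]
  have : ∀ L : List (ℕ × ℤ × ℕ × ℕ), wordG (L.map fun c => (c.1, (0 : K))) = 1 := by
    intro L
    induction L with
    | nil => rfl
    | cons c L ih =>
      simp only [wordG, List.map_cons, List.prod_cons] at ih ⊢
      rw [ih, mul_one]
      split
      · exact Subtype.ext (X_zero good_chevG2 _)
      · rfl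
  rw [this, mul_one]

theorem xG_zero (r : R0) : xG r (0 : K) = 1 := Subtype.ext (X_zero good_chevG2 _)

theorem c76 (t u : K) : xG (rt 6) u * xG (rt 7) t =
    xG (rt 7) t * xG (rt 6) u * (xG (rt 8) (t * u) * xG (rt 9) (t ^ 2 * u) *
      xG (rt 10) (-(t ^ 3 * u)) * xG (rt 11) (-(t ^ 3 * u ^ 2))) := by
  rw [comm_xG (rt 7) (rt 6) (by decide) (by decide),
    show chevG2.commTerms (rt 7 : R0) (rt 6 : R0) =
      [(8, -1, 1, 1), (9, 1, 2, 1), (10, 1, 3, 1), (11, 1, 3, 2)] by decide +kernel]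
  simp only [List.map_cons, List.map_nil, wordG, List.prod_cons, List.prod_nil,
    show (8 : ℕ) < 12 from by decide, show (9 : ℕ) < 12 from by decide,
    show (10 : ℕ) < 12 from by decide, show (11 : ℕ) < 12 from by decide, dite_true, mul_one]
  simp only [rt, Int.cast_neg, Int.cast_one, mul_assoc]
  congr 1
  congr 1
  congr 2 <;> try ring

theorem c78 (t u : K) : xG (rt 8) u * xG (rt 7) t =
    xG (rt 7) t * xG (rt 8) u * xG (rt 9) (2 * t * u) := by
  rw [comm_xG (rt 7) (rt 8) (by decide) (by decide),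
    show chevG2.commTerms (rt 7 : R0) (rt 8 : R0) =
      [(9, -2, 1, 1), (10, -3, 2, 1), (11, 3, 1, 2)] by decide +kernel]
  simp only [List.map_cons, List.map_nil, wordG, List.prod_cons, List.prod_nil,
    show (9 : ℕ) < 12 from by decide, show (10 : ℕ) < 12 from by decide,
    show (11 : ℕ) < 12 from by decide, dite_true, mul_one, pow_one]
  simp only [Int.cast_neg, Int.cast_ofNat, three_eq, neg_zero, zero_mul, xG_zero, mul_one]
  congr 2
  ring

theorem c610 (t u : K) : xG (rt 10) u * xG (rt 6) t =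
    xG (rt 6) t * xG (rt 10) u * xG (rt 11) (-(t * u)) := by
  rw [comm_xG (rt 6) (rt 10) (by decide) (by decide),
    show chevG2.commTerms (rt 6 : R0) (rt 10 : R0) = [(11, 1, 1, 1)] by decide +kernel]
  simp only [List.map_cons, List.map_nil, wordG, List.prod_cons, List.prod_nil,
    show (11 : ℕ) < 12 from by decide, dite_true, mul_one, pow_one, Int.cast_one, one_mul, neg_mul]
  rfl

/-- The abelian tail of `U`. -/
def tail (c d e f : K) : ↥(GG K) :=
  xG (rt 8) c * xG (rt 9) d * xG (rt 10) e * xG (rt 11) f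

theorem comm_tail_roots : ∀ r s : R0, 8 ≤ (r : ℕ) → 8 ≤ (s : ℕ) → s ≠ r →
    s ≠ r.rev ∧ ∀ c ∈ chevG2.commTerms r s, c.2.1 % 3 = 0 := by decide +kernel

theorem comm_tail (r s : R0) (hr : 8 ≤ (r : ℕ)) (hs : 8 ≤ (s : ℕ)) (t u : K) :
    Commute (xG s u) (xG r t) := by
  rcases eq_or_ne s r with rfl | h
  · show xG s u * xG s t = xG s t * xG s u
    rw [xG_mul, xG_mul, add_comm]
  · obtain ⟨h1, h2⟩ := comm_tail_roots r s hr hs h
    exact comm_of_dvd r s h h1 h2 t u

theorem tail_mul (c d e f c' d' e' f' : K) :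
    tail c d e f * tail c' d' e' f' = tail (c + c') (d + d') (e + e') (f + f') := by
  simp only [tail, ← xG_mul]
  have k := fun (r s : R0) (hr : 8 ≤ (r : ℕ)) (hs : 8 ≤ (s : ℕ)) (t u : K) (z : ↥(GG K)) =>
    (comm_tail r s hr hs t u).left_comm z
  simp only [mul_assoc]
  rw [k (rt 8) (rt 11) (by decide) (by decide), k (rt 8) (rt 10) (by decide) (by decide),
    k (rt 8) (rt 9) (by decide) (by decide), k (rt 9) (rt 11) (by decide) (by decide),
    k (rt 9) (rt 10) (by decide) (by decide), k (rt 10) (rt 11) (by decide) (by decide)]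

theorem tail_mul_xG7 (c d e f A : K) :
    tail c d e f * xG (rt 7) A = xG (rt 7) A * tail c (d + 2 * A * c) e f := by
  have k9 := comm_of_dvd (rt 7) (rt 9) (by decide) (by decide) (by decide +kernel) A d
  have k10 := comm_of_dvd (rt 7) (rt 10) (by decide) (by decide) (by decide +kernel) A e
  have k11 := comm_of_dvd (rt 7) (rt 11) (by decide) (by decide) (by decide +kernel) A f
  simp only [tail]
  rw [mul_assoc _ _ (xG (rt 7) A), k11, ← mul_assoc, mul_assoc _ (xG (rt 10) e), k10, ← mul_assoc,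
    mul_assoc _ (xG (rt 9) d), k9, ← mul_assoc, c78, add_comm d, ← xG_mul]
  simp only [mul_assoc]

theorem tail_mul_xG6 (c d e f b : K) :
    tail c d e f * xG (rt 6) b = xG (rt 6) b * tail c d e (f + -(b * e)) := by
  have k8 := comm_of_dvd (rt 6) (rt 8) (by decide) (by decide) (by decide +kernel) b c
  have k9 := comm_of_dvd (rt 6) (rt 9) (by decide) (by decide) (by decide +kernel) b d
  have k11 := comm_of_dvd (rt 6) (rt 11) (by decide) (by decide) (by decide +kernel) b f
  simp only [tail]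
  rw [mul_assoc _ _ (xG (rt 6) b), k11, ← mul_assoc, mul_assoc _ (xG (rt 10) e), c610,
    ← mul_assoc, ← mul_assoc, mul_assoc _ (xG (rt 9) d), k9, ← mul_assoc, k8, add_comm f, ← xG_mul]
  simp only [mul_assoc]

theorem xG6_mul_xG7 (A b : K) : xG (rt 6) b * xG (rt 7) A =
    xG (rt 7) A * xG (rt 6) b * tail (A * b) (A ^ 2 * b) (-(A ^ 3 * b)) (-(A ^ 3 * b ^ 2)) := c76 A b

/-- Coordinates on `U`. -/
def uElt (A b c d e f : K) : ↥(GG K) := xG (rt 7) A * xG (rt 6) b * tail c d e f

theorem uElt_mul (A b c d e f A' b' c' d' e' f' : K) :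
    uElt A b c d e f * uElt A' b' c' d' e' f' = uElt (A + A') (b + b') (c + c' + A' * b)
      (d + d' + A' ^ 2 * b + 2 * A' * c) (e + e' - A' ^ 3 * b)
      (f + f' - A' ^ 3 * b ^ 2 - b' * (e - A' ^ 3 * b)) := by
  simp only [uElt]
  calc xG (rt 7) A * xG (rt 6) b * tail c d e f * (xG (rt 7) A' * xG (rt 6) b' * tail c' d' e' f')
      = xG (rt 7) A * xG (rt 6) b * (tail c d e f * xG (rt 7) A') *
          (xG (rt 6) b' * tail c' d' e' f') := by group
    _ = xG (rt 7) A * (xG (rt 6) b * xG (rt 7) A') *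
          (tail c (d + 2 * A' * c) e f * xG (rt 6) b') * tail c' d' e' f' := by
        rw [tail_mul_xG7]; group
    _ = xG (rt 7) A * xG (rt 7) A' * xG (rt 6) b *
          (tail (A' * b) (A' ^ 2 * b) (-(A' ^ 3 * b)) (-(A' ^ 3 * b ^ 2)) * xG (rt 6) b') *
          (tail c (d + 2 * A' * c) e (f + -(b' * e)) * tail c' d' e' f') := by
        rw [xG6_mul_xG7, tail_mul_xG6 c]; group
    _ = (xG (rt 7) A * xG (rt 7) A') * (xG (rt 6) b * xG (rt 6) b') *
          (tail (A' * b) (A' ^ 2 * b) (-(A' ^ 3 * b)) (-(A' ^ 3 * b ^ 2) + -(b' * -(A' ^ 3 * b))) *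
            (tail c (d + 2 * A' * c) e (f + -(b' * e)) * tail c' d' e' f')) := by
        rw [tail_mul_xG6]; group
    _ = _ := by
        rw [xG_mul, xG_mul, tail_mul, tail_mul]
        congr 2 <;> ring

theorem uElt_eq_swapped (A b c d e f : K) : uElt A b c d e f =
    xG (rt 6) b * xG (rt 7) A *
      tail (c - A * b) (d - A ^ 2 * b) (e + A ^ 3 * b) (f + A ^ 3 * b ^ 2) := by
  rw [xG6_mul_xG7, uElt, mul_assoc _ (tail _ _ _ _), tail_mul]
  congr 2 <;> ring

theorem prodFrom_six (t : ℕ → K) :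
    prodFrom good_chevG2 false t 6 6 =
      ((xG (rt 6) (t 6) * xG (rt 7) (t 7) * tail (t 8) (t 9) (t 10) (t 11) : ↥(GG K)) : GL I K) := by
  simp only [prodFrom, tail, List.range'_succ, List.range'_zero, List.map_cons, List.map_nil,
    List.prod_cons, List.prod_nil, mul_one, Subgroup.coe_mul, mul_assoc]
  have : ∀ (k : ℕ) (h : k < 12), rootOf good_chevG2 false k = ⟨k, h⟩ := fun k h =>
    rootOf_false good_chevG2 h
  rw [this 6 (by decide), this (6 + 1) (by decide), this (6 + 1 + 1) (by decide),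
    this (6 + 1 + 1 + 1) (by decide), this (6 + 1 + 1 + 1 + 1) (by decide),
    this (6 + 1 + 1 + 1 + 1 + 1) (by decide)]
  rfl

theorem pos_eq : chevG2.posUnipotent K = uGe good_chevG2 K false 6 :=
  posUnipotent_eq good_chevG2

theorem exists_uElt {g : GL I K} (hg : g ∈ chevG2.posUnipotent K) :
    ∃ A b c d e f : K, ((uElt A b c d e f : ↥(GG K)) : GL I K) = g := by
  rw [pos_eq] at hg
  obtain ⟨t, ht⟩ := exists_prodFrom goodW.toGoodComm 6 6 (le_refl _) rfl g hg
  refine ⟨t 7, t 6, t 8 + t 7 * t 6, t 9 + t 7 ^ 2 * t 6, t 10 - t 7 ^ 3 * t 6,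
    t 11 - t 7 ^ 3 * t 6 ^ 2, ?_⟩
  rw [← ht, uElt_eq_swapped]
  refine Eq.trans ?_ (prodFrom_six t).symm
  congr 3 <;> ring

theorem uElt_mem_pos (A b c d e f : K) :
    ((uElt A b c d e f : ↥(GG K)) : GL I K) ∈ chevG2.posUnipotent K := by
  simp only [uElt, tail, Subgroup.coe_mul]
  have h : ∀ (r : R0) (x : K), 6 ≤ (r : ℕ) → ((xG r x : ↥(GG K)) : GL I K) ∈ chevG2.posUnipotent K :=
    fun r x hr => X_mem_pos good_chevG2 hr x
  exact mul_mem (mul_mem (h _ _ (by decide)) (h _ _ (by decide)))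
    (mul_mem (mul_mem (mul_mem (h _ _ (by decide)) (h _ _ (by decide))) (h _ _ (by decide)))
      (h _ _ (by decide)))

theorem uElt_inj {A b c d e f A' b' c' d' e' f' : K}
    (h : uElt A b c d e f = uElt A' b' c' d' e' f') :
    A = A' ∧ b = b' ∧ c = c' ∧ d = d' ∧ e = e' ∧ f = f' := by
  rw [uElt_eq_swapped, uElt_eq_swapped] at h
  let mkf : K → K → K → K → K → K → ℕ → K := fun a b c d e f j =>
    if j = 6 then a else if j = 7 then b else if j = 8 then c else if j = 9 then d
    else if j = 10 then e else f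
  have h' := congrArg (fun x : ↥(GG K) => (x : GL I K)) h
  have hh := prodFrom_injective goodW.toGoodUni (b := false) 6 6 (le_refl _) rfl
    (mkf b A (c - A * b) (d - A ^ 2 * b) (e + A ^ 3 * b) (f + A ^ 3 * b ^ 2))
    (mkf b' A' (c' - A' * b') (d' - A' ^ 2 * b') (e' + A' ^ 3 * b') (f' + A' ^ 3 * b' ^ 2))
    (by rw [prodFrom_six, prodFrom_six]; simpa [mkf] using h')
  have h6 := hh 6 (by decide) (by decide)
  have h7 := hh 7 (by decide) (by decide)
  have h8 := hh 8 (by decide) (by decide)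
  have h9 := hh 9 (by decide) (by decide)
  have h10 := hh 10 (by decide) (by decide)
  have h11 := hh 11 (by decide) (by decide)
  simp [mkf] at h6 h7 h8 h9 h10 h11
  subst h6 h7
  refine ⟨rfl, rfl, ?_, ?_, ?_, ?_⟩
  · simpa using h8
  · simpa using h9
  · simpa using h10
  · simpa using h11

section Fixed

variable (m : ℕ)

theorem sigma_uElt (A b c d e f : K) :
    sigma K m (uElt A b c d e f) = uElt (theta m b) (theta m A ^ 3)
      (theta m b * theta m A ^ 3 + theta m e) (theta m b ^ 2 * theta m A ^ 3 + theta m f)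
      (-(theta m b ^ 3 * theta m A ^ 3) + theta m c ^ 3)
      (-(theta m b ^ 3 * (theta m A ^ 3) ^ 2) + theta m d ^ 3) := by
  simp only [uElt, tail, map_mul, sigma_xG]
  rw [show bar (rt 7) = rt 6 from rfl, show bar (rt 6) = rt 7 from rfl,
    show bar (rt 8) = rt 10 from rfl, show bar (rt 9) = rt 11 from rfl,
    show bar (rt 10) = rt 8 from rfl, show bar (rt 11) = rt 9 from rfl,
    show lam (rt 7) = 3 from rfl, show lam (rt 6) = 1 from rfl, show lam (rt 8) = 3 from rfl,
    show lam (rt 9) = 3 from rfl, show lam (rt 10) = 1 from rfl, show lam (rt 11) = 1 from rfl]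
  simp only [pow_one, theta_pow]
  rw [xG6_mul_xG7]
  have hre : ∀ c d e f : K, xG (rt 10) e * xG (rt 11) f * xG (rt 8) c * xG (rt 9) d = tail c d e f := by
    intro c d e f
    have := tail_mul 0 0 e f c d 0 0
    simpa [tail, xG_zero, mul_assoc] using this
  have h2 := tail_mul (theta m b * theta m A ^ 3) (theta m b ^ 2 * theta m A ^ 3)
    (-(theta m b ^ 3 * theta m A ^ 3)) (-(theta m b ^ 3 * (theta m A ^ 3) ^ 2))
    (theta m e) (theta m f) (theta m c ^ 3) (theta m d ^ 3)
  rw [show ∀ P Q R' S T' : ↥(GG K), P * Q * (R' * S * T' * (xG (rt 9) (theta m f))) =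
    P * (Q * (R' * S * T' * (xG (rt 9) (theta m f)))) from fun P Q R' S T' => by group, hre,
    mul_assoc, mul_assoc]
  rw [show ∀ P Q T' : ↥(GG K), P * (Q * T') = P * Q * T' from fun P Q T' => by group]
  simp only [mul_assoc] at h2 ⊢
  rw [h2]
  simp only [tail, mul_assoc]

/-- The fixed elements of `U`, in their coordinates. -/
def wordU (t u v : K) : ↥(GG K) :=
  uElt (theta m t) t (theta m t * t + theta m u) (theta m t ^ 2 * t + theta m v) u v

theorem coe_wordU (t u v : K) :
    (((wordU m t u v : ↥(GG K)) : GL I K) : Matrix I I K) =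
      chevG2.wordMat K (reeWordU (3 ^ m) t u v) := by
  rw [← coe_wordGL good_chevG2, ← coe_wordG]
  refine congrArg (fun g : ↥(GG K) => ((g : GL I K) : Matrix I I K)) ?_
  simp only [wordG, reeWordU, g2a, g2b, g2ab, g2aab, g2aaab, g2aaabb, List.map_cons, List.map_nil,
    List.prod_cons, List.prod_nil, show (7 : ℕ) < 12 from by decide,
    show (6 : ℕ) < 12 from by decide, show (8 : ℕ) < 12 from by decide,
    show (9 : ℕ) < 12 from by decide, show (10 : ℕ) < 12 from by decide,
    show (11 : ℕ) < 12 from by decide, dite_true, mul_one, wordU, uElt, tail, theta, mul_assoc]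
  simp only [pow_add, pow_mul, pow_one, mul_comm 2]
  rfl

variable {m}

theorem theta_theta [Finite K] (hK : Nat.card K = 3 ^ (2 * m + 1)) (t : K) :
    theta m (theta m t) ^ 3 = t := by
  haveI := Fintype.ofFinite K
  have h := FiniteField.pow_card t
  rw [← Nat.card_eq_fintype_card, hK] at h
  simp only [theta, ← pow_mul]
  rwa [show 3 ^ m * 3 ^ m * 3 = 3 ^ (2 * m + 1) by rw [pow_succ, two_mul, pow_add]]

theorem fixed_uElt_iff [Finite K] (hK : Nat.card K = 3 ^ (2 * m + 1)) (A b c d e f : K) :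
    sigma K m (uElt A b c d e f) = uElt A b c d e f ↔ uElt A b c d e f = wordU m b e f := by
  rw [sigma_uElt]
  have hA : theta m (theta m b) ^ 3 = b := theta_theta hK b
  constructor
  · intro h
    obtain ⟨h1, h2, h3, h4, -, -⟩ := uElt_inj h
    rw [wordU]
    congr 1
    · exact h1.symm
    · rw [← h3, h2]
    · rw [← h4, h2]
  · intro h
    obtain ⟨h1, -, h3, h4, -, -⟩ := uElt_inj h
    subst h1 h3 h4
    rw [hA]
    congr 1
    · rw [theta_add, theta_mul, add_pow_char, mul_pow, hA, theta_theta hK]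
      ring
    · rw [theta_add, theta_mul, theta_pow, add_pow_char, mul_pow, ← pow_mul (theta m (theta m b)),
        mul_comm 2 3, pow_mul, hA, theta_theta hK]
      ring

theorem wordU_fixed [Finite K] (hK : Nat.card K = 3 ^ (2 * m + 1)) (t u v : K) :
    sigma K m (wordU m t u v) = wordU m t u v :=
  (fixed_uElt_iff hK _ _ _ _ _ _).2 rfl

theorem pos_fix_iff [Finite K] (hK : Nat.card K = 3 ^ (2 * m + 1)) {g : GL I K} :
    g ∈ chevG2.posUnipotent K ⊓ fixG K m ↔ ∃ t u v : K, ((wordU m t u v : ↥(GG K)) : GL I K) = g := by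
  constructor
  · rintro ⟨hg, hfix⟩
    obtain ⟨A, b, c, d, e, f, rfl⟩ := exists_uElt hg
    exact ⟨b, e, f, congrArg (fun x : ↥(GG K) => (x : GL I K))
      ((fixed_uElt_iff hK A b c d e f).1 (coe_mem_fixG.1 hfix)).symm⟩
  · rintro ⟨t, u, v, rfl⟩
    exact ⟨uElt_mem_pos _ _ _ _ _ _, coe_mem_fixG.2 (wordU_fixed hK t u v)⟩

theorem wordU_inj {t u v t' u' v' : K} (h : wordU m t u v = wordU m t' u' v') :
    t = t' ∧ u = u' ∧ v = v' := by
  obtain ⟨-, h2, -, -, h5, h6⟩ := uElt_inj h
  exact ⟨h2, h5, h6⟩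

theorem wordU_mul [Finite K] (hK : Nat.card K = 3 ^ (2 * m + 1)) (t u v t' u' v' : K) :
    wordU m t u v * wordU m t' u' v' = wordU m (t + t') (u + u' - theta m t' ^ 3 * t)
      (v + v' - t' * u + theta m t' ^ 3 * (t * t' - t ^ 2)) := by
  have hc : ∀ x : K, theta m (theta m x) ^ 3 = x := theta_theta hK
  have h3 : (3 : K) = 0 := three_eq
  rw [wordU, wordU, uElt_mul, wordU]
  have htt : theta m (theta m t' ^ 3 * t) = t' * theta m t := by
    rw [theta_mul, theta_pow, hc]
  have htt2 : theta m (theta m t' ^ 3 * (t * t' - t ^ 2)) =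
      t' * (theta m t * theta m t' - theta m t ^ 2) := by
    rw [theta_mul, theta_pow, hc, sub_eq_add_neg, theta_add, theta_neg, theta_mul, theta_pow,
      sub_eq_add_neg]
  congr 1
  · rw [theta_add]
  · rw [sub_eq_add_neg (u + u'), theta_add, theta_add, theta_neg, theta_add, htt]
    ring
  · rw [theta_add, theta_add, sub_eq_add_neg (v + v'), theta_add, theta_add, theta_neg, theta_mul,
      htt2]
    linear_combination (theta m t' * theta m u - theta m t * theta m t' * t') * h3
  · ring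

end Fixed

end CfsgLib.ReeG2
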