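import Cfsg.Agent.ReeG2.Structure
import Mathlib

/-!
`²G₂(q)`: odd order elements of `H¹`, elements of order three of `U¹`, three point stabilisers,
the Sylow 3-subgroups meet trivially.
-/

set_option autoImplicit false
set_option linter.unusedSectionVars false
set_option linter.style.haveILetI false

namespace CfsgLib.ReeG2

open Cfsg.Lie CfsgLib.Chevalley

variable {K : Type*} [Field K] [CharP K 3] {m : ℕ}

theorem two_part (m : ℕ) : ∃ r, 3 ^ (2 * m + 1) - 1 = 2 * r ∧ Odd r := by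
  have h : 3 ^ (2 * m + 1) % 4 = 3 := by
    rw [pow_succ, pow_mul, Nat.mul_mod, Nat.pow_mod]
    norm_num
  generalize 3 ^ (2 * m + 1) = q at h ⊢
  refine ⟨(q - 1) / 2, by omega, ?_⟩
  rw [Nat.odd_iff]
  omega

section Finite

variable [Finite K] (hK : Nat.card K = 3 ^ (2 * m + 1))
include hK

/-- `H¹` has `(q - 1) / 2` elements of odd order. -/
theorem two_mul_card_odd :
    2 * Nat.card {B : Kˣ // Odd (orderOf B)} = 3 ^ (2 * m + 1) - 1 := by
  classical
  haveI := Fintype.ofFinite Kˣ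
  obtain ⟨r, hr, hro⟩ := two_part m
  have hcard : Nat.card Kˣ = 2 * r := (natCard_units_eq hK).trans hr
  have hr0 : 0 < r := hro.pos
  have e : ∀ B : Kˣ, Odd (orderOf B) ↔ B ^ r = 1 := fun B => by
    constructor
    · intro h
      apply orderOf_dvd_iff_pow_eq_one.1
      have hd : orderOf B ∣ 2 * r := hcard ▸ orderOf_dvd_natCard B
      exact (Nat.coprime_two_right.2 h).dvd_of_dvd_mul_left hd
    · intro h
      exact hro.of_dvd_nat (orderOf_dvd_iff_pow_eq_one.2 h)
  rw [hr, Nat.card_congr (Equiv.subtypeEquivRight e)]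
  have h2 : Nat.card (powMonoidHom r : Kˣ →* Kˣ).ker = r := by
    rw [IsCyclic.card_powMonoidHom_ker, hcard, Nat.gcd_eq_right (dvd_mul_left r 2)]
  have h3 : Nat.card {B : Kˣ // B ^ r = 1} = Nat.card (powMonoidHom r : Kˣ →* Kˣ).ker :=
    Nat.card_congr (Equiv.subtypeEquivRight fun B => Iff.rfl)
  rw [h3, h2]

theorem char_ne_one {B : Kˣ} (hB : B ≠ 1) (hodd : Odd (orderOf B)) :
    (B : K) ≠ 1 ∧ theta m (B : K) ^ 3 * B ≠ 1 ∧ theta m (B : K) ^ 3 * B ^ 2 ≠ 1 := by
  have h1 : (B : K) ≠ 1 := fun h => hB (Units.ext h)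
  refine ⟨h1, fun h => ?_, fun h => hB ((char_kernels hK).2 h)⟩
  rcases sq_eq_one_iff.1 ((char_kernels hK).1 h) with h' | h'
  · exact h1 h'
  · have e : B = -1 := Units.ext (by simpa using h')
    subst e
    have h2 : orderOf (-1 : Kˣ) = 2 := orderOf_eq_prime (by simp) hB
    rw [h2] at hodd
    exact absurd hodd (by decide)

/-- An element of odd order of `H¹` commutes with no element of `U¹` but the identity. -/
theorem pos_inf_centralizer {h : GL I K} (hh1 : h ∈ chevG2.diagonalSubgroup K ⊓ Tw K m)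
    (hne : h ≠ 1) (hodd : Odd (orderOf h)) :
    (chevG2.posUnipotent K ⊓ Tw K m) ⊓ Subgroup.centralizer {h} = ⊥ := by
  rw [eq_bot_iff]
  rintro g ⟨hg, hc⟩
  obtain ⟨t, u, v, rfl⟩ := (pos_tw_iff hK).1 hg
  obtain ⟨B, rfl⟩ := (diag_tw_iff hK).1 hh1
  have hB : B ≠ 1 := by
    rintro rfl
    exact hne (by rw [one_pow, hh_one]; rfl)
  have ho : orderOf B = orderOf (((hh (B ^ 3 ^ m) B : ↥(GG K)) : GL I K)) := by
    rw [← orderOf_injective (torusEquiv hK).toMonoidHom (torusEquiv hK).injective B,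
      ← Subgroup.orderOf_coe]
    rfl
  obtain ⟨k1, k2, k3⟩ := char_ne_one hK hB (ho ▸ hodd)
  have e : hh (B ^ 3 ^ m) B * wordU m t u v * (hh (B ^ 3 ^ m) B)⁻¹ = wordU m t u v := by
    rw [mul_inv_eq_iff_eq_mul]
    exact Subtype.ext (Subgroup.mem_centralizer_singleton_iff.1 hc).symm
  rw [hh_conj_wordU hK] at e
  obtain ⟨e1, e2, e3⟩ := wordU_inj e
  obtain rfl : t = 0 := by
    by_contra h
    exact k1 ((mul_eq_right₀ h).1 e1)
  obtain rfl : u = 0 := by
    by_contra h
    exact k2 ((mul_eq_right₀ h).1 e2)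
  obtain rfl : v = 0 := by
    by_contra h
    exact k3 ((mul_eq_right₀ h).1 e3)
  rw [wordU_zero]
  exact one_mem _

/-- The cube of an element of `U¹`. -/
theorem wordU_cube (t u v : K) :
    wordU m t u v ^ 3 = wordU m 0 0 (-(theta m t ^ 3 * t ^ 2)) := by
  have h3 : (3 : K) = 0 := three_eq
  rw [pow_succ, pow_two, wordU_mul hK, wordU_mul hK]
  congr 1
  · linear_combination t * h3
  · linear_combination (u - theta m t ^ 3 * t) * h3
  · linear_combination (v - t * u) * h3

/-- `U¹` has `q² - 1` elements of order three. -/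
theorem card_order_three :
    Nat.card {g : ↥(chevG2.posUnipotent K ⊓ Tw K m) // orderOf g = 3} =
      (3 ^ (2 * m + 1)) ^ 2 - 1 := by
  classical
  haveI := Fintype.ofFinite K
  haveI : Fact (Nat.Prime 3) := ⟨Nat.prime_three⟩
  let φ : {x : K × K // x ≠ 0} → {g : ↥(chevG2.posUnipotent K ⊓ Tw K m) // orderOf g = 3} :=
    fun x => ⟨⟨((wordU m 0 x.1.1 x.1.2 : ↥(GG K)) : GL I K),
      (pos_tw_iff hK).2 ⟨_, _, _, rfl⟩⟩, by
      refine orderOf_eq_prime (Subtype.ext ?_) ?_
      · show ((wordU m 0 x.1.1 x.1.2 : ↥(GG K)) : GL I K) ^ 3 = 1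
        rw [← Subgroup.coe_pow, wordU_cube hK]
        simp [theta_zero, wordU_zero]
      · intro h
        have h' : wordU m (0 : K) x.1.1 x.1.2 = wordU m 0 0 0 := by
          rw [wordU_zero]
          exact Subtype.ext (congrArg (fun z : ↥(chevG2.posUnipotent K ⊓ Tw K m) => (z : GL I K)) h)
        obtain ⟨-, e1, e2⟩ := wordU_inj h'
        exact x.2 (Prod.ext e1 e2)⟩
  have hφ : Function.Bijective φ := by
    refine ⟨fun x y h => ?_, fun g => ?_⟩
    · have h' := congrArg (fun z : {g : ↥(chevG2.posUnipotent K ⊓ Tw K m) // orderOf g = 3} =>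
        ((z.1 : ↥(chevG2.posUnipotent K ⊓ Tw K m)) : GL I K)) h
      obtain ⟨-, e1, e2⟩ := wordU_inj (Subtype.ext h')
      exact Subtype.ext (Prod.ext e1 e2)
    · obtain ⟨⟨g, hg⟩, ho⟩ := g
      obtain ⟨t, u, v, rfl⟩ := (pos_tw_iff hK).1 hg
      have hc : wordU m t u v ^ 3 = 1 := by
        have := congrArg Subtype.val (orderOf_dvd_iff_pow_eq_one.1 (dvd_of_eq ho))
        exact Subtype.ext this
      rw [wordU_cube hK, ← wordU_zero (m := m)] at hc
      have h0 := (wordU_inj hc).2.2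
      obtain rfl : t = 0 := by
        rw [neg_eq_zero, mul_eq_zero] at h0
        rcases h0 with h | h
        · have h' := pow_eq_zero_iff (by decide : 3 ≠ 0) |>.1 h
          exact (pow_eq_zero_iff (pow_ne_zero m (by decide : (3 : ℕ) ≠ 0))).1 h'
        · exact (pow_eq_zero_iff (by decide)).1 h
      refine ⟨⟨(u, v), fun h => ?_⟩, rfl⟩
      obtain ⟨rfl, rfl⟩ := Prod.ext_iff.1 h
      have h1 : (⟨_, hg⟩ : ↥(chevG2.posUnipotent K ⊓ Tw K m)) = 1 := Subtype.ext (by
        show ((wordU m (0 : K) 0 0 : ↥(GG K)) : GL I K) = 1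
        rw [wordU_zero]
        rfl)
      have ho' : orderOf (⟨_, hg⟩ : ↥(chevG2.posUnipotent K ⊓ Tw K m)) = 3 := ho
      rw [h1, orderOf_one] at ho'
      exact absurd ho' (by decide)
  rw [← Nat.card_eq_of_bijective φ hφ, Nat.card_eq_fintype_card, Fintype.card_subtype_compl,
    Fintype.card_subtype_eq, Fintype.card_prod, ← Nat.card_eq_fintype_card, hK, pow_two]

end Finite

end CfsgLib.ReeG2
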